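import Mathlib

/-!
# Fourier analysis on the cyclic part of a dihedral Sylow 2-subgroup (abstract form) (helper75)
-/

set_option autoImplicit false

namespace Cfsg.Agent.Lib.Helper75.DihFou

open scoped ComplexConjugate

/-- abstract data: `X χ k` are the values of the characters `χ ∈ B` on `σ^k`. -/
structure Dat {ι : Type*} (B : Finset ι) (N : ℕ) [NeZero N] (ψ : AddChar (ZMod N) ℂ)
    (X : ι → ZMod N → ℂ) (D : ZMod N → ι → ℤ) : Prop where
  prim : ψ.IsPrimitive
  X_neg : ∀ χ k, X χ (-k) = X χ k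
  col : ∀ k : ZMod N, k ≠ 0 → ∀ l : ZMod N, ∑ χ ∈ B, X χ k * X χ l
    = (N : ℂ) * ((if l = k then 1 else 0) + (if l = -k then 1 else 0))
  hD : ∀ j χ, (N : ℂ) * (D j χ : ℂ) = ∑ k, X χ k * (1 - ψ (k * j))

namespace Dat

variable {ι : Type*} {B : Finset ι} {N : ℕ} [NeZero N] {ψ : AddChar (ZMod N) ℂ}
  {X : ι → ZMod N → ℂ} {D : ZMod N → ι → ℤ}

theorem N_ne : (N : ℂ) ≠ 0 := by exact_mod_cast NeZero.ne N

theorem sum_psi (h : Dat B N ψ X D) (b : ZMod N) :
    ∑ x : ZMod N, ψ (x * b) = if b = 0 then (N : ℂ) else 0 := by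
  rw [AddChar.sum_mulShift b h.prim, ZMod.card]
  split_ifs <;> simp

/-- orthogonality to the columns is inherited by the `D j`. -/
theorem sum_D_mul (h : Dat B N ψ X D) (Y : ι → ℂ) (hY : ∀ k : ZMod N, k ≠ 0 → ∑ χ ∈ B, X χ k * Y χ = 0)
    (j : ZMod N) : ∑ χ ∈ B, (D j χ : ℂ) * Y χ = 0 := by
  have h1 : (N : ℂ) * ∑ χ ∈ B, (D j χ : ℂ) * Y χ = 0 := by
    rw [Finset.mul_sum]
    have : ∀ χ ∈ B, (N : ℂ) * ((D j χ : ℂ) * Y χ) = ∑ k, (1 - ψ (k * j)) * (X χ k * Y χ) := by
      intro χ _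
      rw [← mul_assoc, h.hD, Finset.sum_mul]
      refine Finset.sum_congr rfl fun k _ => ?_
      ring
    rw [Finset.sum_congr rfl this, Finset.sum_comm]
    apply Finset.sum_eq_zero
    intro k _
    rw [← Finset.mul_sum]
    by_cases hk : k = 0
    · rw [hk, zero_mul, AddChar.map_zero_eq_one, sub_self, zero_mul]
    · rw [hY k hk, mul_zero]
  exact (mul_eq_zero.1 h1).resolve_left N_ne

/-- the values of `∑ D j χ · χ` on `σ^l`. -/
theorem sum_D_X (h : Dat B N ψ X D) (j l : ZMod N) (hl : l ≠ 0) :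
    ∑ χ ∈ B, (D j χ : ℂ) * X χ l = (1 - ψ (l * j)) + (1 - ψ (-l * j)) := by
  have h1 : (N : ℂ) * ∑ χ ∈ B, (D j χ : ℂ) * X χ l
      = (N : ℂ) * ((1 - ψ (l * j)) + (1 - ψ (-l * j))) := by
    rw [Finset.mul_sum]
    have : ∀ χ ∈ B, (N : ℂ) * ((D j χ : ℂ) * X χ l) = ∑ k, (1 - ψ (k * j)) * (X χ k * X χ l) := by
      intro χ _
      rw [← mul_assoc, h.hD, Finset.sum_mul]
      refine Finset.sum_congr rfl fun k _ => ?_
      ring
    rw [Finset.sum_congr rfl this, Finset.sum_comm]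
    have h2 : ∀ k : ZMod N, ∑ χ ∈ B, (1 - ψ (k * j)) * (X χ k * X χ l)
        = (N : ℂ) * ((if k = l then (1 - ψ (k * j)) else 0) + (if k = -l then (1 - ψ (k * j)) else 0)) := by
      intro k
      rw [← Finset.mul_sum]
      by_cases hk : k = 0
      · have e1 : ¬ (0 : ZMod N) = l := fun e => hl e.symm
        have e2 : ¬ (0 : ZMod N) = -l := fun e => hl (neg_eq_zero.1 e.symm)
        rw [hk, zero_mul, AddChar.map_zero_eq_one, sub_self, zero_mul, if_neg e1, if_neg e2]
        simp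
      · rw [h.col k hk l]
        have e1 : (l = k) ↔ (k = l) := eq_comm
        have e2 : (l = -k) ↔ (k = -l) := by
          constructor
          · intro e; rw [e, neg_neg]
          · intro e; rw [e, neg_neg]
        simp only [e1, e2]
        split_ifs <;> ring
    simp only [h2]
    rw [← Finset.mul_sum, Finset.sum_add_distrib, Finset.sum_ite_eq' , Finset.sum_ite_eq']
    simp
  exact mul_left_cancel₀ N_ne h1

/-- the Gram matrix -/
theorem gram (h : Dat B N ψ X D) (i j : ZMod N) (hi : i ≠ 0) (hj : j ≠ 0) :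
    ∑ χ ∈ B, (D i χ : ℂ) * (D j χ : ℂ)
      = 2 + (if i = j then 1 else 0) + (if i = -j then 1 else 0) := by
  have h1 : (N : ℂ) * ∑ χ ∈ B, (D i χ : ℂ) * (D j χ : ℂ)
      = (N : ℂ) * (2 + (if i = j then 1 else 0) + (if i = -j then 1 else 0)) := by
    rw [Finset.mul_sum]
    have : ∀ χ ∈ B, (N : ℂ) * ((D i χ : ℂ) * (D j χ : ℂ))
        = ∑ l, (1 - ψ (l * j)) * ((D i χ : ℂ) * X χ l) := by
      intro χ _
      rw [mul_left_comm, h.hD, Finset.mul_sum]
      refine Finset.sum_congr rfl fun k _ => ?_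
      ring
    rw [Finset.sum_congr rfl this, Finset.sum_comm]
    have h2 : ∀ l : ZMod N, ∑ χ ∈ B, (1 - ψ (l * j)) * ((D i χ : ℂ) * X χ l)
        = 2 - ψ (l * i) - ψ (l * (-i)) - 2 * ψ (l * j) + ψ (l * (j + i)) + ψ (l * (j - i)) := by
      intro l
      rw [← Finset.mul_sum]
      by_cases hl : l = 0
      · simp [hl, AddChar.map_zero_eq_one]
        ring
      · rw [h.sum_D_X i l hl]
        have e1 : ψ (l * (j + i)) = ψ (l * j) * ψ (l * i) := by
          rw [mul_add, AddChar.map_add_eq_mul]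
        have e2 : ψ (l * (j - i)) = ψ (l * j) * ψ (l * (-i)) := by
          rw [sub_eq_add_neg, mul_add, AddChar.map_add_eq_mul]
        have e3 : -l * i = l * (-i) := by ring
        rw [e1, e2, e3]
        ring
    simp only [h2]
    rw [Finset.sum_add_distrib, Finset.sum_add_distrib, Finset.sum_sub_distrib,
      Finset.sum_sub_distrib, Finset.sum_sub_distrib, ← Finset.mul_sum, h.sum_psi, h.sum_psi,
      h.sum_psi, h.sum_psi, h.sum_psi, if_neg hi, if_neg hj, if_neg (neg_ne_zero.2 hi)]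
    have e1 : (j + i = 0) ↔ (i = -j) := by
      constructor
      · intro e; exact eq_neg_of_add_eq_zero_right e
      · intro e; rw [e]; ring
    have e2 : (j - i = 0) ↔ (i = j) := by
      rw [sub_eq_zero]; exact eq_comm
    simp only [e1, e2, Finset.sum_const, Finset.card_univ, ZMod.card, nsmul_eq_mul]
    split_ifs <;> ring
  exact mul_left_cancel₀ N_ne h1

theorem D_neg (h : Dat B N ψ X D) (j : ZMod N) (χ : ι) : D (-j) χ = D j χ := by
  have h1 : (N : ℂ) * (D (-j) χ : ℂ) = (N : ℂ) * (D j χ : ℂ) := by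
    rw [h.hD, h.hD, ← Equiv.sum_comp (Equiv.neg (ZMod N))]
    refine Finset.sum_congr rfl fun k _ => ?_
    simp only [Equiv.neg_apply]
    rw [h.X_neg, neg_mul_neg]
  exact_mod_cast mul_left_cancel₀ N_ne h1

theorem D_zero (h : Dat B N ψ X D) (χ : ι) : D 0 χ = 0 := by
  have h1 := h.hD 0 χ
  simp only [mul_zero, AddChar.map_zero_eq_one, sub_self, Finset.sum_const_zero] at h1
  exact_mod_cast (mul_eq_zero.1 h1).resolve_left N_ne

/-- Fourier inversion -/
theorem inversion (h : Dat B N ψ X D) (χ : ι) (l : ZMod N) (hl : l ≠ 0) :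
    X χ l = - ∑ j, (D j χ : ℂ) * ψ (j * (-l)) := by
  have h1 : (N : ℂ) * ∑ j, (D j χ : ℂ) * ψ (j * (-l)) = (N : ℂ) * (- X χ l) := by
    rw [Finset.mul_sum]
    have : ∀ j : ZMod N, (N : ℂ) * ((D j χ : ℂ) * ψ (j * (-l)))
        = ∑ k, X χ k * (ψ (j * (-l)) - ψ (j * (k - l))) := by
      intro j
      rw [← mul_assoc, h.hD, Finset.sum_mul]
      refine Finset.sum_congr rfl fun k _ => ?_
      have e1 : ψ (j * (k - l)) = ψ (k * j) * ψ (j * (-l)) := by
        rw [← AddChar.map_add_eq_mul]; congr 1; ring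
      rw [e1]; ring
    simp only [this]
    rw [Finset.sum_comm]
    have h2 : ∀ k : ZMod N, ∑ j, X χ k * (ψ (j * (-l)) - ψ (j * (k - l)))
        = if k = l then -((N : ℂ) * X χ k) else 0 := by
      intro k
      rw [← Finset.mul_sum, Finset.sum_sub_distrib, h.sum_psi, h.sum_psi,
        if_neg (neg_ne_zero.2 hl)]
      simp only [sub_eq_zero]
      split_ifs <;> ring
    simp only [h2]
    rw [Finset.sum_ite_eq']
    simp
  have h2 := mul_left_cancel₀ N_ne h1
  rw [h2, neg_neg]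

end Dat

end Cfsg.Agent.Lib.Helper75.DihFou
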