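import Mathlib
import Cfsg.Agent.Lib.Helper75.BSQ8Core

/-!
# Columns of the principal block at `p`-elements with `p`-nilpotent centralizer (helper75)

If `u` is a `p`-element whose centralizer has a normal `p`-complement, then the characters of the
principal block are constant on the `p`-section of `u` and
`∑_{χ ∈ B₀} χ(u⁻¹) χ(g)` is `|C(u)|_p` on the section of `u` and `0` elsewhere.
-/

set_option autoImplicit false

namespace Cfsg.Agent.Lib.Helper75

open Cfsg Cfsg.Agent.Lib.Helper78 Cfsg.Agent.Lib.Helper4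
open scoped ComplexConjugate

noncomputable section

/-- `u` is a `p`-element, all `p`-regular elements of `C(u)` lie in `O_{p'}(C(u))`, which has
index `a` in `C(u)`. -/
structure NilCen {G : Type*} [Group G] (p : ℕ) (u : G) (a : ℕ) : Prop where
  isP : ∃ k : ℕ, orderOf u = p ^ k
  core : ∀ y : G, Commute u y → ¬ p ∣ orderOf y → y ∈ centralizerPPrimeCore p u
  count : a * Nat.card {c : Cen u // ¬ p ∣ orderOf c} = Nat.card (Cen u)

open Classical in
/-- `g ↦ ∑_{χ ∈ B₀} χ(u⁻¹) χ(g)`. -/
def colFun {G : Type*} [Group G] [Fintype G] (M : Ideal AlgInt) (u : G) (g : G) : ℂ :=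
  ∑ χ : IrrCharacter G, if χ ∈ principalBlock M G then (χ : G → ℂ) u⁻¹ * (χ : G → ℂ) g else 0

namespace NilCen

variable {G : Type*} [Group G] [Fintype G] {p : ℕ} [Fact p.Prime] {u : G} {a : ℕ}
  {M : Ideal AlgInt}

/-- principal block characters are constant on the section of `u`. -/
theorem val_sec (h : NilCen p u a) (hM : IsPModular p M) (χ : IrrCharacter G)
    (hχ : χ ∈ principalBlock M G) {g z : G} (hg : IsPPart p g z) (hz : IsConj u z) :
    (χ : G → ℂ) g = (χ : G → ℂ) u := by
  obtain ⟨y, hzy, hcomm, -, hy⟩ := hg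
  obtain ⟨c, hc⟩ := isConj_iff.1 hz
  have e1 : g = c * (u * (c⁻¹ * y * c)) * c⁻¹ := by
    rw [← hzy, ← hc]; group
  rw [e1, irr_isClassFunction χ]
  apply Cfsg.Agent.S0942.result p M hM u h.isP _ _ χ hχ
  apply h.core
  · have h1 : Commute (c * u * c⁻¹) y := by rw [hc]; exact hcomm
    have h2 : c * u * c⁻¹ * y = y * (c * u * c⁻¹) := h1.eq
    show u * (c⁻¹ * y * c) = (c⁻¹ * y * c) * u
    calc u * (c⁻¹ * y * c) = c⁻¹ * (c * u * c⁻¹ * y) * c := by group
      _ = c⁻¹ * (y * (c * u * c⁻¹)) * c := by rw [h2]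
      _ = (c⁻¹ * y * c) * u := by group
  · have : orderOf (c⁻¹ * y * c) = orderOf y := by
      have := Cfsg.Agent.Lib.Helper55.orderOf_conj_eq c⁻¹ y
      rwa [inv_inv] at this
    rw [this]
    exact hy

theorem isPPart_self (h : NilCen p u a) : IsPPart p u u :=
  ⟨1, mul_one u, Commute.one_right u, h.isP, by
    rw [orderOf_one]; exact fun hd => (Fact.out : p.Prime).one_lt.ne' (Nat.dvd_one.1 hd)⟩

theorem col_off (h : NilCen p u a) (hM : IsPModular p M) {g z : G} (hg : IsPPart p g z)
    (hz : ¬ IsConj u z) : colFun M u g = 0 := by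
  classical
  have h1 := (Cfsg.Agent.S0925.result p M hM).2 g u z u hg h.isPPart_self
    (fun hc => hz hc.symm) (principalBlock M G) isPBlock_principalBlock
  rw [finsum_mem_irr] at h1
  unfold colFun
  refine Eq.trans ?_ h1
  refine Finset.sum_congr rfl fun χ _ => ?_
  rw [mul_comm]

theorem col_const (h : NilCen p u a) (hM : IsPModular p M) {g z : G} (hg : IsPPart p g z)
    (hz : IsConj u z) : colFun M u g = colFun M u u := by
  classical
  unfold colFun
  refine Finset.sum_congr rfl fun χ _ => ?_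
  split_ifs with hχ
  · rw [h.val_sec hM χ hχ hg hz]
  · rfl

theorem colFun_isClassFunction : IsClassFunction G (colFun M u) := by
  classical
  intro g c
  unfold colFun
  refine Finset.sum_congr rfl fun χ _ => ?_
  rw [irr_isClassFunction χ]

theorem sum_colFun (hM : IsPModular p M) : ∑ w : G, colFun M u w = (Nat.card G : ℂ) := by
  classical
  have hP := pmod_isPrime hM
  unfold colFun
  rw [Finset.sum_comm, Finset.sum_eq_single (trivIrr G)]
  · rw [Finset.sum_congr rfl (fun w _ => if_pos (trivIrr_mem_principalBlock hP)),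
      ← Finset.mul_sum, Q8Hyp.sum_irr, if_pos rfl]
    have : (trivIrr G : G → ℂ) u⁻¹ = 1 := rfl
    rw [this, one_mul]
  · intro χ _ hne
    by_cases hχ : χ ∈ principalBlock M G
    · rw [Finset.sum_congr rfl (fun w _ => if_pos hχ), ← Finset.mul_sum, Q8Hyp.sum_irr, if_neg hne,
        mul_zero]
    · rw [Finset.sum_congr rfl (fun w _ => if_neg hχ)]
      simp
  · intro h; exact absurd (Finset.mem_univ _) h

/-- `∑_{χ ∈ B₀} |χ(u)|² = a`. -/
theorem col_self (h : NilCen p u a) (hM : IsPModular p M) : colFun M u u = a := by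
  classical
  obtain ⟨e, a', he, -⟩ := exists_pPartExp G p
  have h1 := sum_one_section e he u h.isP (colFun M u) colFun_isClassFunction
  have h2 : (∑ g : G, if IsConj u (g ^ e) then colFun M u g else 0) = ∑ g : G, colFun M u g := by
    refine Finset.sum_congr rfl fun g _ => ?_
    split_ifs with hc
    · rfl
    · exact (h.col_off hM ((he g _).2 rfl) hc).symm
  have h3 : (∑ c : Cen u, if ¬ p ∣ orderOf c then colFun M u (u * (c : G)) else 0)
      = (Nat.card {c : Cen u // ¬ p ∣ orderOf c} : ℂ) * colFun M u u := by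
    have : ∀ c : Cen u, (if ¬ p ∣ orderOf c then colFun M u (u * (c : G)) else 0)
        = if ¬ p ∣ orderOf c then colFun M u u else 0 := by
      intro c
      split_ifs with hc
      · rfl
      · apply h.col_const hM (z := u) _ (IsConj.refl u)
        exact ⟨c, rfl, (Subgroup.mem_centralizer_singleton_iff.1 c.2).symm, h.isP,
          by rwa [Subgroup.orderOf_coe]⟩
    simp only [this]
    rw [← Finset.sum_filter, Finset.sum_const, nsmul_eq_mul, Nat.card_eq_fintype_card,
      Fintype.card_subtype]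
  rw [h2, sum_colFun hM, h3] at h1
  have h4 : (a : ℂ) * (Nat.card {c : Cen u // ¬ p ∣ orderOf c} : ℂ) = (Nat.card (Cen u) : ℂ) := by
    exact_mod_cast h.count
  have hG0 : (Nat.card G : ℂ) ≠ 0 := by exact_mod_cast Nat.card_pos.ne'
  have hC0 : (Nat.card (Cen u) : ℂ) ≠ 0 := by exact_mod_cast Nat.card_pos.ne'
  rw [← Nat.card_eq_fintype_card, ← Nat.card_eq_fintype_card, ← h4] at h1
  have hN0 : (Nat.card {c : Cen u // ¬ p ∣ orderOf c} : ℂ) ≠ 0 := by
    intro h0
    rw [h0, mul_zero] at h4
    exact hC0 h4.symm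
  have h5 : (Nat.card G : ℂ) * (Nat.card {c : Cen u // ¬ p ∣ orderOf c} : ℂ) * a =
      (Nat.card G : ℂ) * (Nat.card {c : Cen u // ¬ p ∣ orderOf c} : ℂ) * colFun M u u := by
    linear_combination h1
  exact (mul_left_cancel₀ (mul_ne_zero hG0 hN0) h5).symm

theorem col_on (h : NilCen p u a) (hM : IsPModular p M) {g z : G} (hg : IsPPart p g z)
    (hz : IsConj u z) : colFun M u g = a := by
  rw [h.col_const hM hg hz, h.col_self hM]

end NilCen

end

end Cfsg.Agent.Lib.Helper75
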