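import Mathlib
import Cfsg.Agent.Lib.Helper75.NilCol
import Cfsg.Agent.Lib.Helper75.BSQ8Fused
import Cfsg.Agent.Lib.Helper72.DihedralAut
import Cfsg.Agent.S0514

/-!
# Groups with dihedral Sylow 2-subgroups: centralizers and fusion of the cyclic part (helper75)
-/

set_option autoImplicit false

namespace Cfsg.Agent.Lib.Helper75

open Cfsg Cfsg.Agent.Lib.Helper55 Cfsg.Agent.Lib.Helper4 Cfsg.Agent.Lib.Lead

variable {G : Type*} [Group G]

/-- `NilCen` from a normal `p`-complement of the centralizer. -/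
theorem nilCen_of_normal [Finite G] {p : ℕ} [Fact p.Prime] {u : G} (hu : ∃ k : ℕ, orderOf u = p ^ k)
    (W : Subgroup (Cen u)) (hW : W.Normal) (hodd : (Nat.card W).Coprime p) {k : ℕ}
    (hidx : W.index = p ^ k) : NilCen p u (p ^ k) := by
  have hp : p.Prime := Fact.out
  have hmem : ∀ c : Cen u, c ∈ W ↔ ¬ p ∣ orderOf c := by
    intro c
    constructor
    · intro hc hd
      have h1 : orderOf c ∣ Nat.card W := by
        have := orderOf_dvd_natCard (⟨c, hc⟩ : W)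
        rwa [Subgroup.orderOf_mk] at this
      exact (Nat.Prime.coprime_iff_not_dvd hp).1 hodd.symm (hd.trans h1)
    · intro hc
      rw [← QuotientGroup.eq_one_iff, ← orderOf_eq_one_iff]
      have h1 : orderOf (QuotientGroup.mk c : Cen u ⧸ W) ∣ orderOf c :=
        orderOf_map_dvd (QuotientGroup.mk' W) c
      have h2 : orderOf (QuotientGroup.mk c : Cen u ⧸ W) ∣ p ^ k := by
        rw [← hidx, Subgroup.index_eq_card]; exact orderOf_dvd_natCard _
      have hcop : Nat.Coprime (orderOf c) (p ^ k) :=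
        Nat.Coprime.pow_right k ((Nat.Prime.coprime_iff_not_dvd hp).2 hc).symm
      exact Nat.dvd_one.1 (hcop.gcd_eq_one ▸ Nat.dvd_gcd h1 h2)
  refine ⟨hu, ?_, ?_⟩
  · intro y hy hyo
    have hyC : y ∈ Cen u := Subgroup.mem_centralizer_singleton_iff.2 hy.eq.symm
    refine ⟨⟨y, hyC⟩, ?_, rfl⟩
    apply le_pPrimeCore hW hodd
    rw [hmem, Subgroup.orderOf_mk]
    exact hyo
  · have h2 : Nat.card {c : Cen u // ¬ p ∣ orderOf c} = Nat.card W := by
      apply Nat.card_congr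
      apply Equiv.subtypeEquivRight
      intro c
      exact (hmem c).symm
    rw [h2, ← hidx, mul_comm]
    exact W.card_mul_index

/-- A dihedral subgroup `P = ⟨σ, τ⟩` of order `2N`, `N ≥ 4` a power of `2`. -/
structure DihS (P : Subgroup G) (σ τ : G) (N : ℕ) : Prop where
  four_le : 4 ≤ N
  pow : ∃ e : ℕ, N = 2 ^ e
  σ_mem : σ ∈ P
  τ_mem : τ ∈ P
  ord_σ : orderOf σ = N
  ord_τ : orderOf τ = 2
  rel : τ * σ * τ⁻¹ = σ⁻¹
  cases : ∀ x ∈ P, x ∈ Subgroup.zpowers σ ∨ ∃ c ∈ Subgroup.zpowers σ, x = c * τ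
  iso : Nonempty (P ≃* DihedralGroup N)

namespace DihS

variable {P : Subgroup G} {σ τ : G} {N : ℕ}

theorem τ_sq (h : DihS P σ τ N) : τ * τ = 1 := by
  have := pow_orderOf_eq_one τ
  rwa [h.ord_τ, sq] at this

theorem τ_inv (h : DihS P σ τ N) : τ⁻¹ = τ := inv_eq_of_mul_eq_one_left h.τ_sq

theorem τ_conj (h : DihS P σ τ N) {c : G} (hc : c ∈ Subgroup.zpowers σ) : τ * c * τ⁻¹ = c⁻¹ := by
  obtain ⟨k, rfl⟩ := hc
  show τ * σ ^ k * τ⁻¹ = (σ ^ k)⁻¹
  rw [← conj_zpow, h.rel, inv_zpow]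

theorem comm_zpowers {c d : G} (hc : c ∈ Subgroup.zpowers σ) (hd : d ∈ Subgroup.zpowers σ) :
    c * d = d * c := by
  obtain ⟨k, rfl⟩ := hc
  obtain ⟨l, rfl⟩ := hd
  show σ ^ k * σ ^ l = σ ^ l * σ ^ k
  rw [← zpow_add, ← zpow_add, add_comm]

theorem cτ_conj (h : DihS P σ τ N) {c d : G} (hc : c ∈ Subgroup.zpowers σ)
    (hd : d ∈ Subgroup.zpowers σ) : (c * τ) * d * (c * τ)⁻¹ = d⁻¹ := by
  have h1 : (c * τ) * d * (c * τ)⁻¹ = c * (τ * d * τ⁻¹) * c⁻¹ := by group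
  rw [h1, h.τ_conj hd, comm_zpowers hc (Subgroup.inv_mem _ hd), mul_inv_cancel_right]

theorem cτ_sq (h : DihS P σ τ N) {c : G} (hc : c ∈ Subgroup.zpowers σ) : (c * τ) * (c * τ) = 1 := by
  have h1 : (c * τ) * (c * τ) = c * (τ * c * τ⁻¹) * (τ * τ) := by group
  rw [h1, h.τ_conj hc, h.τ_sq, mul_inv_cancel, one_mul]

theorem mem_zpowers_of_sq (h : DihS P σ τ N) {x : G} (hx : x ∈ P) (h2 : x * x ≠ 1) :
    x ∈ Subgroup.zpowers σ := by
  rcases h.cases x hx with h1 | ⟨c, hc, rfl⟩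
  · exact h1
  · exact absurd (h.cτ_sq hc) h2

theorem mem_zpowers_of_comm (h : DihS P σ τ N) {x d : G} (hx : x ∈ P)
    (hd : d ∈ Subgroup.zpowers σ) (hd2 : d * d ≠ 1) (hc : x * d = d * x) :
    x ∈ Subgroup.zpowers σ := by
  rcases h.cases x hx with h1 | ⟨c, hc', rfl⟩
  · exact h1
  · exfalso
    have h1 := h.cτ_conj hc' hd
    rw [hc, mul_inv_cancel_right] at h1
    apply hd2
    nth_rewrite 1 [h1]
    exact inv_mul_cancel d

theorem conj_cases (h : DihS P σ τ N) {x d : G} (hx : x ∈ P) (hd : d ∈ Subgroup.zpowers σ) :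
    x * d * x⁻¹ = d ∨ x * d * x⁻¹ = d⁻¹ := by
  rcases h.cases x hx with h1 | ⟨c, hc', rfl⟩
  · left
    rw [comm_zpowers h1 hd, mul_inv_cancel_right]
  · right
    exact h.cτ_conj hc' hd

theorem σ_sq_ne (h : DihS P σ τ N) : σ * σ ≠ 1 := by
  intro h1
  have := orderOf_dvd_of_pow_eq_one (show σ ^ 2 = 1 by rw [sq]; exact h1)
  rw [h.ord_σ] at this
  have := Nat.le_of_dvd (by norm_num) this
  have := h.four_le
  omega

theorem isConj_inv (h : DihS P σ τ N) {c : G} (hc : c ∈ Subgroup.zpowers σ) : IsConj c c⁻¹ :=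
  isConj_iff.2 ⟨τ, h.τ_conj hc⟩

theorem card_P (h : DihS P σ τ N) : Nat.card P = 2 * N := by
  obtain ⟨e⟩ := h.iso
  have : NeZero N := ⟨by have := h.four_le; omega⟩
  rw [Nat.card_congr e.toEquiv, DihedralGroup.nat_card]

theorem isP_of_mem (h : DihS P σ τ N) {c : G} (hc : c ∈ Subgroup.zpowers σ) :
    ∃ k : ℕ, orderOf c = 2 ^ k := by
  obtain ⟨e, he⟩ := h.pow
  have h1 : orderOf c ∣ 2 ^ e := by
    rw [← he, ← h.ord_σ]
    exact orderOf_dvd_of_mem_zpowers hc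
  obtain ⟨k, -, hk⟩ := (Nat.dvd_prime_pow Nat.prime_two).1 h1
  exact ⟨k, hk⟩

theorem two_mul_half (h : DihS P σ τ N) : 2 * (N / 2) = N := by
  obtain ⟨e, he⟩ := h.pow
  have := h.four_le
  rcases e with _ | e
  · simp at he; omega
  · rw [he, pow_succ]; omega

theorem ord_J (h : DihS P σ τ N) : orderOf (σ ^ (N / 2)) = 2 := by
  have h2 := h.two_mul_half
  have := h.four_le
  rw [orderOf_pow_of_dvd (by omega) (by rw [h.ord_σ]; exact ⟨2, by omega⟩), h.ord_σ]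
  apply Nat.div_eq_of_eq_mul_left (by omega)
  omega

theorem J_mem : σ ^ (N / 2) ∈ Subgroup.zpowers σ := Subgroup.pow_mem _ (Subgroup.mem_zpowers σ) _

theorem J_sq (h : DihS P σ τ N) : σ ^ (N / 2) * σ ^ (N / 2) = 1 := by
  have := pow_orderOf_eq_one (σ ^ (N / 2))
  rwa [h.ord_J, sq] at this

theorem J_inv (h : DihS P σ τ N) : (σ ^ (N / 2))⁻¹ = σ ^ (N / 2) :=
  inv_eq_of_mul_eq_one_left h.J_sq

theorem J_ne_one (h : DihS P σ τ N) : σ ^ (N / 2) ≠ 1 := by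
  intro h1
  have := h.ord_J
  rw [h1, orderOf_one] at this
  omega

theorem sq_eq_one_cases (h : DihS P σ τ N) {c : G} (hc : c ∈ Subgroup.zpowers σ)
    (h2 : c * c = 1) : c = 1 ∨ c = σ ^ (N / 2) := by
  obtain ⟨k, rfl⟩ := hc
  have h3 : σ ^ (2 * k) = 1 := by
    rw [two_mul, zpow_add]; exact h2
  have h4 : (N : ℤ) ∣ 2 * k := by
    rw [← h.ord_σ]; exact orderOf_dvd_iff_zpow_eq_one.2 h3
  have h5 : ((N / 2 : ℕ) : ℤ) ∣ k := by
    have e1 : (N : ℤ) = 2 * ((N / 2 : ℕ) : ℤ) := by exact_mod_cast h.two_mul_half.symm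
    rw [e1] at h4
    exact (mul_dvd_mul_iff_left (by norm_num)).1 h4
  obtain ⟨t, rfl⟩ := h5
  show σ ^ (((N / 2 : ℕ) : ℤ) * t) = 1 ∨ σ ^ (((N / 2 : ℕ) : ℤ) * t) = σ ^ (N / 2)
  rw [zpow_mul, zpow_natCast]
  rcases Int.even_or_odd' t with ⟨r, rfl | rfl⟩
  · left
    rw [zpow_mul, zpow_ofNat, sq, h.J_sq, one_zpow]
  · right
    rw [zpow_add, zpow_mul, zpow_ofNat, sq, h.J_sq, one_zpow, one_mul, zpow_one]

theorem J_central (h : DihS P σ τ N) {x : G} (hx : x ∈ P) :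
    x * σ ^ (N / 2) = σ ^ (N / 2) * x := by
  rcases h.conj_cases hx (J_mem (σ := σ) (N := N)) with h1 | h1
  · exact mul_inv_eq_iff_eq_mul.1 h1
  · rw [h.J_inv] at h1
    exact mul_inv_eq_iff_eq_mul.1 h1

section Sylow

variable [Finite G] {T : Sylow 2 G}

theorem σ_mem_cen {u : G} (hu : u ∈ Subgroup.zpowers σ) : σ ∈ Cen u :=
  Subgroup.mem_centralizer_singleton_iff.2 (comm_zpowers (Subgroup.mem_zpowers σ) hu)

/-- `⟨σ⟩` is a Sylow 2-subgroup of the centralizer of an element of order at least 4 of `⟨σ⟩`. -/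
theorem exists_sylow_cen (h : DihS (T : Subgroup G) σ τ N) {u : G}
    (hu : u ∈ Subgroup.zpowers σ) (hu2 : u * u ≠ 1) :
    ∃ Q : Sylow 2 (Cen u), (Q : Subgroup (Cen u)) = Subgroup.zpowers ⟨σ, σ_mem_cen hu⟩ := by
  obtain ⟨σ', hσ'⟩ : ∃ σ' : Cen u, σ' = ⟨σ, σ_mem_cen hu⟩ := ⟨_, rfl⟩
  have hoσ' : orderOf σ' = N := by rw [hσ', Subgroup.orderOf_mk, h.ord_σ]
  obtain ⟨e, he⟩ := h.pow
  have hpg : IsPGroup 2 (Subgroup.zpowers σ') := by
    apply IsPGroup.of_card (n := e); rw [Nat.card_zpowers, hoσ', he]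
  obtain ⟨Q, hQ⟩ := hpg.exists_le_sylow
  refine ⟨Q, ?_⟩
  rw [← hσ']
  symm
  apply Subgroup.eq_of_le_of_card_ge hQ
  rw [Nat.card_zpowers, hoσ']
  obtain ⟨g0, hg0⟩ := exists_conj_mem_sylow T ((Q : Subgroup (Cen u)).map (Cen u).subtype)
    (Q.2.map _)
  have huC : u ∈ Cen u := Subgroup.mem_centralizer_singleton_iff.2 rfl
  have huQ : (⟨u, huC⟩ : Cen u) ∈ (Q : Subgroup (Cen u)) := by
    apply hQ
    obtain ⟨k, hk⟩ := hu
    refine ⟨k, ?_⟩
    apply Subtype.ext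
    rw [hσ']
    simpa using hk
  have hx0S : g0 * u * g0⁻¹ ∈ (T : Subgroup G) := hg0 u ⟨⟨u, huC⟩, huQ, rfl⟩
  have hx02 : (g0 * u * g0⁻¹) * (g0 * u * g0⁻¹) ≠ 1 := by
    intro h1
    apply hu2
    have : g0 * (u * u) * g0⁻¹ = 1 := by rw [← h1]; group
    rwa [conj_eq_one_iff] at this
  have hx0 := h.mem_zpowers_of_sq hx0S hx02
  have hmap : ∀ b : (Q : Subgroup (Cen u)), g0 * ((b : Cen u) : G) * g0⁻¹ ∈ Subgroup.zpowers σ := by
    intro b
    have hbS : g0 * ((b : Cen u) : G) * g0⁻¹ ∈ (T : Subgroup G) := hg0 _ ⟨b, b.2, rfl⟩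
    have hbu : ((b : Cen u) : G) * u = u * ((b : Cen u) : G) :=
      Subgroup.mem_centralizer_singleton_iff.1 (b : Cen u).2
    apply h.mem_zpowers_of_comm hbS hx0 hx02
    calc g0 * ((b : Cen u) : G) * g0⁻¹ * (g0 * u * g0⁻¹)
        = g0 * (((b : Cen u) : G) * u) * g0⁻¹ := by group
      _ = g0 * (u * ((b : Cen u) : G)) * g0⁻¹ := by rw [hbu]
      _ = g0 * u * g0⁻¹ * (g0 * ((b : Cen u) : G) * g0⁻¹) := by group
  have hinj : Function.Injective
      (fun b : (Q : Subgroup (Cen u)) => (⟨_, hmap b⟩ : Subgroup.zpowers σ)) := by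
    intro b b' hbb
    have h1 : g0 * ((b : Cen u) : G) * g0⁻¹ = g0 * ((b' : Cen u) : G) * g0⁻¹ :=
      congrArg Subtype.val hbb
    exact Subtype.ext (Subtype.ext (mul_left_cancel (mul_right_cancel h1)))
  have := Nat.card_le_card_of_injective _ hinj
  rwa [Nat.card_zpowers, h.ord_σ] at this

theorem nilCen_of_sq_ne (h : DihS (T : Subgroup G) σ τ N) {u : G}
    (hu : u ∈ Subgroup.zpowers σ) (hu2 : u * u ≠ 1) : NilCen 2 u N := by
  obtain ⟨Q, hQ⟩ := h.exists_sylow_cen hu hu2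
  have hcyc : IsCyclic Q := by
    have : IsCyclic (Q : Subgroup (Cen u)) := by rw [hQ]; infer_instance
    exact this
  have hcardQ : Nat.card (Q : Subgroup (Cen u)) = N := by
    rw [hQ, Nat.card_zpowers, Subgroup.orderOf_mk, h.ord_σ]
  obtain ⟨e, he⟩ := h.pow
  have heven : 2 ∣ Nat.card (Cen u) := by
    have h1 : Nat.card (Q : Subgroup (Cen u)) ∣ Nat.card (Cen u) := Subgroup.card_subgroup_dvd_card _
    rw [hcardQ] at h1
    refine dvd_trans ?_ h1
    have := h.four_le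
    rw [he]
    apply dvd_pow_self
    rintro rfl
    omega
  obtain ⟨V, -, hcompl, hker, hodd⟩ := exists_transfer_of_cyclic_sylow_two Q hcyc heven
  have hidx : V.ker.index = 2 ^ e := by
    rw [hcompl.symm.index_eq_card, hcardQ, he]
  have := nilCen_of_normal (h.isP_of_mem hu) V.ker inferInstance
    ((Nat.Prime.coprime_iff_not_dvd Nat.prime_two).2 hodd).symm hidx
  rwa [← he] at this

/-- an element normalizing `⟨σ⟩` centralizes or inverts `σ`. -/
theorem normalizer_action (h : DihS (T : Subgroup G) σ τ N) {x : G}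
    (hx : x * σ * x⁻¹ ∈ Subgroup.zpowers σ) : x * σ * x⁻¹ = σ ∨ x * σ * x⁻¹ = σ⁻¹ := by
  have hxN : x ∈ Subgroup.normalizer ((Subgroup.zpowers σ : Subgroup G) : Set G) := by
    apply Cfsg.Agent.Lib.Helper72.mem_normalizer_of_conj_mem
    rintro _ ⟨k, rfl⟩
    show x * σ ^ k * x⁻¹ ∈ Subgroup.zpowers σ
    rw [← conj_zpow]
    exact Subgroup.zpow_mem _ hx k
  obtain ⟨e, he⟩ := h.pow
  have hpg : IsPGroup 2 (Subgroup.zpowers σ) := by
    apply IsPGroup.of_card (n := e); rw [Nat.card_zpowers, h.ord_σ, he]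
  obtain ⟨c, a, hc, ha⟩ := exists_pPartExp G 2
  obtain ⟨y, hxy, hcomm, ⟨k2, hk2⟩, hyo⟩ := (hc x (x ^ c)).2 rfl
  have hx2N : x ^ c ∈ Subgroup.normalizer ((Subgroup.zpowers σ : Subgroup G) : Set G) :=
    Subgroup.pow_mem _ hxN c
  have hyN : y ∈ Subgroup.normalizer ((Subgroup.zpowers σ : Subgroup G) : Set G) := by
    have : y = (x ^ c)⁻¹ * x := eq_inv_mul_of_mul_eq hxy
    rw [this]
    exact Subgroup.mul_mem _ (Subgroup.inv_mem _ hx2N) hxN
  have hyC := Cfsg.Agent.Lib.Helper72.mem_centralizer_of_isCyclic (Subgroup.zpowers σ) hpg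
    inferInstance y hyN ((Nat.Prime.coprime_iff_not_dvd Nat.prime_two).2 hyo).symm
  have hyσ : y * σ * y⁻¹ = σ :=
    Cfsg.Agent.Lib.Helper72.conj_eq_of_mem_centralizer hyC (Subgroup.mem_zpowers σ)
  have e1 : x * σ * x⁻¹ = x ^ c * σ * (x ^ c)⁻¹ := by
    obtain ⟨x2, hx2⟩ : ∃ x2, x2 = x ^ c := ⟨_, rfl⟩
    rw [← hx2] at hxy ⊢
    calc x * σ * x⁻¹ = (x2 * y) * σ * (x2 * y)⁻¹ := by rw [hxy]
      _ = x2 * (y * σ * y⁻¹) * x2⁻¹ := by group
      _ = x2 * σ * x2⁻¹ := by rw [hyσ]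
  rw [e1]
  have hpg2 : IsPGroup 2 (Subgroup.zpowers (x ^ c)) := by
    apply IsPGroup.of_card (n := k2); rw [Nat.card_zpowers, hk2]
  have hle : Subgroup.zpowers (x ^ c) ≤
      Subgroup.normalizer ((Subgroup.zpowers σ : Subgroup G) : Set G) := by
    rw [Subgroup.zpowers_le]; exact hx2N
  have hR := IsPGroup.to_sup_of_normal_right' hpg2 hpg hle
  obtain ⟨g0, hg0⟩ := exists_conj_mem_sylow T _ hR
  have hσ0 : g0 * σ * g0⁻¹ ∈ (T : Subgroup G) :=
    hg0 σ (Subgroup.mem_sup_right (Subgroup.mem_zpowers σ))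
  have hy0 : g0 * x ^ c * g0⁻¹ ∈ (T : Subgroup G) :=
    hg0 _ (Subgroup.mem_sup_left (Subgroup.mem_zpowers _))
  have hσ02 : (g0 * σ * g0⁻¹) * (g0 * σ * g0⁻¹) ≠ 1 := by
    intro h1
    apply h.σ_sq_ne
    have : g0 * (σ * σ) * g0⁻¹ = 1 := by rw [← h1]; group
    rwa [conj_eq_one_iff] at this
  have hσ0z := h.mem_zpowers_of_sq hσ0 hσ02
  rcases h.conj_cases hy0 hσ0z with h1 | h1
  · left
    have : g0 * (x ^ c * σ * (x ^ c)⁻¹) * g0⁻¹ = g0 * σ * g0⁻¹ := by rw [← h1]; group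
    exact mul_left_cancel (mul_right_cancel this)
  · right
    have : g0 * (x ^ c * σ * (x ^ c)⁻¹) * g0⁻¹ = g0 * σ⁻¹ * g0⁻¹ := by
      have e2 : g0 * σ⁻¹ * g0⁻¹ = (g0 * σ * g0⁻¹)⁻¹ := by group
      rw [e2, ← h1]; group
    exact mul_left_cancel (mul_right_cancel this)

/-- fusion of elements of order at least 4 of `⟨σ⟩` -/
theorem fusion_of_sq_ne (h : DihS (T : Subgroup G) σ τ N) {u u' : G}
    (hu : u ∈ Subgroup.zpowers σ) (hu' : u' ∈ Subgroup.zpowers σ) (hu2 : u * u ≠ 1)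
    (hc : IsConj u u') : u' = u ∨ u' = u⁻¹ := by
  obtain ⟨g, hg⟩ := isConj_iff.1 hc
  have hu'2 : u' * u' ≠ 1 := by
    intro h1
    apply hu2
    have : g * (u * u) * g⁻¹ = 1 := by rw [← h1, ← hg]; group
    rwa [conj_eq_one_iff] at this
  obtain ⟨Q, hQ⟩ := h.exists_sylow_cen hu' hu'2
  have hmem : g * σ * g⁻¹ ∈ Cen u' := by
    rw [Subgroup.mem_centralizer_singleton_iff, ← hg]
    have := comm_zpowers (Subgroup.mem_zpowers σ) hu
    calc g * σ * g⁻¹ * (g * u * g⁻¹) = g * (σ * u) * g⁻¹ := by group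
      _ = g * (u * σ) * g⁻¹ := by rw [this]
      _ = g * u * g⁻¹ * (g * σ * g⁻¹) := by group
  obtain ⟨e, he⟩ := h.pow
  have hpg : IsPGroup 2 (Subgroup.zpowers (⟨g * σ * g⁻¹, hmem⟩ : Cen u')) := by
    apply IsPGroup.of_card (n := e)
    rw [Nat.card_zpowers, Subgroup.orderOf_mk, orderOf_conj_eq, h.ord_σ, he]
  obtain ⟨c, hc'⟩ := exists_conj_mem_sylow Q _ hpg
  have h1 := hc' _ (Subgroup.mem_zpowers _)
  rw [hQ] at h1
  obtain ⟨k, hk⟩ := h1
  have hk' : σ ^ k = (c : G) * (g * σ * g⁻¹) * (c : G)⁻¹ := by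
    have := congrArg Subtype.val hk
    simpa using this
  have hx : ((c : G) * g) * σ * ((c : G) * g)⁻¹ ∈ Subgroup.zpowers σ := by
    refine ⟨k, ?_⟩
    show σ ^ k = _
    rw [hk']; group
  have hcu : (c : G) * u' * (c : G)⁻¹ = u' := by
    rw [Subgroup.mem_centralizer_singleton_iff.1 c.2, mul_inv_cancel_right]
  have hxu : ((c : G) * g) * u * ((c : G) * g)⁻¹ = u' := by
    calc ((c : G) * g) * u * ((c : G) * g)⁻¹ = (c : G) * (g * u * g⁻¹) * (c : G)⁻¹ := by group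
      _ = u' := by rw [hg, hcu]
  obtain ⟨l, rfl⟩ := hu
  have hxu' : (((c : G) * g) * σ * ((c : G) * g)⁻¹) ^ l = u' := by
    rw [conj_zpow]; exact hxu
  rcases h.normalizer_action hx with h2 | h2
  · left; rw [← hxu', h2]
  · right; rw [← hxu', h2, inv_zpow]

theorem fusion (h : DihS (T : Subgroup G) σ τ N) {u u' : G}
    (hu : u ∈ Subgroup.zpowers σ) (hu' : u' ∈ Subgroup.zpowers σ)
    (hc : IsConj u u') : u' = u ∨ u' = u⁻¹ := by
  by_cases hu2 : u * u = 1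
  · left
    obtain ⟨g, hg⟩ := isConj_iff.1 hc
    have hu'2 : u' * u' = 1 := by
      have : u' * u' = g * (u * u) * g⁻¹ := by rw [← hg]; group
      rw [this, hu2]; group
    rcases h.sq_eq_one_cases hu hu2 with e | e
    · rw [← hg, e]; group
    · rcases h.sq_eq_one_cases hu' hu'2 with e' | e'
      · exfalso
        rw [e', conj_eq_one_iff] at hg
        rw [hg] at e
        exact h.J_ne_one e.symm
      · rw [e, e']
  · exact h.fusion_of_sq_ne hu hu' hu2 hc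

theorem nilCen_J (h : DihS (T : Subgroup G) σ τ N) : NilCen 2 (σ ^ (N / 2)) (2 * N) := by
  obtain ⟨W, hW, hodd, k, hk⟩ := Cfsg.Agent.S0514.result T N (by have := h.four_le; omega) h.iso
    (σ ^ (N / 2)) h.ord_J
  obtain ⟨e, he⟩ := h.pow
  have hcop : (Nat.card W).Coprime 2 := Nat.Coprime.symm (Nat.coprime_two_left.2 hodd)
  have hcard : Nat.card W * 2 ^ k = Nat.card (Cen (σ ^ (N / 2))) := by
    rw [← hk]; exact W.card_mul_index
  have hle : (T : Subgroup G) ≤ Cen (σ ^ (N / 2)) := by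
    intro x hx
    exact Subgroup.mem_centralizer_singleton_iff.2 (h.J_central hx)
  have h1 : 2 ^ (e + 1) ∣ Nat.card (Cen (σ ^ (N / 2))) := by
    have := Subgroup.card_dvd_of_le hle
    rw [h.card_P] at this
    rw [pow_succ', ← he]
    exact this
  have h2 : 2 ^ (e + 1) ∣ 2 ^ k := by
    rw [← hcard] at h1
    exact (Nat.Coprime.pow_left (e + 1) hcop.symm).dvd_of_dvd_mul_left h1
  have h3 : e + 1 ≤ k := (Nat.pow_dvd_pow_iff_le_right (by norm_num)).1 h2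
  have h4 : 2 ^ k ∣ Nat.card G :=
    (Dvd.intro_left _ hcard).trans (Subgroup.card_subgroup_dvd_card _)
  have h5 : k ≤ (Nat.card G).factorization 2 :=
    (Nat.Prime.pow_dvd_iff_le_factorization Nat.prime_two Nat.card_pos.ne').1 h4
  have h6 : 2 ^ (e + 1) = 2 ^ (Nat.card G).factorization 2 := by
    rw [← T.card_eq_multiplicity]
    have : Nat.card (T : Subgroup G) = 2 * N := h.card_P
    rw [pow_succ', ← he]
    exact this.symm
  have h7 : e + 1 = (Nat.card G).factorization 2 := Nat.pow_right_injective (le_refl 2) h6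
  have h8 : k = e + 1 := by omega
  have := nilCen_of_normal (⟨1, by rw [h.ord_J, pow_one]⟩ : ∃ k : ℕ, orderOf (σ ^ (N / 2)) = 2 ^ k)
    W hW hcop hk
  rwa [h8, pow_succ', ← he] at this

open Classical in
/-- all nontrivial elements of `⟨σ⟩` -/
theorem nilCen (h : DihS (T : Subgroup G) σ τ N) {u : G} (hu : u ∈ Subgroup.zpowers σ)
    (hu1 : u ≠ 1) : NilCen 2 u (if u * u = 1 then 2 * N else N) := by
  split_ifs with h2
  · rcases h.sq_eq_one_cases hu h2 with e | e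
    · exact absurd e hu1
    · rw [e]; exact h.nilCen_J
  · exact h.nilCen_of_sq_ne hu h2

end Sylow

end DihS

end Cfsg.Agent.Lib.Helper75
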