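import Mathlib

/-!
# The lattice argument for the principal 2-block of a group with dihedral Sylow 2-subgroups
(helper75)
-/

set_option autoImplicit false

namespace Cfsg.Agent.Lib.Helper75.DihLat

variable {ι : Type*} [Fintype ι] [DecidableEq ι]

theorem sq_le_sum (f : ι → ℤ) (x : ι) : f x * f x ≤ ∑ χ, f χ * f χ :=
  Finset.single_le_sum (f := fun χ => f χ * f χ) (fun χ _ => mul_self_nonneg _) (Finset.mem_univ x)

theorem small_of_norm_le {f : ι → ℤ} (h : ∑ χ, f χ * f χ ≤ 3) (x : ι) :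
    f x = 0 ∨ f x = 1 ∨ f x = -1 := by
  have h1 := (sq_le_sum f x).trans h
  have h2 : f x ≤ 1 := by nlinarith
  have h3 : -1 ≤ f x := by nlinarith
  omega

theorem norm_eq_card {f : ι → ℤ} (h : ∀ x, f x = 0 ∨ f x = 1 ∨ f x = -1) :
    ∑ χ, f χ * f χ = ((Finset.univ.filter fun χ => f χ ≠ 0).card : ℤ) := by
  rw [Finset.card_filter]
  push_cast
  refine Finset.sum_congr rfl fun χ _ => ?_
  rcases h χ with e | e | e <;> simp [e]

theorem sum_mul_eq_sum_supp (f g : ι → ℤ) :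
    ∑ χ, f χ * g χ = ∑ χ ∈ Finset.univ.filter (fun χ => f χ ≠ 0), f χ * g χ := by
  symm
  apply Finset.sum_subset (Finset.filter_subset _ _)
  intro χ _ hχ
  simp only [Finset.mem_filter, Finset.mem_univ, true_and, not_not] at hχ
  rw [hχ, zero_mul]

/-- normal form of a vector of norm 2 -/
theorem norm_two {u : ι → ℤ} (h : ∑ χ, u χ * u χ = 2) :
    ∃ x y : ι, x ≠ y ∧ (u x = 1 ∨ u x = -1) ∧ (u y = 1 ∨ u y = -1) ∧
      (∀ χ, χ ≠ x → χ ≠ y → u χ = 0) ∧ ∀ g : ι → ℤ, ∑ χ, u χ * g χ = u x * g x + u y * g y := by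
  have hs := small_of_norm_le (f := u) (by omega)
  have hc := norm_eq_card hs
  rw [h] at hc
  have hc2 : (Finset.univ.filter fun χ => u χ ≠ 0).card = 2 := by exact_mod_cast hc.symm
  obtain ⟨x, y, hxy, hsupp⟩ := Finset.card_eq_two.1 hc2
  have hx : u x ≠ 0 := by
    have : x ∈ Finset.univ.filter fun χ => u χ ≠ 0 := by rw [hsupp]; simp
    simpa using this
  have hy : u y ≠ 0 := by
    have : y ∈ Finset.univ.filter fun χ => u χ ≠ 0 := by rw [hsupp]; simp
    simpa using this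
  refine ⟨x, y, hxy, (hs x).resolve_left hx, (hs y).resolve_left hy, ?_, ?_⟩
  · intro χ h1 h2
    by_contra h3
    have : χ ∈ Finset.univ.filter fun χ => u χ ≠ 0 := by simpa using h3
    rw [hsupp] at this
    simp only [Finset.mem_insert, Finset.mem_singleton] at this
    tauto
  · intro g
    rw [sum_mul_eq_sum_supp, hsupp, Finset.sum_pair hxy]

/-- the data of the lattice problem, after removing the coordinate of the trivial character -/
structure Dat (m : ℕ) (deg : ι → ℤ) (f : ι → ℤ) (u : ℕ → ι → ℤ) : Prop where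
  hm : m = 2 ∨ 4 ≤ m
  deg_pos : ∀ χ, 1 ≤ deg χ
  gram : ∀ i j, 1 ≤ i → i < m → 1 ≤ j → j < m → ∑ χ, u i χ * u j χ = if i = j then 2 else 1
  normf : ∑ χ, f χ * f χ = 3
  uf : ∀ j, 1 ≤ j → j < m → ∑ χ, u j χ * f χ = 1
  degu : ∀ j, 1 ≤ j → j < m → ∑ χ, u j χ * deg χ = -1
  degf : ∑ χ, f χ * deg χ = -1

namespace Dat

variable {m : ℕ} {deg f : ι → ℤ} {u : ℕ → ι → ℤ}

theorem f_small (h : Dat m deg f u) (x : ι) : f x = 0 ∨ f x = 1 ∨ f x = -1 :=
  small_of_norm_le (by rw [h.normf]) x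

theorem card_supp_f (h : Dat m deg f u) : (Finset.univ.filter fun χ => f χ ≠ 0).card = 3 := by
  have hc := norm_eq_card h.f_small
  rw [h.normf] at hc
  exact_mod_cast hc.symm

/-- normal form of `u j` relative to `f` -/
def Form (f : ι → ℤ) (v : ι → ℤ) (α β : ι) : Prop :=
  α ≠ β ∧ v α = f α ∧ (f α = 1 ∨ f α = -1) ∧ f β = 0 ∧ (v β = 1 ∨ v β = -1) ∧
    (∀ χ, χ ≠ α → χ ≠ β → v χ = 0) ∧ ∀ g : ι → ℤ, ∑ χ, v χ * g χ = f α * g α + v β * g β

theorem exists_form (h : Dat m deg f u) {j : ℕ} (h1 : 1 ≤ j) (h2 : j < m) :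
    ∃ α β, Form f (u j) α β := by
  have hn := h.gram j j h1 h2 h1 h2
  rw [if_pos rfl] at hn
  obtain ⟨x, y, hxy, hx, hy, h0, hsum⟩ := norm_two hn
  have huf := h.uf j h1 h2
  rw [hsum] at huf
  rcases h.f_small x with fx | fx | fx <;> rcases h.f_small y with fy | fy | fy <;>
    rcases hx with ux | ux <;> rcases hy with uy | uy <;>
    simp only [fx, fy, ux, uy] at huf <;> norm_num at huf
  all_goals first
    | exact ⟨x, y, hxy, by rw [ux, fx], by simp [fx], fy, by simp [uy], h0,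
        fun g => by rw [hsum, ux, fx]⟩
    | exact ⟨y, x, hxy.symm, by rw [uy, fy], by simp [fy], fx, by simp [ux],
        fun χ a b => h0 χ b a, fun g => by rw [hsum, uy, fy, add_comm]⟩

theorem pair {v w : ι → ℤ} {α β α' β' : ι} (hv : Form f v α β) (hw : Form f w α' β')
    (hvw : ∑ χ, v χ * w χ = 1) :
    (α = α' ∧ β ≠ β') ∨ (α ≠ α' ∧ β = β' ∧ v β = w β') := by
  obtain ⟨hab, hva, hfa, hfb, hvb, hv0, hvs⟩ := hv
  obtain ⟨hab', hwa, hfa', hfb', hwb, hw0, hws⟩ := hw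
  rw [hvs] at hvw
  have hαβ' : α ≠ β' := by
    intro e; rw [e, hfb'] at hfa; omega
  have hβα' : β ≠ α' := by
    intro e; rw [← e, hfb] at hfa'; omega
  by_cases e1 : α = α'
  · left
    refine ⟨e1, ?_⟩
    intro e2
    rw [e1, hwa, e2] at hvw
    rw [e2] at hvb
    rcases hfa' with a | a <;> rcases hvb with b | b <;> rcases hwb with c | c <;>
      simp only [a, b, c] at hvw <;> norm_num at hvw
  · right
    refine ⟨e1, ?_⟩
    rw [hw0 α e1 hαβ', mul_zero, zero_add] at hvw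
    by_cases e2 : β = β'
    · refine ⟨e2, ?_⟩
      rw [e2] at hvw hvb ⊢
      rcases hvb with b | b <;> rcases hwb with c | c <;>
        simp only [b, c] at hvw ⊢ <;> norm_num at hvw
    · rw [hw0 β hβα' e2, mul_zero] at hvw
      omega

theorem alpha_eq (h : Dat m deg f u) {α β : ℕ → ι}
    (hF : ∀ j, 1 ≤ j → j < m → Form f (u j) (α j) (β j)) {i j : ℕ} (hi1 : 1 ≤ i) (hi2 : i < m)
    (hj1 : 1 ≤ j) (hj2 : j < m) : α i = α j := by
  by_contra hne
  have hij : i ≠ j := fun e => hne (by rw [e])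
  obtain ⟨k, hk1, hk2, hki, hkj⟩ : ∃ k, 1 ≤ k ∧ k < m ∧ k ≠ i ∧ k ≠ j := by
    have hm4 : 4 ≤ m := by
      rcases h.hm with e | e
      · omega
      · exact e
    by_cases a1 : i ≠ 1 ∧ j ≠ 1
    · exact ⟨1, le_refl _, by omega, fun e => a1.1 e.symm, fun e => a1.2 e.symm⟩
    · by_cases a2 : i ≠ 2 ∧ j ≠ 2
      · exact ⟨2, by omega, by omega, fun e => a2.1 e.symm, fun e => a2.2 e.symm⟩
      · exact ⟨3, by omega, by omega, by omega, by omega⟩
  have gij := h.gram i j hi1 hi2 hj1 hj2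
  rw [if_neg hij] at gij
  have gki := h.gram k i hk1 hk2 hi1 hi2
  rw [if_neg hki] at gki
  have gkj := h.gram k j hk1 hk2 hj1 hj2
  rw [if_neg hkj] at gkj
  have Fi := hF i hi1 hi2
  have Fj := hF j hj1 hj2
  have Fk := hF k hk1 hk2
  rcases pair Fi Fj gij with ⟨e, -⟩ | ⟨-, bij, sij⟩
  · exact hne e
  have hk : α k ≠ α i ∧ α k ≠ α j ∧ β k = β i ∧ u k (β k) = u i (β i) := by
    rcases pair Fk Fi gki with ⟨e1, n1⟩ | ⟨n1, b1, s1⟩
    · rcases pair Fk Fj gkj with ⟨e2, -⟩ | ⟨-, b2, -⟩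
      · exact absurd (e1.symm.trans e2) hne
      · exact absurd (b2.trans bij.symm) n1
    · rcases pair Fk Fj gkj with ⟨e2, n2⟩ | ⟨n2, -, -⟩
      · exact absurd (b1.trans bij) n2
      · exact ⟨n1, n2, b1, s1⟩
  obtain ⟨nki, nkj, bk, sk⟩ := hk
  -- the support of f
  have hsupp : ({α i, α j, α k} : Finset ι) = Finset.univ.filter fun χ => f χ ≠ 0 := by
    apply Finset.eq_of_subset_of_card_le
    · intro χ hχ
      simp only [Finset.mem_insert, Finset.mem_singleton] at hχ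
      simp only [Finset.mem_filter, Finset.mem_univ, true_and]
      rcases hχ with rfl | rfl | rfl
      · rcases Fi.2.2.1 with e | e <;> rw [e] <;> norm_num
      · rcases Fj.2.2.1 with e | e <;> rw [e] <;> norm_num
      · rcases Fk.2.2.1 with e | e <;> rw [e] <;> norm_num
    · rw [h.card_supp_f, Finset.card_insert_of_notMem, Finset.card_insert_of_notMem,
        Finset.card_singleton]
      · simpa using fun e => nkj e.symm
      · simp only [Finset.mem_insert, Finset.mem_singleton, not_or]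
        exact ⟨hne, fun e => nki e.symm⟩
  have hdf := h.degf
  rw [sum_mul_eq_sum_supp, ← hsupp, Finset.sum_insert, Finset.sum_insert,
    Finset.sum_singleton] at hdf
  · have di := h.degu i hi1 hi2
    have dj := h.degu j hj1 hj2
    have dk := h.degu k hk1 hk2
    rw [Fi.2.2.2.2.2.2] at di
    rw [Fj.2.2.2.2.2.2, ← sij, ← bij] at dj
    rw [Fk.2.2.2.2.2.2, sk, bk] at dk
    omega
  · simpa using fun e => nkj e.symm
  · simp only [Finset.mem_insert, Finset.mem_singleton, not_or]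
    exact ⟨hne, fun e => nki e.symm⟩

/-- The structure theorem. -/
theorem structure_thm (h : Dat m deg f u) :
    ∃ (χ₁ χ₂ χ₃ : ι) (β : ℕ → ι) (δ₁ δ₂ δ₃ : ℤ),
      (δ₁ = 1 ∨ δ₁ = -1) ∧ (δ₂ = 1 ∨ δ₂ = -1) ∧ (δ₃ = 1 ∨ δ₃ = -1) ∧
      χ₁ ≠ χ₂ ∧ χ₁ ≠ χ₃ ∧ χ₂ ≠ χ₃ ∧
      f χ₁ = δ₁ ∧ f χ₂ = δ₂ ∧ f χ₃ = δ₃ ∧ (∀ χ, χ ≠ χ₁ → χ ≠ χ₂ → χ ≠ χ₃ → f χ = 0) ∧
      (∀ j, 1 ≤ j → j < m → β j ≠ χ₁ ∧ β j ≠ χ₂ ∧ β j ≠ χ₃ ∧ u j χ₁ = δ₁ ∧ u j (β j) = -δ₁ ∧
        ∀ χ, χ ≠ χ₁ → χ ≠ β j → u j χ = 0) ∧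
      (∀ i j, 1 ≤ i → i < m → 1 ≤ j → j < m → β i = β j → i = j) := by
  have hex : ∀ j, ∃ α β, 1 ≤ j → j < m → Form f (u j) α β := by
    intro j
    by_cases hj : 1 ≤ j ∧ j < m
    · obtain ⟨α, β, hF⟩ := h.exists_form hj.1 hj.2
      exact ⟨α, β, fun _ _ => hF⟩
    · have hne : Nonempty ι := by
        by_contra hemp
        rw [not_nonempty_iff] at hemp
        have := h.normf
        simp at this
      obtain ⟨x⟩ := hne
      exact ⟨x, x, fun a b => absurd ⟨a, b⟩ hj⟩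
  choose α β hF using hex
  have hm1 : 1 < m := by rcases h.hm with e | e <;> omega
  have hα : ∀ j, 1 ≤ j → j < m → α j = α 1 := fun j h1 h2 =>
    h.alpha_eq hF h1 h2 (le_refl 1) hm1
  have F1 := hF 1 (le_refl 1) hm1
  have hmem : α 1 ∈ Finset.univ.filter fun χ => f χ ≠ 0 := by
    simp only [Finset.mem_filter, Finset.mem_univ, true_and]
    rcases F1.2.2.1 with e | e <;> rw [e] <;> norm_num
  have hc2 : ((Finset.univ.filter fun χ => f χ ≠ 0).erase (α 1)).card = 2 := by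
    rw [Finset.card_erase_of_mem hmem, h.card_supp_f]
  obtain ⟨x, y, hxy, hsupp⟩ := Finset.card_eq_two.1 hc2
  have hx : x ≠ α 1 ∧ f x ≠ 0 := by
    have : x ∈ (Finset.univ.filter fun χ => f χ ≠ 0).erase (α 1) := by rw [hsupp]; simp
    simpa using this
  have hy : y ≠ α 1 ∧ f y ≠ 0 := by
    have : y ∈ (Finset.univ.filter fun χ => f χ ≠ 0).erase (α 1) := by rw [hsupp]; simp
    simpa using this
  refine ⟨α 1, x, y, β, f (α 1), f x, f y, F1.2.2.1, (h.f_small x).resolve_left hx.2,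
    (h.f_small y).resolve_left hy.2, hx.1.symm, hy.1.symm, hxy, rfl, rfl, rfl, ?_, ?_, ?_⟩
  · intro χ n1 n2 n3
    by_contra hne
    have : χ ∈ (Finset.univ.filter fun χ => f χ ≠ 0).erase (α 1) := by
      simp only [Finset.mem_erase, Finset.mem_filter, Finset.mem_univ, true_and]
      exact ⟨n1, hne⟩
    rw [hsupp] at this
    simp only [Finset.mem_insert, Finset.mem_singleton] at this
    tauto
  · intro j h1 h2
    have Fj := hF j h1 h2
    rw [hα j h1 h2] at Fj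
    obtain ⟨hab, hva, hfa, hfb, hvb, hv0, hvs⟩ := Fj
    refine ⟨hab.symm, fun e => hx.2 (e ▸ hfb), fun e => hy.2 (e ▸ hfb), hva, ?_, hv0⟩
    have dj := h.degu j h1 h2
    rw [hvs] at dj
    have p1 := h.deg_pos (α 1)
    have p2 := h.deg_pos (β j)
    rcases hfa with a | a <;> rcases hvb with b | b <;> rw [a, b] at dj <;> rw [a, b] <;>
      first | rfl | (exfalso; omega)
  · intro i j hi1 hi2 hj1 hj2 hb
    by_contra hij
    have gij := h.gram i j hi1 hi2 hj1 hj2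
    rw [if_neg hij] at gij
    rcases pair (hF i hi1 hi2) (hF j hj1 hj2) gij with ⟨-, n⟩ | ⟨n, -, -⟩
    · exact n hb
    · exact n ((hα i hi1 hi2).trans (hα j hj1 hj2).symm)

end Dat

end Cfsg.Agent.Lib.Helper75.DihLat
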