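import Mathlib
import Cfsg.Agent.Lib.Helper75.DihGroup
import Cfsg.Agent.Lib.Helper75.DihFourier
import Cfsg.Agent.Lib.Helper75.DihLattice
import Cfsg.Agent.Lib.Helper73.DihedralRec

/-!
# The principal 2-block of a group with dihedral Sylow 2-subgroups (helper75)
-/

set_option autoImplicit false

namespace Cfsg.Agent.Lib.Helper75

open Cfsg Cfsg.Agent.Lib.Helper78 Cfsg.Agent.Lib.Helper4 Cfsg.Agent.Lib.Helper73
open scoped ComplexConjugate

noncomputable section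

theorem sum_zmod_val {N : ℕ} [NeZero N] (F : ℕ → ℂ) :
    ∑ k : ZMod N, F k.val = ∑ n ∈ Finset.range N, F n := by
  obtain ⟨n, rfl⟩ : ∃ n, N = n + 1 := ⟨N - 1, by have := NeZero.pos N; omega⟩
  exact Fin.sum_univ_eq_sum_range F (n + 1)

theorem exists_hom_zpowers {G : Type*} [Group G] (u : G) (w : ℂ) (hw : w ^ orderOf u = 1)
    (hu : 0 < orderOf u) :
    ∃ φ : Subgroup.zpowers u →* ℂˣ, ∀ n : ℕ,
      ((φ ⟨u ^ n, Subgroup.pow_mem _ (Subgroup.mem_zpowers u) n⟩ : ℂˣ) : ℂ) = w ^ n := by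
  obtain ⟨a0, ha0⟩ : ∃ a0 : Subgroup.zpowers u, a0 = ⟨u, Subgroup.mem_zpowers u⟩ := ⟨_, rfl⟩
  have hgen : ∀ x : Subgroup.zpowers u, x ∈ Subgroup.zpowers a0 := by
    rintro ⟨x, j, rfl⟩
    refine ⟨j, ?_⟩
    apply Subtype.ext
    rw [ha0]
    simp
  have hw0 : w ≠ 0 := by
    intro h0
    rw [h0, zero_pow hu.ne'] at hw
    exact zero_ne_one hw
  have hIu4 : (Units.mk0 w hw0) ^ orderOf u = 1 := by
    apply Units.ext
    simpa using hw
  have hdvd : orderOf (Units.mk0 w hw0) ∣ orderOf a0 := by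
    rw [ha0, Subgroup.orderOf_mk]
    exact orderOf_dvd_of_pow_eq_one hIu4
  refine ⟨monoidHomOfForallMemZpowers hgen hdvd, fun n => ?_⟩
  have : (⟨u ^ n, Subgroup.pow_mem _ (Subgroup.mem_zpowers u) n⟩ : Subgroup.zpowers u) = a0 ^ n := by
    apply Subtype.ext
    rw [ha0]; simp
  rw [this, map_pow, monoidHomOfForallMemZpowers_apply_gen hgen hdvd]
  simp

/-- multiplicities of linear characters in the restriction to a cyclic subgroup -/
theorem inner_zpowers' {G : Type*} [Group G] [Fintype G] (u : G) (χ : IrrCharacter G) (w : ℂ)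
    (hw : w ^ orderOf u = 1) :
    ∃ n : ℕ, ∑ k ∈ Finset.range (orderOf u), (χ : G → ℂ) (u ^ k) * conj (w ^ k)
      = (orderOf u : ℂ) * n := by
  classical
  have hu : 0 < orderOf u := orderOf_pos u
  obtain ⟨φ, hφ⟩ := exists_hom_zpowers u w hw hu
  have := Fintype.ofFinite (Subgroup.zpowers u)
  have hres : IsCharacter (Subgroup.zpowers u) (fun x : Subgroup.zpowers u => (χ : G → ℂ) x) :=
    Cfsg.Agent.Lib.Helper3.IsCharacter.restrict
      (Cfsg.Agent.Lib.Helper3.IsIrrCharacter.isCharacter χ.2) _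
  obtain ⟨n, hn⟩ := Cfsg.Agent.Lib.Helper3.IsCharacter.classInner_eq_natCast hres
    (Cfsg.Agent.Lib.Helper3.IsIrrCharacter.isCharacter
      (Cfsg.Agent.Lib.Helper74.isIrrCharacter_of_hom φ))
  refine ⟨n, ?_⟩
  unfold classInner at hn
  rw [Nat.card_zpowers, sum_zpowers_range u hu] at hn
  simp only [hφ] at hn
  have h0 : (orderOf u : ℂ) ≠ 0 := by exact_mod_cast hu.ne'
  rw [← hn]
  field_simp

namespace DihS

variable {G : Type*} [Group G] [Fintype G] {T : Sylow 2 G} {σ τ : G} {N : ℕ} [NeZero N]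

theorem σ_pow (h : DihS (T : Subgroup G) σ τ N) : σ ^ N = 1 := by
  rw [← h.ord_σ]; exact pow_orderOf_eq_one σ

theorem s_ne_one (h : DihS (T : Subgroup G) σ τ N) {k : ZMod N} (hk : k ≠ 0) :
    zmodPow N σ k ≠ 1 := by
  intro h1
  rw [← zmodPow_zero N σ] at h1
  exact hk (zmodPow_injective N σ h.ord_σ h1)

theorem s_mul_self (h : DihS (T : Subgroup G) σ τ N) (k : ZMod N) :
    zmodPow N σ k * zmodPow N σ k = 1 ↔ k = -k := by
  rw [← zmodPow_add N σ h.σ_pow, ← zmodPow_zero N σ]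
  constructor
  · intro h1
    exact eq_neg_of_add_eq_zero_left (zmodPow_injective N σ h.ord_σ h1)
  · intro h1
    have : k + k = 0 := by nth_rewrite 1 [h1]; exact neg_add_cancel k
    rw [this]

theorem val_neg (h : DihS (T : Subgroup G) σ τ N) (χ : IrrCharacter G) (k : ZMod N) :
    (χ : G → ℂ) (zmodPow N σ (-k)) = (χ : G → ℂ) (zmodPow N σ k) := by
  rw [zmodPow_neg N σ h.σ_pow]
  obtain ⟨c, hc⟩ := isConj_iff.1 (h.isConj_inv (zmodPow_mem N σ k))
  rw [← hc, irr_isClassFunction χ]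

theorem isPPart_s (h : DihS (T : Subgroup G) σ τ N) (k : ZMod N) :
    IsPPart 2 (zmodPow N σ k) (zmodPow N σ k) :=
  ⟨1, mul_one _, Commute.one_right _, h.isP_of_mem (zmodPow_mem N σ k), by
    rw [orderOf_one]; norm_num⟩

theorem isConj_s_iff (h : DihS (T : Subgroup G) σ τ N) (k l : ZMod N) :
    IsConj (zmodPow N σ k) (zmodPow N σ l) ↔ (l = k ∨ l = -k) := by
  constructor
  · intro hc
    rcases h.fusion (zmodPow_mem N σ k) (zmodPow_mem N σ l) hc with e | e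
    · left; exact zmodPow_injective N σ h.ord_σ e
    · right
      rw [← zmodPow_neg N σ h.σ_pow] at e
      exact zmodPow_injective N σ h.ord_σ e
  · rintro (rfl | rfl)
    · exact IsConj.refl _
    · rw [zmodPow_neg N σ h.σ_pow]
      exact h.isConj_inv (zmodPow_mem N σ k)

open Classical in
/-- the principal block as a finset -/
def B0 (M : Ideal AlgInt) (G : Type*) [Group G] [Fintype G] : Finset (IrrCharacter G) :=
  Finset.univ.filter fun χ => χ ∈ principalBlock M G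

theorem mem_B0 {M : Ideal AlgInt} {χ : IrrCharacter G} : χ ∈ B0 M G ↔ χ ∈ principalBlock M G := by
  classical
  simp [B0]

theorem colFun_eq (h : DihS (T : Subgroup G) σ τ N) (M : Ideal AlgInt) (k : ZMod N) (g : G) :
    colFun M (zmodPow N σ k) g
      = ∑ χ ∈ B0 M G, (χ : G → ℂ) (zmodPow N σ k) * (χ : G → ℂ) g := by
  classical
  unfold colFun B0
  rw [Finset.sum_filter]
  refine Finset.sum_congr rfl fun χ _ => ?_
  rw [← zmodPow_neg N σ h.σ_pow, h.val_neg]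

theorem col (h : DihS (T : Subgroup G) σ τ N) {M : Ideal AlgInt} (hM : IsPModular 2 M)
    (k : ZMod N) (hk : k ≠ 0) (l : ZMod N) :
    ∑ χ ∈ B0 M G, (χ : G → ℂ) (zmodPow N σ k) * (χ : G → ℂ) (zmodPow N σ l)
      = (N : ℂ) * ((if l = k then 1 else 0) + (if l = -k then 1 else 0)) := by
  classical
  rw [← h.colFun_eq]
  have hn := h.nilCen (zmodPow_mem N σ k) (h.s_ne_one hk)
  by_cases hc : IsConj (zmodPow N σ k) (zmodPow N σ l)
  · rw [hn.col_on hM (h.isPPart_s l) hc]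
    simp only [h.s_mul_self]
    rcases (h.isConj_s_iff k l).1 hc with rfl | rfl
    · by_cases e : l = -l
      · rw [if_pos e, if_pos rfl, if_pos e]; push_cast; ring
      · rw [if_neg e, if_pos rfl, if_neg e]; ring
    · by_cases e : k = -k
      · rw [if_pos e, if_pos e.symm, if_pos rfl]; push_cast; ring
      · rw [if_neg e, if_neg (fun e' => e e'.symm), if_pos rfl]; ring
  · rw [hn.col_off hM (h.isPPart_s l) hc]
    rw [h.isConj_s_iff] at hc
    push Not at hc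
    rw [if_neg hc.1, if_neg hc.2]; ring

theorem col_odd (h : DihS (T : Subgroup G) σ τ N) {M : Ideal AlgInt} (hM : IsPModular 2 M)
    (k : ZMod N) (hk : k ≠ 0) (ρ : G) (hρ : Odd (orderOf ρ)) :
    ∑ χ ∈ B0 M G, (χ : G → ℂ) (zmodPow N σ k) * (χ : G → ℂ) ρ = 0 := by
  rw [← h.colFun_eq]
  have hn := h.nilCen (zmodPow_mem N σ k) (h.s_ne_one hk)
  apply hn.col_off hM (z := 1)
  · refine ⟨ρ, one_mul ρ, Commute.one_left ρ, ⟨0, by simp⟩, ?_⟩
    rw [← even_iff_two_dvd, Nat.not_even_iff_odd]; exact hρ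
  · intro hc
    exact h.s_ne_one hk (isConj_one_left.1 hc)

/-- the additive character attached to `ζ` -/
def psi (N : ℕ) [NeZero N] {ζ : ℂ} (hζ : IsPrimitiveRoot ζ N) : AddChar (ZMod N) ℂ :=
  AddChar.zmodChar N hζ.pow_eq_one

theorem psi_apply {ζ : ℂ} (hζ : IsPrimitiveRoot ζ N) (a : ZMod N) : psi N hζ a = ζ ^ a.val :=
  AddChar.zmodChar_apply _ a

theorem psi_natCast {ζ : ℂ} (hζ : IsPrimitiveRoot ζ N) (a : ℕ) : psi N hζ (a : ZMod N) = ζ ^ a :=
  AddChar.zmodChar_apply' _ a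

theorem psi_prim {ζ : ℂ} (hζ : IsPrimitiveRoot ζ N) : (psi N hζ).IsPrimitive :=
  AddChar.zmodChar_primitive_of_primitive_root N hζ

theorem exists_mult (h : DihS (T : Subgroup G) σ τ N) {ζ : ℂ} (hζ : IsPrimitiveRoot ζ N)
    (j : ZMod N) (χ : IrrCharacter G) :
    ∃ n : ℕ, ∑ k : ZMod N, (χ : G → ℂ) (zmodPow N σ k) * psi N hζ (k * j) = (N : ℂ) * n := by
  have hw : (psi N hζ j) ^ orderOf σ = 1 := by
    rw [h.ord_σ, psi_apply, ← pow_mul, mul_comm, pow_mul, hζ.pow_eq_one, one_pow]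
  obtain ⟨n, hn⟩ := inner_zpowers' σ χ (psi N hζ j) hw
  refine ⟨n, ?_⟩
  rw [h.ord_σ] at hn
  rw [← hn, ← sum_zmod_val (N := N) (fun k => (χ : G → ℂ) (σ ^ k) * conj ((psi N hζ j) ^ k)),
    ← Equiv.sum_comp (Equiv.neg (ZMod N))]
  refine Finset.sum_congr rfl fun k _ => ?_
  simp only [Equiv.neg_apply]
  rw [h.val_neg]
  congr 1
  rw [← AddChar.map_nsmul_eq_pow, ← AddChar.map_neg_eq_conj]
  congr 1
  rw [nsmul_eq_mul, ZMod.natCast_val, ZMod.cast_id', id]
  ring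

theorem exists_D (h : DihS (T : Subgroup G) σ τ N) {ζ : ℂ} (hζ : IsPrimitiveRoot ζ N)
    (j : ZMod N) (χ : IrrCharacter G) :
    ∃ z : ℤ, (N : ℂ) * (z : ℂ)
      = ∑ k : ZMod N, (χ : G → ℂ) (zmodPow N σ k) * (1 - psi N hζ (k * j)) := by
  obtain ⟨n0, h0⟩ := h.exists_mult hζ 0 χ
  obtain ⟨nj, hj⟩ := h.exists_mult hζ j χ
  refine ⟨(n0 : ℤ) - nj, ?_⟩
  simp only [mul_zero, AddChar.map_zero_eq_one, mul_one] at h0
  simp only [mul_sub, mul_one, Finset.sum_sub_distrib]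
  rw [h0, hj]
  push_cast
  ring

/-- `D j χ = ⟨χ_C, 1⟩ - ⟨χ_C, λ_j⟩`. -/
def Dfun (h : DihS (T : Subgroup G) σ τ N) {ζ : ℂ} (hζ : IsPrimitiveRoot ζ N)
    (j : ZMod N) (χ : IrrCharacter G) : ℤ := (h.exists_D hζ j χ).choose

theorem fouDat (h : DihS (T : Subgroup G) σ τ N) {ζ : ℂ} (hζ : IsPrimitiveRoot ζ N)
    {M : Ideal AlgInt} (hM : IsPModular 2 M) :
    DihFou.Dat (B0 M G) N (psi N hζ) (fun χ k => (χ : G → ℂ) (zmodPow N σ k)) (h.Dfun hζ) where
  prim := psi_prim hζ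
  X_neg := fun χ k => h.val_neg χ k
  col := fun k hk l => h.col hM k hk l
  hD := fun j χ => (h.exists_D hζ j χ).choose_spec

end DihS

end

end Cfsg.Agent.Lib.Helper75
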