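import Mathlib
import Cfsg.Agent.Lib.Helper75.DihBlock

/-!
# The principal 2-block of a group with dihedral Sylow 2-subgroups, II (helper75)
-/

set_option autoImplicit false

namespace Cfsg.Agent.Lib.Helper75

open Cfsg Cfsg.Agent.Lib.Helper78 Cfsg.Agent.Lib.Helper4 Cfsg.Agent.Lib.Helper73
open scoped ComplexConjugate

noncomputable section

namespace DihS

variable {G : Type*} [Group G] [Fintype G] {T : Sylow 2 G} {σ τ : G} {N : ℕ} [NeZero N]

theorem half_cases (h : DihS (T : Subgroup G) σ τ N) : N / 2 = 2 ∨ 4 ≤ N / 2 := by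
  obtain ⟨e, he⟩ := h.pow
  have h4 := h.four_le
  rcases e with _ | _ | _ | e
  · simp at he; omega
  · simp at he; omega
  · left; rw [he]; norm_num
  · right
    have : 2 ^ (e + 1 + 1 + 1) = 8 * 2 ^ e := by ring
    have h1 : 1 ≤ 2 ^ e := Nat.one_le_two_pow
    rw [he, this]; omega

theorem natCast_ne_zero (h : DihS (T : Subgroup G) σ τ N) {a : ℕ} (h1 : 1 ≤ a) (h2 : a ≤ N / 2) :
    (a : ZMod N) ≠ 0 := by
  rw [Ne, ZMod.natCast_eq_zero_iff]
  intro hd
  have := Nat.le_of_dvd (by omega) hd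
  have := h.two_mul_half
  omega

theorem natCast_eq_iff (h : DihS (T : Subgroup G) σ τ N) {a b : ℕ} (ha2 : a ≤ N / 2)
    (hb2 : b ≤ N / 2) : (a : ZMod N) = (b : ZMod N) ↔ a = b := by
  have h2 := h.two_mul_half
  have h4 := h.four_le
  rw [ZMod.natCast_eq_natCast_iff']
  rw [Nat.mod_eq_of_lt (by omega), Nat.mod_eq_of_lt (by omega)]

theorem natCast_eq_neg_iff (h : DihS (T : Subgroup G) σ τ N) {a b : ℕ} (ha1 : 1 ≤ a)
    (ha2 : a ≤ N / 2) (hb2 : b ≤ N / 2) :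
    (a : ZMod N) = -(b : ZMod N) ↔ (a = N / 2 ∧ b = N / 2) := by
  have h2 := h.two_mul_half
  rw [eq_neg_iff_add_eq_zero, ← Nat.cast_add, ZMod.natCast_eq_zero_iff]
  constructor
  · intro hd
    have := Nat.le_of_dvd (by omega) hd
    omega
  · rintro ⟨rfl, rfl⟩
    rw [← two_mul, h2]

theorem exists_rep (h : DihS (T : Subgroup G) σ τ N) {j : ZMod N} (hj : j ≠ 0) :
    ∃ a : ℕ, 1 ≤ a ∧ a ≤ N / 2 ∧ (j = a ∨ j = -(a : ZMod N)) := by
  have h2 := h.two_mul_half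
  have hv : j.val ≠ 0 := by rwa [Ne, ZMod.val_eq_zero]
  have hlt := ZMod.val_lt j
  by_cases hle : j.val ≤ N / 2
  · exact ⟨j.val, by omega, hle, Or.inl (by rw [ZMod.natCast_val, ZMod.cast_id', id])⟩
  · refine ⟨N - j.val, by omega, by omega, Or.inr ?_⟩
    rw [Nat.cast_sub hlt.le, ZMod.natCast_self, ZMod.natCast_val, ZMod.cast_id', id]
    ring

theorem val_J_ne_zero (h : DihS (T : Subgroup G) σ τ N) {M : Ideal AlgInt} (hM : IsPModular 2 M)
    {χ : IrrCharacter G} (hχ : χ ∈ principalBlock M G) : (χ : G → ℂ) (σ ^ (N / 2)) ≠ 0 := by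
  intro h0
  have h1 : MemLocalIdeal M (centralChar (fun _ : G => (1 : ℂ)) (σ ^ (N / 2))
      - centralChar (χ : G → ℂ) (σ ^ (N / 2))) := hχ (σ ^ (N / 2))
  unfold centralChar at h1
  rw [h0] at h1
  simp only [mul_one, div_one, mul_zero, zero_div, sub_zero] at h1
  rw [memLocalIdeal_natCast_iff hM] at h1
  have hle : (T : Subgroup G) ≤ Cen (σ ^ (N / 2)) := by
    intro x hx
    exact Subgroup.mem_centralizer_singleton_iff.2 (h.J_central hx)
  exact T.not_dvd_index (h1.trans (Subgroup.index_dvd_of_le hle))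

variable {ζ : ℂ} {M : Ideal AlgInt}

theorem D_triv (h : DihS (T : Subgroup G) σ τ N) (hζ : IsPrimitiveRoot ζ N)
    (hM : IsPModular 2 M) {j : ZMod N} (hj : j ≠ 0) : h.Dfun hζ j (trivIrr G) = 1 := by
  have F := h.fouDat hζ hM
  have h1 := F.hD j (trivIrr G)
  have h2 : ∀ k : ZMod N, (trivIrr G : G → ℂ) (zmodPow N σ k) = 1 := fun _ => rfl
  simp only [h2, one_mul, Finset.sum_sub_distrib, Finset.sum_const, Finset.card_univ, ZMod.card,
    nsmul_eq_mul, mul_one] at h1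
  rw [F.sum_psi, if_neg hj, sub_zero] at h1
  have h3 : (N : ℂ) * ((h.Dfun hζ j (trivIrr G) : ℤ) : ℂ) = (N : ℂ) * 1 := by rw [h1, mul_one]
  exact_mod_cast mul_left_cancel₀ DihFou.Dat.N_ne h3

theorem triv_mem (hM : IsPModular 2 M) : trivIrr G ∈ B0 M G :=
  mem_B0.2 (trivIrr_mem_principalBlock (pmod_isPrime hM))

open Classical in
theorem sum_punct (hM : IsPModular 2 M) (a : IrrCharacter G → ℤ) :
    ∑ χ, (if χ ∈ B0 M G ∧ χ ≠ trivIrr G then a χ else 0)
      = ∑ χ ∈ B0 M G, a χ - a (trivIrr G) := by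
  rw [← Finset.sum_filter, ← Finset.sum_erase_eq_sub (triv_mem hM)]
  apply Finset.sum_congr _ fun _ _ => rfl
  ext χ
  simp only [Finset.mem_filter, Finset.mem_univ, true_and, Finset.mem_erase]
  tauto

theorem gramZ (h : DihS (T : Subgroup G) σ τ N) (hζ : IsPrimitiveRoot ζ N)
    (hM : IsPModular 2 M) (i j : ZMod N) (hi : i ≠ 0) (hj : j ≠ 0) :
    ∑ χ ∈ B0 M G, h.Dfun hζ i χ * h.Dfun hζ j χ
      = 2 + (if i = j then 1 else 0) + (if i = -j then 1 else 0) := by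
  have := (h.fouDat hζ hM).gram i j hi hj
  have h2 : ((∑ χ ∈ B0 M G, h.Dfun hζ i χ * h.Dfun hζ j χ : ℤ) : ℂ)
      = ((2 + (if i = j then 1 else 0) + (if i = -j then 1 else 0) : ℤ) : ℂ) := by
    push_cast
    rw [this]
  exact_mod_cast h2

theorem degZ (h : DihS (T : Subgroup G) σ τ N) (hζ : IsPrimitiveRoot ζ N)
    (hM : IsPModular 2 M) (j : ZMod N) :
    ∑ χ ∈ B0 M G, h.Dfun hζ j χ * (charDegree (χ : G → ℂ) : ℤ) = 0 := by
  have := (h.fouDat hζ hM).sum_D_mul (fun χ => (χ : G → ℂ) 1)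
    (fun k hk => h.col_odd hM k hk 1 (by rw [orderOf_one]; exact odd_one)) j
  have h2 : ((∑ χ ∈ B0 M G, h.Dfun hζ j χ * (charDegree (χ : G → ℂ) : ℤ) : ℤ) : ℂ) = ((0 : ℤ) : ℂ) := by
    push_cast
    rw [← this]
    refine Finset.sum_congr rfl fun χ _ => ?_
    rw [irr_one_eq]
  exact_mod_cast h2

open Classical in
/-- the punctured vectors -/
def uvec (h : DihS (T : Subgroup G) σ τ N) (hζ : IsPrimitiveRoot ζ N) (M : Ideal AlgInt)
    (j : ℕ) (χ : IrrCharacter G) : ℤ :=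
  if χ ∈ B0 M G ∧ χ ≠ trivIrr G then h.Dfun hζ (j : ZMod N) χ else 0

open Classical in
theorem sum_uvec_mul (h : DihS (T : Subgroup G) σ τ N) (hζ : IsPrimitiveRoot ζ N)
    (hM : IsPModular 2 M) (i j : ℕ) :
    ∑ χ, h.uvec hζ M i χ * h.uvec hζ M j χ
      = ∑ χ ∈ B0 M G, h.Dfun hζ (i : ZMod N) χ * h.Dfun hζ (j : ZMod N) χ
        - h.Dfun hζ (i : ZMod N) (trivIrr G) * h.Dfun hζ (j : ZMod N) (trivIrr G) := by
  rw [← sum_punct hM (fun χ => h.Dfun hζ (i : ZMod N) χ * h.Dfun hζ (j : ZMod N) χ)]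
  refine Finset.sum_congr rfl fun χ _ => ?_
  unfold uvec
  split_ifs <;> simp

open Classical in
theorem latDat (h : DihS (T : Subgroup G) σ τ N) (hζ : IsPrimitiveRoot ζ N)
    (hM : IsPModular 2 M) :
    DihLat.Dat (N / 2) (fun χ : IrrCharacter G => (charDegree (χ : G → ℂ) : ℤ))
      (h.uvec hζ M (N / 2)) (h.uvec hζ M) where
  hm := h.half_cases
  deg_pos := fun χ => by exact_mod_cast irr_charDegree_pos χ
  gram := by
    intro i j hi1 hi2 hj1 hj2
    rw [h.sum_uvec_mul hζ hM, h.gramZ hζ hM _ _ (h.natCast_ne_zero hi1 hi2.le)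
      (h.natCast_ne_zero hj1 hj2.le), h.D_triv hζ hM (h.natCast_ne_zero hi1 hi2.le),
      h.D_triv hζ hM (h.natCast_ne_zero hj1 hj2.le)]
    simp only [h.natCast_eq_iff hi2.le hj2.le, h.natCast_eq_neg_iff hi1 hi2.le hj2.le]
    rw [if_neg (by omega : ¬ (i = N / 2 ∧ j = N / 2))]
    split_ifs <;> norm_num
  normf := by
    have hm1 : 1 ≤ N / 2 := by rcases h.half_cases with e | e <;> omega
    rw [h.sum_uvec_mul hζ hM, h.gramZ hζ hM _ _ (h.natCast_ne_zero hm1 le_rfl)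
      (h.natCast_ne_zero hm1 le_rfl), h.D_triv hζ hM (h.natCast_ne_zero hm1 le_rfl)]
    simp only [h.natCast_eq_neg_iff hm1 le_rfl le_rfl]
    norm_num
  uf := by
    intro j hj1 hj2
    have hm1 : 1 ≤ N / 2 := by omega
    rw [h.sum_uvec_mul hζ hM, h.gramZ hζ hM _ _ (h.natCast_ne_zero hj1 hj2.le)
      (h.natCast_ne_zero hm1 le_rfl), h.D_triv hζ hM (h.natCast_ne_zero hm1 le_rfl),
      h.D_triv hζ hM (h.natCast_ne_zero hj1 hj2.le)]
    simp only [h.natCast_eq_iff hj2.le le_rfl, h.natCast_eq_neg_iff hj1 hj2.le le_rfl]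
    rw [if_neg (by omega), if_neg (by omega)]
    norm_num
  degu := by
    intro j hj1 hj2
    have h1 := sum_punct hM (fun χ => h.Dfun hζ (j : ZMod N) χ * (charDegree (χ : G → ℂ) : ℤ))
    rw [h.degZ hζ hM, h.D_triv hζ hM (h.natCast_ne_zero hj1 hj2.le)] at h1
    have h2 : (charDegree (trivIrr G : G → ℂ) : ℤ) = 1 := by
      have := irr_one_eq (trivIrr G)
      have e : (trivIrr G : G → ℂ) 1 = 1 := rfl
      rw [e] at this
      exact_mod_cast this.symm
    rw [h2] at h1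
    rw [show (-1 : ℤ) = 0 - 1 * 1 by norm_num, ← h1]
    refine Finset.sum_congr rfl fun χ _ => ?_
    unfold uvec
    split_ifs <;> simp
  degf := by
    have hm1 : 1 ≤ N / 2 := by rcases h.half_cases with e | e <;> omega
    have h1 := sum_punct hM
      (fun χ => h.Dfun hζ ((N / 2 : ℕ) : ZMod N) χ * (charDegree (χ : G → ℂ) : ℤ))
    rw [h.degZ hζ hM, h.D_triv hζ hM (h.natCast_ne_zero hm1 le_rfl)] at h1
    have h2 : (charDegree (trivIrr G : G → ℂ) : ℤ) = 1 := by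
      have := irr_one_eq (trivIrr G)
      have e : (trivIrr G : G → ℂ) 1 = 1 := rfl
      rw [e] at this
      exact_mod_cast this.symm
    rw [h2] at h1
    rw [show (-1 : ℤ) = 0 - 1 * 1 by norm_num, ← h1]
    refine Finset.sum_congr rfl fun χ _ => ?_
    unfold uvec
    split_ifs <;> simp

end DihS

end

end Cfsg.Agent.Lib.Helper75
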