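import Mathlib
import Cfsg.Agent.Lib.Helper75.DihBlock2

/-!
# The principal 2-block of a group with dihedral Sylow 2-subgroups, III (helper75)
-/

set_option autoImplicit false

namespace Cfsg.Agent.Lib.Helper75

open Cfsg Cfsg.Agent.Lib.Helper78 Cfsg.Agent.Lib.Helper4 Cfsg.Agent.Lib.Helper73
open scoped ComplexConjugate

noncomputable section

namespace DihFou.Dat

variable {ι : Type*} {B : Finset ι} {N : ℕ} [NeZero N] {ψ : AddChar (ZMod N) ℂ}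
  {X : ι → ZMod N → ℂ} {D : ZMod N → ι → ℤ}

theorem inv_const (h : Dat B N ψ X D) {χ : ι} {c : ℤ} (hc : ∀ j, j ≠ 0 → D j χ = c)
    {l : ZMod N} (hl : l ≠ 0) : X χ l = c := by
  rw [h.inversion χ l hl]
  have h1 : ∀ j : ZMod N, (D j χ : ℂ) * ψ (j * (-l))
      = (c : ℂ) * ψ (j * (-l)) - (if j = 0 then (c : ℂ) else 0) := by
    intro j
    by_cases hj : j = 0
    · rw [hj, h.D_zero, if_pos rfl, zero_mul, AddChar.map_zero_eq_one]; simp
    · rw [hc j hj, if_neg hj, sub_zero]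
  simp only [h1]
  rw [Finset.sum_sub_distrib, ← Finset.mul_sum, h.sum_psi, if_neg (neg_ne_zero.2 hl),
    Finset.sum_ite_eq']
  simp

theorem inv_single (h : Dat B N ψ X D) {χ : ι} {c : ℤ} {a : ZMod N}
    (hc : ∀ j, D j χ = if j = a then c else 0) {l : ZMod N} (hl : l ≠ 0) :
    X χ l = - (c * ψ (a * (-l))) := by
  rw [h.inversion χ l hl]
  have h1 : ∀ j : ZMod N, (D j χ : ℂ) * ψ (j * (-l))
      = if j = a then (c : ℂ) * ψ (j * (-l)) else 0 := by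
    intro j
    rw [hc j]
    split_ifs <;> simp
  simp only [h1]
  rw [Finset.sum_ite_eq']
  simp

theorem inv_pair (h : Dat B N ψ X D) {χ : ι} {c : ℤ} {a : ZMod N}
    (hc : ∀ j, D j χ = (if j = a then c else 0) + (if j = -a then c else 0)) {l : ZMod N}
    (hl : l ≠ 0) : X χ l = - (c * (ψ (a * (-l)) + ψ (-a * (-l)))) := by
  rw [h.inversion χ l hl]
  have h1 : ∀ j : ZMod N, (D j χ : ℂ) * ψ (j * (-l))
      = (if j = a then (c : ℂ) * ψ (j * (-l)) else 0)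
        + (if j = -a then (c : ℂ) * ψ (j * (-l)) else 0) := by
    intro j
    rw [hc j]
    split_ifs <;> simp <;> ring
  simp only [h1]
  rw [Finset.sum_add_distrib, Finset.sum_ite_eq', Finset.sum_ite_eq']
  simp
  ring

end DihFou.Dat

namespace DihS

variable {G : Type*} [Group G] [Fintype G] {T : Sylow 2 G} {σ τ : G} {N : ℕ} [NeZero N]
  {ζ : ℂ} {M : Ideal AlgInt}

theorem mem_of_uvec_ne (h : DihS (T : Subgroup G) σ τ N) (hζ : IsPrimitiveRoot ζ N) {j : ℕ}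
    {χ : IrrCharacter G} (hne : h.uvec hζ M j χ ≠ 0) : χ ∈ B0 M G ∧ χ ≠ trivIrr G := by
  classical
  by_contra hcon
  apply hne
  unfold uvec
  rw [if_neg hcon]

theorem uvec_eq (h : DihS (T : Subgroup G) σ τ N) (hζ : IsPrimitiveRoot ζ N) (j : ℕ)
    {χ : IrrCharacter G} (h1 : χ ∈ B0 M G) (h2 : χ ≠ trivIrr G) :
    h.uvec hζ M j χ = h.Dfun hζ (j : ZMod N) χ := by
  classical
  unfold uvec
  rw [if_pos ⟨h1, h2⟩]

open Classical in
theorem sum_punctC (hM : IsPModular 2 M) (a : IrrCharacter G → ℂ) :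
    ∑ χ ∈ B0 M G, a χ = a (trivIrr G)
      + ∑ χ, (if χ ∈ B0 M G ∧ χ ≠ trivIrr G then a χ else 0) := by
  rw [← Finset.sum_filter, ← Finset.add_sum_erase _ _ (triv_mem hM)]
  congr 1
  apply Finset.sum_congr _ fun _ _ => rfl
  ext χ
  simp only [Finset.mem_filter, Finset.mem_univ, true_and, Finset.mem_erase]
  tauto

theorem sum_D_eq (h : DihS (T : Subgroup G) σ τ N) (hζ : IsPrimitiveRoot ζ N)
    (hM : IsPModular 2 M) {j : ℕ} (hj1 : 1 ≤ j) (hj2 : j ≤ N / 2) (Y : IrrCharacter G → ℂ) :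
    ∑ χ ∈ B0 M G, (h.Dfun hζ (j : ZMod N) χ : ℂ) * Y χ
      = Y (trivIrr G) + ∑ χ, (h.uvec hζ M j χ : ℂ) * Y χ := by
  classical
  rw [sum_punctC hM, h.D_triv hζ hM (h.natCast_ne_zero hj1 hj2)]
  congr 1
  · simp
  · refine Finset.sum_congr rfl fun χ _ => ?_
    unfold uvec
    split_ifs <;> simp

/-- The structure of the principal 2-block. -/
theorem main (h : DihS (T : Subgroup G) σ τ N) (hζ : IsPrimitiveRoot ζ N)
    (hM : IsPModular 2 M) :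
    ∃ (χ₁ χ₂ χ₃ : IrrCharacter G) (β : ℕ → IrrCharacter G) (δ₁ δ₂ δ₃ : ℤ),
      (δ₁ = 1 ∨ δ₁ = -1) ∧ (δ₂ = 1 ∨ δ₂ = -1) ∧ (δ₃ = 1 ∨ δ₃ = -1) ∧
      χ₁ ≠ χ₂ ∧ χ₁ ≠ χ₃ ∧ χ₂ ≠ χ₃ ∧
      χ₁ ≠ trivIrr G ∧ χ₂ ≠ trivIrr G ∧ χ₃ ≠ trivIrr G ∧
      (∀ j, 1 ≤ j → j < N / 2 → β j ≠ χ₁ ∧ β j ≠ χ₂ ∧ β j ≠ χ₃ ∧ β j ≠ trivIrr G) ∧
      (∀ i j, 1 ≤ i → i < N / 2 → 1 ≤ j → j < N / 2 → β i = β j → i = j) ∧
      (∀ χ, χ ∈ principalBlock M G ↔ (χ = trivIrr G ∨ χ = χ₁ ∨ χ = χ₂ ∨ χ = χ₃ ∨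
        ∃ j, 1 ≤ j ∧ j < N / 2 ∧ χ = β j)) ∧
      (∀ l : ZMod N, l ≠ 0 → (χ₁ : G → ℂ) (zmodPow N σ l) = δ₁ ∧
        (χ₂ : G → ℂ) (zmodPow N σ l) = -(δ₂ * psi N hζ (((N / 2 : ℕ) : ZMod N) * (-l))) ∧
        (χ₃ : G → ℂ) (zmodPow N σ l) = -(δ₃ * psi N hζ (((N / 2 : ℕ) : ZMod N) * (-l))) ∧
        ∀ j : ℕ, 1 ≤ j → j < N / 2 → (β j : G → ℂ) (zmodPow N σ l)
          = δ₁ * (psi N hζ ((j : ZMod N) * (-l)) + psi N hζ (-(j : ZMod N) * (-l)))) ∧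
      (∀ ρ : G, Odd (orderOf ρ) →
        1 + δ₁ * (χ₁ : G → ℂ) ρ + δ₂ * (χ₂ : G → ℂ) ρ + δ₃ * (χ₃ : G → ℂ) ρ = 0 ∧
        ∀ j : ℕ, 1 ≤ j → j < N / 2 → 1 + δ₁ * (χ₁ : G → ℂ) ρ - δ₁ * (β j : G → ℂ) ρ = 0) := by
  classical
  have F := h.fouDat hζ hM
  obtain ⟨χ₁, χ₂, χ₃, β, δ₁, δ₂, δ₃, s1, s2, s3, n12, n13, n23, f1, f2, f3, f0, hu, hinj⟩ :=
    (h.latDat hζ hM).structure_thm
  have hm1 : 1 ≤ N / 2 := by rcases h.half_cases with e | e <;> omega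
  have d1 : δ₁ ≠ 0 := by rcases s1 with e | e <;> rw [e] <;> norm_num
  have d2 : δ₂ ≠ 0 := by rcases s2 with e | e <;> rw [e] <;> norm_num
  have d3 : δ₃ ≠ 0 := by rcases s3 with e | e <;> rw [e] <;> norm_num
  have m1 := h.mem_of_uvec_ne hζ (M := M) (j := N / 2) (χ := χ₁) (by rw [f1]; exact d1)
  have m2 := h.mem_of_uvec_ne hζ (M := M) (j := N / 2) (χ := χ₂) (by rw [f2]; exact d2)
  have m3 := h.mem_of_uvec_ne hζ (M := M) (j := N / 2) (χ := χ₃) (by rw [f3]; exact d3)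
  have mβ : ∀ j, 1 ≤ j → j < N / 2 → β j ∈ B0 M G ∧ β j ≠ trivIrr G := by
    intro j h1 h2
    apply h.mem_of_uvec_ne hζ (M := M) (j := j)
    rw [(hu j h1 h2).2.2.2.2.1]
    exact neg_ne_zero.2 d1
  -- values of `D` at all `j`
  have Drep : ∀ (χ : IrrCharacter G), χ ∈ B0 M G → χ ≠ trivIrr G → ∀ (j : ZMod N) (a : ℕ),
      (j = a ∨ j = -(a : ZMod N)) → h.Dfun hζ j χ = h.uvec hζ M a χ := by
    intro χ hχ1 hχ2 j a hja
    rw [h.uvec_eq hζ a hχ1 hχ2]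
    rcases hja with rfl | rfl
    · rfl
    · exact F.D_neg _ _
  have D1 : ∀ j : ZMod N, j ≠ 0 → h.Dfun hζ j χ₁ = δ₁ := by
    intro j hj
    obtain ⟨a, ha1, ha2, hja⟩ := h.exists_rep hj
    rw [Drep χ₁ m1.1 m1.2 j a hja]
    rcases Nat.lt_or_ge a (N / 2) with hlt | hge
    · exact (hu a ha1 hlt).2.2.2.1
    · rw [le_antisymm ha2 hge]; exact f1
  have hmm : -((N / 2 : ℕ) : ZMod N) = ((N / 2 : ℕ) : ZMod N) :=
    ((h.natCast_eq_neg_iff hm1 le_rfl le_rfl).2 ⟨rfl, rfl⟩).symm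
  have Dsing : ∀ (χ : IrrCharacter G) (δ : ℤ), χ ∈ B0 M G → χ ≠ trivIrr G → χ ≠ χ₁ →
      (∀ a, 1 ≤ a → a < N / 2 → χ ≠ β a) → h.uvec hζ M (N / 2) χ = δ →
      ∀ j : ZMod N, h.Dfun hζ j χ = if j = ((N / 2 : ℕ) : ZMod N) then δ else 0 := by
    intro χ δ hχ1 hχ2 hχ3 hχ4 hχ5 j
    by_cases hj : j = 0
    · rw [hj, F.D_zero, if_neg (fun e => h.natCast_ne_zero hm1 le_rfl e.symm)]
    obtain ⟨a, ha1, ha2, hja⟩ := h.exists_rep hj
    rw [Drep χ hχ1 hχ2 j a hja]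
    rcases Nat.lt_or_ge a (N / 2) with hlt | hge
    · rw [(hu a ha1 hlt).2.2.2.2.2 χ hχ3 (hχ4 a ha1 hlt), if_neg]
      rcases hja with rfl | rfl
      · rw [h.natCast_eq_iff ha2 le_rfl]; omega
      · intro e
        have e' : ((N / 2 : ℕ) : ZMod N) = -(a : ZMod N) := e.symm
        rw [h.natCast_eq_neg_iff hm1 le_rfl ha2] at e'
        omega
    · have ham := le_antisymm ha2 hge
      rw [ham] at hja ⊢
      rw [hχ5, if_pos]
      rcases hja with e | e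
      · exact e
      · rw [e, hmm]
  have D2 := Dsing χ₂ δ₂ m2.1 m2.2 n12.symm (fun a h1 h2 e => (hu a h1 h2).2.1 e.symm) f2
  have D3 := Dsing χ₃ δ₃ m3.1 m3.2 n13.symm (fun a h1 h2 e => (hu a h1 h2).2.2.1 e.symm) f3
  have Dβ : ∀ i, 1 ≤ i → i < N / 2 → ∀ j : ZMod N, h.Dfun hζ j (β i)
      = (if j = (i : ZMod N) then -δ₁ else 0) + (if j = -(i : ZMod N) then -δ₁ else 0) := by
    intro i hi1 hi2 j
    by_cases hj : j = 0
    · rw [hj, F.D_zero, if_neg (fun e => h.natCast_ne_zero hi1 hi2.le e.symm),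
        if_neg (fun e => h.natCast_ne_zero hi1 hi2.le (neg_eq_zero.1 e.symm))]
      rfl
    obtain ⟨a, ha1, ha2, hja⟩ := h.exists_rep hj
    rw [Drep (β i) (mβ i hi1 hi2).1 (mβ i hi1 hi2).2 j a hja]
    have hne : ¬ ((i : ZMod N) = -(i : ZMod N)) := by
      rw [h.natCast_eq_neg_iff hi1 hi2.le hi2.le]; omega
    by_cases hai : a = i
    · rw [hai] at hja ⊢
      rw [(hu i hi1 hi2).2.2.2.2.1]
      rcases hja with rfl | rfl
      · rw [if_pos rfl, if_neg hne, add_zero]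
      · rw [if_neg (fun e => hne e.symm), if_pos rfl, zero_add]
    · have hz : h.uvec hζ M a (β i) = 0 := by
        rcases Nat.lt_or_ge a (N / 2) with hlt | hge
        · exact (hu a ha1 hlt).2.2.2.2.2 (β i) (hu i hi1 hi2).1
            (fun e => hai (hinj i a hi1 hi2 ha1 hlt e).symm)
        · rw [le_antisymm ha2 hge]
          exact f0 (β i) (hu i hi1 hi2).1 (hu i hi1 hi2).2.1 (hu i hi1 hi2).2.2.1
      rw [hz]
      rcases hja with rfl | rfl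
      · rw [if_neg (by rw [h.natCast_eq_iff ha2 hi2.le]; exact hai),
          if_neg (by rw [h.natCast_eq_neg_iff ha1 ha2 hi2.le]; omega)]
        rfl
      · rw [if_neg, if_neg]
        · rfl
        · rw [neg_inj, h.natCast_eq_iff ha2 hi2.le]; exact hai
        · intro e
          have e' : (i : ZMod N) = -(a : ZMod N) := e.symm
          rw [h.natCast_eq_neg_iff hi1 hi2.le ha2] at e'
          omega
  -- sums against the explicit vectors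
  have Su : ∀ j, 1 ≤ j → j < N / 2 → ∀ Y : IrrCharacter G → ℂ,
      ∑ χ, (h.uvec hζ M j χ : ℂ) * Y χ = δ₁ * Y χ₁ - δ₁ * Y (β j) := by
    intro j h1 h2 Y
    obtain ⟨b1, -, -, u1, u2, u0⟩ := hu j h1 h2
    rw [Finset.sum_eq_add χ₁ (β j) b1.symm]
    · rw [u1, u2]; push_cast; ring
    · intro c _ hc
      rw [u0 c hc.1 hc.2]; simp
    · intro hh; exact absurd (Finset.mem_univ _) hh
    · intro hh; exact absurd (Finset.mem_univ _) hh
  have Sf : ∀ Y : IrrCharacter G → ℂ,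
      ∑ χ, (h.uvec hζ M (N / 2) χ : ℂ) * Y χ = δ₁ * Y χ₁ + δ₂ * Y χ₂ + δ₃ * Y χ₃ := by
    intro Y
    have hsub : ∑ χ, (h.uvec hζ M (N / 2) χ : ℂ) * Y χ
        = ∑ χ ∈ ({χ₁, χ₂, χ₃} : Finset (IrrCharacter G)), (h.uvec hζ M (N / 2) χ : ℂ) * Y χ := by
      symm
      apply Finset.sum_subset (Finset.subset_univ _)
      intro χ _ hχ
      simp only [Finset.mem_insert, Finset.mem_singleton, not_or] at hχ
      rw [f0 χ hχ.1 hχ.2.1 hχ.2.2]; simp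
    rw [hsub, Finset.sum_insert, Finset.sum_insert, Finset.sum_singleton, f1, f2, f3]
    · ring
    · simpa using n23
    · simp only [Finset.mem_insert, Finset.mem_singleton, not_or]; exact ⟨n12, n13⟩
  refine ⟨χ₁, χ₂, χ₃, β, δ₁, δ₂, δ₃, s1, s2, s3, n12, n13, n23, m1.2, m2.2, m3.2, ?_, hinj,
    ?_, ?_, ?_⟩
  · intro j h1 h2
    exact ⟨(hu j h1 h2).1, (hu j h1 h2).2.1, (hu j h1 h2).2.2.1, (mβ j h1 h2).2⟩
  · intro χ
    constructor
    · intro hχ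
      by_contra hcon
      push Not at hcon
      obtain ⟨c0, c1, c2, c3, c4⟩ := hcon
      have hz : ∀ j : ZMod N, j ≠ 0 → h.Dfun hζ j χ = 0 := by
        intro j hj
        obtain ⟨a, ha1, ha2, hja⟩ := h.exists_rep hj
        rw [Drep χ (mem_B0.2 hχ) c0 j a hja]
        rcases Nat.lt_or_ge a (N / 2) with hlt | hge
        · exact (hu a ha1 hlt).2.2.2.2.2 χ c1 (c4 a ha1 hlt)
        · rw [le_antisymm ha2 hge]; exact f0 χ c1 c2 c3
      have := F.inv_const hz (h.natCast_ne_zero hm1 le_rfl)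
      apply h.val_J_ne_zero hM hχ
      have e : zmodPow N σ ((N / 2 : ℕ) : ZMod N) = σ ^ (N / 2) := by
        unfold zmodPow
        rw [ZMod.val_natCast, Nat.mod_eq_of_lt (by have := h.two_mul_half; omega)]
      rw [← e]
      simpa using this
    · rintro (rfl | rfl | rfl | rfl | ⟨j, h1, h2, rfl⟩)
      · exact mem_B0.1 (triv_mem hM)
      · exact mem_B0.1 m1.1
      · exact mem_B0.1 m2.1
      · exact mem_B0.1 m3.1
      · exact mem_B0.1 (mβ j h1 h2).1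
  · intro l hl
    refine ⟨F.inv_const D1 hl, F.inv_single D2 hl, F.inv_single D3 hl, ?_⟩
    intro j h1 h2
    have := F.inv_pair (Dβ j h1 h2) hl
    rw [this]
    push_cast
    ring
  · intro ρ hρ
    have hY : ∀ k : ZMod N, k ≠ 0 →
        ∑ χ ∈ B0 M G, (χ : G → ℂ) (zmodPow N σ k) * (χ : G → ℂ) ρ = 0 :=
      fun k hk => h.col_odd hM k hk ρ hρ
    have ht : (trivIrr G : G → ℂ) ρ = 1 := rfl
    constructor
    · have := F.sum_D_mul (fun χ => (χ : G → ℂ) ρ) hY ((N / 2 : ℕ) : ZMod N)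
      rw [h.sum_D_eq hζ hM hm1 le_rfl, Sf, ht] at this
      linear_combination this
    · intro j h1 h2
      have := F.sum_D_mul (fun χ => (χ : G → ℂ) ρ) hY (j : ZMod N)
      rw [h.sum_D_eq hζ hM h1 h2.le, Su j h1 h2, ht] at this
      linear_combination this

end DihS

end

end Cfsg.Agent.Lib.Helper75
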