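import Mathlib
import Cfsg.Agent.Lib.Helper75.DihBlock

/-!
# The centralizer of the central involution of a dihedral Sylow 2-subgroup (helper75)

`H` is a finite group with dihedral Sylow 2-subgroup `T = ⟨σ, τ⟩`, central involution
`J = σ^(N/2) ∈ Z(H)` and normal 2-complement `W`.
-/

set_option autoImplicit false

namespace Cfsg.Agent.Lib.Helper75

open Cfsg Cfsg.Agent.Lib.Helper55 Cfsg.Agent.Lib.Helper4 Cfsg.Agent.Lib.Helper73

theorem exists_zmodPow {G : Type*} [Group G] {σ : G} {N : ℕ} [NeZero N] (hσ : orderOf σ = N) {c : G}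
    (hc : c ∈ Subgroup.zpowers σ) : ∃ a : ZMod N, c = zmodPow N σ a := by
  obtain ⟨k, rfl⟩ := hc
  refine ⟨(k : ZMod N), ?_⟩
  unfold zmodPow
  show σ ^ k = _
  rw [← zpow_natCast, ZMod.val_intCast, ← hσ, zpow_mod_orderOf]

/-- the local data -/
structure Loc {H : Type*} [Group H] (T : Sylow 2 H) (σ τ : H) (N : ℕ) (W : Subgroup H) : Prop where
  dih : DihS (T : Subgroup H) σ τ N
  normal : W.Normal
  odd : Odd (Nat.card W)
  idx : W.index = 2 * N
  central : ∀ x : H, x * σ ^ (N / 2) = σ ^ (N / 2) * x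

namespace Loc

variable {H : Type*} [Group H] [Finite H] {T : Sylow 2 H} {σ τ : H} {N : ℕ} {W : Subgroup H}

theorem eq_one_of_mem (L : Loc T σ τ N W) {x : H} (hx : x ∈ W) {k : ℕ} (hk : x ^ (2 ^ k) = 1) :
    x = 1 := by
  have h1 : orderOf x ∣ Nat.card W := by
    have := orderOf_dvd_natCard (⟨x, hx⟩ : W)
    rwa [Subgroup.orderOf_mk] at this
  have h2 : orderOf x ∣ 2 ^ k := orderOf_dvd_of_pow_eq_one hk
  have hcop : Nat.Coprime (Nat.card W) (2 ^ k) :=
    Nat.Coprime.pow_right k (Nat.coprime_two_right.2 L.odd)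
  exact orderOf_eq_one_iff.1 (Nat.dvd_one.1 (hcop.gcd_eq_one ▸ Nat.dvd_gcd h1 h2))

/-- congruence modulo `W` -/
def Rel (W : Subgroup H) (x y : H) : Prop := x⁻¹ * y ∈ W

theorem rel_refl (x : H) : Rel W x x := by
  unfold Rel; rw [inv_mul_cancel]; exact one_mem _

theorem rel_symm {x y : H} (h : Rel W x y) : Rel W y x := by
  unfold Rel at *
  have := W.inv_mem h
  rwa [mul_inv_rev, inv_inv] at this

theorem rel_trans {x y z : H} (h1 : Rel W x y) (h2 : Rel W y z) : Rel W x z := by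
  unfold Rel at *
  have := W.mul_mem h1 h2
  rwa [mul_assoc, mul_inv_cancel_left] at this

theorem rel_mul (L : Loc T σ τ N W) {x y x' y' : H} (h1 : Rel W x y) (h2 : Rel W x' y') :
    Rel W (x * x') (y * y') := by
  have := L.normal
  unfold Rel at *
  have e : (x * x')⁻¹ * (y * y') = x'⁻¹ * (x⁻¹ * y) * x'⁻¹⁻¹ * (x'⁻¹ * y') := by group
  rw [e]
  exact W.mul_mem (this.conj_mem _ h1 _) h2

theorem rel_inv (L : Loc T σ τ N W) {x y : H} (h1 : Rel W x y) : Rel W x⁻¹ y⁻¹ := by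
  have := L.normal
  unfold Rel at *
  have e : x⁻¹⁻¹ * y⁻¹ = x * (x⁻¹ * y)⁻¹ * x⁻¹ := by group
  rw [e]
  exact this.conj_mem _ (W.inv_mem h1) _

theorem rel_iff (L : Loc T σ τ N W) {x y : H} :
    Rel W x y ↔ (QuotientGroup.mk x : H ⧸ W) = QuotientGroup.mk y := QuotientGroup.eq.symm

theorem inj_T (L : Loc T σ τ N W) {p p' : H} (hp : p ∈ (T : Subgroup H))
    (hp' : p' ∈ (T : Subgroup H)) (h : Rel W p p') : p = p' := by
  obtain ⟨k, hk⟩ := T.2 ⟨p⁻¹ * p', Subgroup.mul_mem _ (Subgroup.inv_mem _ hp) hp'⟩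
  have hk' : (p⁻¹ * p') ^ (2 ^ k) = 1 := by
    have := congrArg Subtype.val hk
    simpa using this
  have := L.eq_one_of_mem h hk'
  exact (inv_mul_eq_one.1 this)

theorem surj_T (L : Loc T σ τ N W) (x : H) : ∃ p ∈ (T : Subgroup H), Rel W x p := by
  have hinj : Function.Injective (fun p : (T : Subgroup H) => (QuotientGroup.mk (p : H) : H ⧸ W)) := by
    intro p p' h
    exact Subtype.ext (L.inj_T p.2 p'.2 (L.rel_iff.2 h))
  have hcard : Nat.card (H ⧸ W) ≤ Nat.card (T : Subgroup H) := by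
    rw [← Subgroup.index_eq_card, L.idx, L.dih.card_P]
  obtain ⟨p, hp⟩ := (hinj.bijective_of_nat_card_le hcard).2 (QuotientGroup.mk x)
  exact ⟨p, p.2, L.rel_iff.2 hp.symm⟩

theorem mem_W_of_odd (L : Loc T σ τ N W) {x : H} (hx : Odd (orderOf x)) : x ∈ W := by
  have := L.normal
  rw [← QuotientGroup.eq_one_iff, ← orderOf_eq_one_iff]
  have h1 : orderOf (QuotientGroup.mk x : H ⧸ W) ∣ orderOf x :=
    orderOf_map_dvd (QuotientGroup.mk' W) x
  obtain ⟨e, he⟩ := L.dih.pow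
  have h2 : orderOf (QuotientGroup.mk x : H ⧸ W) ∣ 2 ^ (e + 1) := by
    rw [pow_succ', ← he, ← L.idx, Subgroup.index_eq_card]; exact orderOf_dvd_natCard _
  have hcop : Nat.Coprime (orderOf x) (2 ^ (e + 1)) :=
    Nat.Coprime.pow_right _ (Nat.coprime_two_right.2 hx)
  exact Nat.dvd_one.1 (hcop.gcd_eq_one ▸ Nat.dvd_gcd h1 h2)

theorem eq_J (L : Loc T σ τ N W) {x : H} (hx : x * x = 1) (h : Rel W (σ ^ (N / 2)) x) :
    x = σ ^ (N / 2) := by
  have h2 : ((σ ^ (N / 2))⁻¹ * x) ^ (2 ^ 1) = 1 := by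
    rw [pow_one, sq, L.dih.J_inv]
    calc σ ^ (N / 2) * x * (σ ^ (N / 2) * x) = σ ^ (N / 2) * (x * σ ^ (N / 2)) * x := by group
      _ = σ ^ (N / 2) * (σ ^ (N / 2) * x) * x := by rw [L.central x]
      _ = (σ ^ (N / 2) * σ ^ (N / 2)) * (x * x) := by group
      _ = 1 := by rw [L.dih.J_sq, hx, one_mul]
  exact (inv_mul_eq_one.1 (L.eq_one_of_mem h h2)).symm

theorem τ_not_mem (L : Loc T σ τ N W) : τ ∉ Subgroup.zpowers σ := by
  intro hmem
  have h1 : τ * σ = σ * τ := DihS.comm_zpowers hmem (Subgroup.mem_zpowers σ)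
  have rel := L.dih.rel
  rw [h1, mul_inv_cancel_right] at rel
  apply L.dih.σ_sq_ne
  nth_rewrite 1 [rel]; exact inv_mul_cancel σ

variable [NeZero N]

/-- involutions other than `J` are congruent to some `σ^a τ`. -/
theorem exists_a (L : Loc T σ τ N W) {x : H} (hx : orderOf x = 2) (hxJ : x ≠ σ ^ (N / 2)) :
    ∃ a : ZMod N, Rel W x (zmodPow N σ a * τ) := by
  have hxx : x * x = 1 := by
    have := pow_orderOf_eq_one x
    rwa [hx, sq] at this
  obtain ⟨p, hp, hxp⟩ := L.surj_T x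
  have hpp : p * p = 1 := by
    apply L.inj_T (Subgroup.mul_mem _ hp hp) (one_mem _)
    have := L.rel_mul hxp hxp
    rw [hxx] at this
    exact rel_symm this
  rcases L.dih.cases p hp with h1 | ⟨c, hc, rfl⟩
  · exfalso
    rcases L.dih.sq_eq_one_cases h1 hpp with e | e
    · rw [e] at hxp
      have hxW : x ∈ W := by
        have := rel_symm hxp
        unfold Rel at this
        simpa using this
      have := L.eq_one_of_mem hxW (k := 1) (by rw [pow_one, sq]; exact hxx)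
      rw [this, orderOf_one] at hx
      omega
    · rw [e] at hxp
      exact hxJ (L.eq_J hxx (rel_symm hxp))
  · obtain ⟨a, rfl⟩ := exists_zmodPow L.dih.ord_σ hc
    exact ⟨a, hxp⟩

theorem a_unique (L : Loc T σ τ N W) {a b : ZMod N}
    (h : Rel W (zmodPow N σ a * τ) (zmodPow N σ b * τ)) : a = b := by
  have hle : Subgroup.zpowers σ ≤ (T : Subgroup H) := by
    rw [Subgroup.zpowers_le]; exact L.dih.σ_mem
  have := L.inj_T (Subgroup.mul_mem _ (hle (zmodPow_mem N σ a)) L.dih.τ_mem)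
    (Subgroup.mul_mem _ (hle (zmodPow_mem N σ b)) L.dih.τ_mem) h
  exact zmodPow_injective N σ L.dih.ord_σ (mul_right_cancel this)

theorem sτ_mul_sτ (L : Loc T σ τ N W) (a b : ZMod N) :
    (zmodPow N σ a * τ) * (zmodPow N σ b * τ) = zmodPow N σ (a - b) := by
  have hσN : σ ^ N = 1 := by rw [← L.dih.ord_σ]; exact pow_orderOf_eq_one σ
  have h1 := L.dih.τ_conj (zmodPow_mem N σ b)
  calc (zmodPow N σ a * τ) * (zmodPow N σ b * τ)
      = zmodPow N σ a * (τ * zmodPow N σ b * τ⁻¹) * (τ * τ) := by group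
    _ = zmodPow N σ a * (zmodPow N σ b)⁻¹ := by rw [h1, L.dih.τ_sq, mul_one]
    _ = zmodPow N σ (a - b) := by
      rw [zmodPow_sub N σ hσN, DihS.comm_zpowers (Subgroup.inv_mem _ (zmodPow_mem N σ b))
        (zmodPow_mem N σ a)]

theorem zmodPow_one (L : Loc T σ τ N W) : zmodPow N σ 1 = σ := by
  unfold zmodPow
  have : Fact (1 < N) := ⟨by have := L.dih.four_le; omega⟩
  rw [ZMod.val_one, pow_one]

theorem conj_σ (L : Loc T σ τ N W) (a : ZMod N) :
    σ * (zmodPow N σ a * τ) * σ⁻¹ = zmodPow N σ (a + 2) * τ := by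
  have hσN : σ ^ N = 1 := by rw [← L.dih.ord_σ]; exact pow_orderOf_eq_one σ
  have h1 : τ * σ⁻¹ * τ⁻¹ = σ := by
    have := L.dih.τ_conj (Subgroup.inv_mem _ (Subgroup.mem_zpowers σ))
    rwa [inv_inv] at this
  have h2 : (2 : ZMod N) = 1 + 1 := by norm_num
  rw [h2, ← add_assoc, zmodPow_add N σ hσN, zmodPow_add N σ hσN, L.zmodPow_one]
  calc σ * (zmodPow N σ a * τ) * σ⁻¹ = (σ * zmodPow N σ a) * (τ * σ⁻¹ * τ⁻¹) * τ := by group
    _ = zmodPow N σ a * σ * σ * τ := by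
      rw [h1, DihS.comm_zpowers (Subgroup.mem_zpowers σ) (zmodPow_mem N σ a)]

end Loc

end Cfsg.Agent.Lib.Helper75
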