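import Mathlib
import Cfsg.Agent.Lib.Helper75.DihLocal

/-!
# The centralizer of the central involution of a dihedral Sylow 2-subgroup, II (helper75)
-/

set_option autoImplicit false

namespace Cfsg.Agent.Lib.Helper75

open Cfsg Cfsg.Agent.Lib.Helper55 Cfsg.Agent.Lib.Helper4 Cfsg.Agent.Lib.Helper73

theorem zpow_of_mul_self {G : Type*} [Group G] {v : G} (hv : v * v = 1) (k : ℤ) :
    v ^ k = 1 ∨ v ^ k = v := by
  rcases Int.even_or_odd' k with ⟨r, rfl | rfl⟩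
  · left; rw [zpow_mul, zpow_ofNat, sq, hv, one_zpow]
  · right; rw [zpow_add, zpow_mul, zpow_ofNat, sq, hv, one_zpow, one_mul, zpow_one]

theorem DihS.J_mem_zpowers {G : Type*} [Group G] {P : Subgroup G} {σ τ : G} {N : ℕ}
    (h : DihS P σ τ N) {u : G} (hu : u ∈ Subgroup.zpowers σ) (hu1 : u ≠ 1) :
    σ ^ (N / 2) ∈ Subgroup.zpowers u := by
  obtain ⟨r, hr⟩ := h.isP_of_mem hu
  rcases r with _ | r
  · exfalso; apply hu1; rw [← orderOf_eq_one_iff, hr, pow_zero]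
  have hv : u ^ (2 ^ r) * u ^ (2 ^ r) = 1 := by
    rw [← pow_add, ← two_mul, ← pow_succ', ← hr]; exact pow_orderOf_eq_one u
  have hv1 : u ^ (2 ^ r) ≠ 1 := by
    apply pow_ne_one_of_lt_orderOf (by positivity)
    rw [hr]; exact Nat.pow_lt_pow_right (by norm_num) (by omega)
  rcases h.sq_eq_one_cases (Subgroup.pow_mem _ hu _) hv with e | e
  · exact absurd e hv1
  · rw [← e]; exact Subgroup.pow_mem _ (Subgroup.mem_zpowers u) _

namespace Loc

variable {H : Type*} [Group H] [Finite H] {T : Sylow 2 H} {σ τ : H} {N : ℕ} {W : Subgroup H}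
  [NeZero N]

theorem zpowers_le (L : Loc T σ τ N W) : Subgroup.zpowers σ ≤ (T : Subgroup H) := by
  rw [Subgroup.zpowers_le]; exact L.dih.σ_mem

/-- the 2-part of an element congruent to `σ^c` is conjugate to `σ^c`. -/
theorem isConj_pPart (L : Loc T σ τ N W) {w z : H} {c : ZMod N} (hw : Rel W w (zmodPow N σ c))
    (hz : IsPPart 2 w z) : IsConj (zmodPow N σ c) z := by
  obtain ⟨y, hzy, -, ⟨k, hk⟩, hy⟩ := hz
  have hyW : y ∈ W := L.mem_W_of_odd (by rwa [← Nat.not_even_iff_odd, even_iff_two_dvd])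
  have hzw : Rel W z w := by
    unfold Rel; rw [← hzy, inv_mul_cancel_left]; exact hyW
  have hzc := rel_trans hzw hw
  have hpg : IsPGroup 2 (Subgroup.zpowers z) := by
    apply IsPGroup.of_card (n := k); rw [Nat.card_zpowers, hk]
  obtain ⟨g, hg⟩ := exists_conj_mem_sylow T _ hpg
  have hp := hg z (Subgroup.mem_zpowers z)
  obtain ⟨g', hg', hgg'⟩ := L.surj_T g
  have h1 : Rel W (g * z * g⁻¹) (g' * zmodPow N σ c * g'⁻¹) :=
    L.rel_mul (L.rel_mul hgg' hzc) (L.rel_inv hgg')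
  have h2 := L.inj_T hp (Subgroup.mul_mem _ (Subgroup.mul_mem _ hg' (L.zpowers_le (zmodPow_mem N σ c)))
    (Subgroup.inv_mem _ hg')) h1
  rw [isConj_iff]
  refine ⟨g⁻¹ * g', ?_⟩
  have : z = g⁻¹ * (g * z * g⁻¹) * g := by group
  rw [this, h2]; group

theorem J_mem_zpowers (L : Loc T σ τ N W) {w : H} {c : ZMod N} (hw : Rel W w (zmodPow N σ c))
    (hc : c ≠ 0) : σ ^ (N / 2) ∈ Subgroup.zpowers w := by
  obtain ⟨e, a, he, -⟩ := exists_pPartExp H 2
  have h1 := L.isConj_pPart hw ((he w _).2 rfl)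
  obtain ⟨k, hk⟩ := isConj_iff.1 h1
  have hne : zmodPow N σ c ≠ 1 := by
    intro h1
    rw [← zmodPow_zero N σ] at h1
    exact hc (zmodPow_injective N σ L.dih.ord_σ h1)
  obtain ⟨i, hi⟩ := L.dih.J_mem_zpowers (zmodPow_mem N σ c) hne
  have hi' : (zmodPow N σ c) ^ i = σ ^ (N / 2) := hi
  have h2 : k * σ ^ (N / 2) * k⁻¹ = σ ^ (N / 2) := by
    rw [L.central k, mul_inv_cancel_right]
  have h3 : (w ^ e) ^ i = σ ^ (N / 2) := by
    rw [← hk, conj_zpow, hi', h2]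
  rw [← h3]
  exact Subgroup.zpow_mem _ (Subgroup.pow_mem _ (Subgroup.mem_zpowers w) _) _

theorem ne_J_of_mem_zpowers (L : Loc T σ τ N W) {x y : H} (hx : orderOf x = 2) (hy : orderOf y = 2)
    (hJ : σ ^ (N / 2) ∈ Subgroup.zpowers (x * y)) : x ≠ σ ^ (N / 2) ∧ y ≠ σ ^ (N / 2) := by
  have hxx : x * x = 1 := by
    have := pow_orderOf_eq_one x
    rwa [hx, sq] at this
  have hyy : y * y = 1 := by
    have := pow_orderOf_eq_one y
    rwa [hy, sq] at this
  have hx1 : x ≠ 1 := by intro e; rw [e, orderOf_one] at hx; omega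
  have hy1 : y ≠ 1 := by intro e; rw [e, orderOf_one] at hy; omega
  obtain ⟨k, hk⟩ := hJ
  have hk' : (x * y) ^ k = σ ^ (N / 2) := hk
  constructor
  · intro e
    have hv : (x * y) * (x * y) = 1 := by
      calc (x * y) * (x * y) = x * (y * x) * y := by group
        _ = x * (x * y) * y := by rw [e, L.central y]
        _ = (x * x) * (y * y) := by group
        _ = 1 := by rw [hxx, hyy, one_mul]
    rcases zpow_of_mul_self hv k with h1 | h1
    · rw [h1] at hk'; exact L.dih.J_ne_one hk'.symm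
    · rw [h1, ← e] at hk'
      exact hy1 (mul_eq_left.1 hk')
  · intro e
    have hv : (x * y) * (x * y) = 1 := by
      calc (x * y) * (x * y) = x * (y * x) * y := by group
        _ = x * (x * y) * y := by rw [e, ← L.central x]
        _ = (x * x) * (y * y) := by group
        _ = 1 := by rw [hxx, hyy, one_mul]
    rcases zpow_of_mul_self hv k with h1 | h1
    · rw [h1] at hk'; exact L.dih.J_ne_one hk'.symm
    · rw [h1, ← e] at hk'
      exact hx1 (mul_eq_right.1 hk')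

open Classical in
/-- the parameter `a` of an involution `x ≠ J`: `x ≡ σ^a τ`. -/
noncomputable def aF (L : Loc T σ τ N W) (x : H) : ZMod N :=
  if hx : orderOf x = 2 ∧ x ≠ σ ^ (N / 2) then (L.exists_a hx.1 hx.2).choose else 0

theorem aF_spec (L : Loc T σ τ N W) {x : H} (hx : orderOf x = 2) (hxJ : x ≠ σ ^ (N / 2)) :
    Rel W x (zmodPow N σ (L.aF x) * τ) := by
  classical
  unfold aF
  rw [dif_pos ⟨hx, hxJ⟩]
  exact (L.exists_a hx hxJ).choose_spec

theorem rel_mul_inv (L : Loc T σ τ N W) {x y : H} (hx : orderOf x = 2) (hxJ : x ≠ σ ^ (N / 2))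
    (hy : orderOf y = 2) (hyJ : y ≠ σ ^ (N / 2)) :
    Rel W (x * y) (zmodPow N σ (L.aF x - L.aF y)) := by
  rw [← L.sτ_mul_sτ]
  exact L.rel_mul (L.aF_spec hx hxJ) (L.aF_spec hy hyJ)

theorem conj_ne_J (L : Loc T σ τ N W) {x : H} (g : H) (hxJ : x ≠ σ ^ (N / 2)) :
    g * x * g⁻¹ ≠ σ ^ (N / 2) := by
  intro e
  apply hxJ
  have : x = g⁻¹ * (g * x * g⁻¹) * g := by group
  rw [this, e, mul_assoc, ← L.central g, inv_mul_cancel_left]

theorem aF_conj (L : Loc T σ τ N W) {x : H} (hx : orderOf x = 2) (hxJ : x ≠ σ ^ (N / 2)) :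
    L.aF (σ * x * σ⁻¹) = L.aF x + 2 := by
  have h1 := L.aF_spec (x := σ * x * σ⁻¹) (by rw [orderOf_conj_eq]; exact hx) (L.conj_ne_J σ hxJ)
  have h2 : Rel W (σ * x * σ⁻¹) (zmodPow N σ (L.aF x + 2) * τ) := by
    rw [← L.conj_σ]
    exact L.rel_mul (L.rel_mul (rel_refl σ) (L.aF_spec hx hxJ)) (rel_refl _)
  exact L.a_unique (rel_trans (rel_symm h1) h2)

end Loc

namespace Loc

variable {H : Type*} [Group H] [Fintype H] {T : Sylow 2 H} {σ τ : H} {N : ℕ} {W : Subgroup H}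
  [NeZero N]

open Classical in
/-- the involutions other than `J` -/
noncomputable def Iset (σ : H) (N : ℕ) : Finset H :=
  Finset.univ.filter fun x => orderOf x = 2 ∧ x ≠ σ ^ (N / 2)

theorem mem_Iset {x : H} : x ∈ Iset σ N ↔ (orderOf x = 2 ∧ x ≠ σ ^ (N / 2)) := by
  classical
  simp [Iset]

theorem sum_psi_aF (L : Loc T σ τ N W) (ψ : AddChar (ZMod N) ℂ) (hψ : ψ 2 ≠ 1) :
    ∑ x ∈ Iset σ N, ψ (L.aF x) = 0 := by
  have h1 : ∑ x ∈ Iset σ N, ψ (L.aF x) = ∑ x ∈ Iset σ N, ψ (L.aF (σ * x * σ⁻¹)) := by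
    symm
    apply Finset.sum_bij (fun x _ => σ * x * σ⁻¹)
    · intro x hx
      rw [mem_Iset] at hx ⊢
      exact ⟨by rw [orderOf_conj_eq]; exact hx.1, L.conj_ne_J σ hx.2⟩
    · intro x _ y _ hxy
      exact mul_left_cancel (mul_right_cancel hxy)
    · intro y hy
      rw [mem_Iset] at hy
      refine ⟨σ⁻¹ * y * σ, ?_, by group⟩
      rw [mem_Iset]
      have := L.conj_ne_J σ⁻¹ hy.2
      rw [inv_inv] at this
      refine ⟨?_, this⟩
      have := orderOf_conj_eq σ⁻¹ y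
      rw [inv_inv] at this
      rw [this]; exact hy.1
    · intro x _; rfl
  have h2 : ∑ x ∈ Iset σ N, ψ (L.aF (σ * x * σ⁻¹)) = ψ 2 * ∑ x ∈ Iset σ N, ψ (L.aF x) := by
    rw [Finset.mul_sum]
    refine Finset.sum_congr rfl fun x hx => ?_
    rw [mem_Iset] at hx
    rw [L.aF_conj hx.1 hx.2, AddChar.map_add_eq_mul, mul_comm]
  rw [h2] at h1
  have h3 : (1 - ψ 2) * ∑ x ∈ Iset σ N, ψ (L.aF x) = 0 := by
    rw [sub_mul, one_mul, ← h1, sub_self]
  exact (mul_eq_zero.1 h3).resolve_left (sub_ne_zero.2 hψ.symm)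

/-- the key local sum -/
theorem sum_Theta (L : Loc T σ τ N W) (ψ : AddChar (ZMod N) ℂ) (hψ : ψ 2 ≠ 1) (Θ : H → ℂ)
    (hΘ : ∀ (w z : H) (c : ZMod N), IsPPart 2 w z → IsConj (zmodPow N σ c) z →
      Θ w = 2 - ψ c - ψ (-c)) :
    ∑ x ∈ Iset σ N, ∑ y ∈ Iset σ N, Θ (x * y) = 2 * ((Iset σ N).card : ℂ) ^ 2 := by
  obtain ⟨e, a, he, -⟩ := exists_pPartExp H 2
  have h1 : ∀ x ∈ Iset σ N, ∀ y ∈ Iset σ N, Θ (x * y)
      = 2 - ψ (L.aF x) * ψ (-L.aF y) - ψ (-L.aF x) * ψ (L.aF y) := by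
    intro x hx y hy
    rw [mem_Iset] at hx hy
    have hr := L.rel_mul_inv hx.1 hx.2 hy.1 hy.2
    rw [hΘ (x * y) _ _ ((he _ _).2 rfl) (L.isConj_pPart hr ((he _ _).2 rfl)),
      ← AddChar.map_add_eq_mul, ← AddChar.map_add_eq_mul]
    congr 2
    · rw [sub_eq_add_neg]
    · congr 1; ring
  rw [Finset.sum_congr rfl fun x hx => Finset.sum_congr rfl fun y hy => h1 x hx y hy]
  simp only [Finset.sum_sub_distrib, Finset.sum_const, ← Finset.mul_sum, ← Finset.sum_mul]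
  rw [L.sum_psi_aF ψ hψ]
  simp only [nsmul_eq_mul, zero_mul, mul_zero, sub_zero]
  ring

theorem theta_eq_zero_or (L : Loc T σ τ N W) (ψ : AddChar (ZMod N) ℂ) (Θ : H → ℂ)
    (hΘ : ∀ (w z : H) (c : ZMod N), IsPPart 2 w z → IsConj (zmodPow N σ c) z →
      Θ w = 2 - ψ c - ψ (-c)) {x y : H} (hx : x ∈ Iset σ N) (hy : y ∈ Iset σ N) :
    σ ^ (N / 2) ∈ Subgroup.zpowers (x * y) ∨ Θ (x * y) = 0 := by
  obtain ⟨e, a, he, -⟩ := exists_pPartExp H 2
  rw [mem_Iset] at hx hy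
  have hr := L.rel_mul_inv hx.1 hx.2 hy.1 hy.2
  by_cases hc : L.aF x - L.aF y = 0
  · right
    rw [hΘ (x * y) _ _ ((he _ _).2 rfl) (L.isConj_pPart hr ((he _ _).2 rfl)), hc]
    simp
    norm_num
  · left
    exact L.J_mem_zpowers hr hc

end Loc

end Cfsg.Agent.Lib.Helper75
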