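import Mathlib
import Cfsg.Agent.Lib.Helper75.DihLocal2

/-!
# The centralizer of the central involution of a dihedral Sylow 2-subgroup, III: counting
involutions (helper75)
-/

set_option autoImplicit false

namespace Cfsg.Agent.Lib.Helper75

open Cfsg Cfsg.Agent.Lib.Helper55 Cfsg.Agent.Lib.Helper4 Cfsg.Agent.Lib.Helper73

open Classical in
theorem card_filter_isConj {H : Type*} [Group H] [Fintype H] (t : H) :
    (Finset.univ.filter fun x => IsConj t x).card = (Subgroup.centralizer ({t} : Set H)).index := by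
  have h1 : (MulAction.stabilizer (ConjAct H) t).index = (MulAction.orbit (ConjAct H) t).ncard :=
    MulAction.index_stabilizer _ _
  rw [ConjAct.stabilizer_eq_centralizer] at h1
  have h2 : MulAction.orbit (ConjAct H) t = {x | IsConj t x} := by
    ext x
    rw [ConjAct.mem_orbit_conjAct]
    exact isConj_comm
  rw [h2, Set.ncard_eq_toFinset_card'] at h1
  have h3 : ({x | IsConj t x} : Set H).toFinset = Finset.univ.filter fun x => IsConj t x := by
    ext x; simp
  rw [h3] at h1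
  exact h1.symm

namespace Loc

variable {H : Type*} [Group H] [Fintype H] {T : Sylow 2 H} {σ τ : H} {N : ℕ} {W : Subgroup H}
  [NeZero N]

theorem σN (L : Loc T σ τ N W) : σ ^ N = 1 := by
  rw [← L.dih.ord_σ]; exact pow_orderOf_eq_one σ

theorem conj_s (L : Loc T σ τ N W) (b c : ZMod N) :
    zmodPow N σ b * (zmodPow N σ c * τ) * (zmodPow N σ b)⁻¹ = zmodPow N σ (c + b + b) * τ := by
  have h1 : τ * (zmodPow N σ b)⁻¹ * τ⁻¹ = zmodPow N σ b := by
    have := L.dih.τ_conj (Subgroup.inv_mem _ (zmodPow_mem N σ b))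
    rwa [inv_inv] at this
  rw [zmodPow_add N σ L.σN, zmodPow_add N σ L.σN]
  calc zmodPow N σ b * (zmodPow N σ c * τ) * (zmodPow N σ b)⁻¹
      = (zmodPow N σ b * zmodPow N σ c) * (τ * (zmodPow N σ b)⁻¹ * τ⁻¹) * τ := by group
    _ = zmodPow N σ c * zmodPow N σ b * zmodPow N σ b * τ := by
      rw [h1, DihS.comm_zpowers (zmodPow_mem N σ b) (zmodPow_mem N σ c)]

theorem conj_sτ (L : Loc T σ τ N W) (b c : ZMod N) :
    (zmodPow N σ b * τ) * (zmodPow N σ c * τ) * (zmodPow N σ b * τ)⁻¹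
      = zmodPow N σ (-c + b + b) * τ := by
  have h1 : τ * (zmodPow N σ c * τ) * τ⁻¹ = zmodPow N σ (-c) * τ := by
    rw [zmodPow_neg N σ L.σN, ← L.dih.τ_conj (zmodPow_mem N σ c)]
    group
  rw [← L.conj_s, ← h1]
  group

theorem two_dvd (L : Loc T σ τ N W) : 2 ∣ N := ⟨N / 2, L.dih.two_mul_half.symm⟩

theorem add_self_ne (L : Loc T σ τ N W) (b c : ZMod N) : c + b + b ≠ c + 1 := by
  intro h
  have h1 : b + b = 1 := by
    have : c + (b + b) = c + 1 := by rw [← add_assoc]; exact h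
    exact add_left_cancel this
  have h2 := congrArg (ZMod.castHom L.two_dvd (ZMod 2)) h1
  rw [map_add, map_one] at h2
  revert h2
  generalize (ZMod.castHom L.two_dvd (ZMod 2)) b = u
  revert u
  decide

theorem exists_half (L : Loc T σ τ N W) (a : ZMod N) : ∃ b : ZMod N, a = b + b ∨ a = 1 + b + b := by
  refine ⟨((a.val / 2 : ℕ) : ZMod N), ?_⟩
  have h1 : a = ((a.val : ℕ) : ZMod N) := by rw [ZMod.natCast_val, ZMod.cast_id', id]
  rcases Nat.mod_two_eq_zero_or_one a.val with h | h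
  · left
    have : a.val = a.val / 2 + a.val / 2 := by omega
    nth_rewrite 1 [h1]
    rw [← Nat.cast_add, ← this]
  · right
    have : a.val = 1 + a.val / 2 + a.val / 2 := by omega
    nth_rewrite 1 [h1]
    rw [← Nat.cast_one, ← Nat.cast_add, ← Nat.cast_add, ← this]

theorem στ_eq (L : Loc T σ τ N W) : σ * τ = zmodPow N σ 1 * τ := by rw [L.zmodPow_one]

theorem τ_eq (L : Loc T σ τ N W) : τ = zmodPow N σ 0 * τ := by rw [zmodPow_zero, one_mul]

theorem sτ_not_mem (L : Loc T σ τ N W) (a : ZMod N) : zmodPow N σ a * τ ∉ Subgroup.zpowers σ := by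
  intro h
  apply L.τ_not_mem
  have := Subgroup.mul_mem _ (Subgroup.inv_mem _ (zmodPow_mem N σ a)) h
  rwa [inv_mul_cancel_left] at this

theorem orderOf_sτ (L : Loc T σ τ N W) (a : ZMod N) : orderOf (zmodPow N σ a * τ) = 2 := by
  apply orderOf_eq_prime
  · rw [sq]; exact L.dih.cτ_sq (zmodPow_mem N σ a)
  · intro h
    apply L.sτ_not_mem a
    rw [h]; exact one_mem _

theorem sτ_mem_Iset (L : Loc T σ τ N W) (a : ZMod N) : zmodPow N σ a * τ ∈ Iset σ N := by
  rw [mem_Iset]
  refine ⟨L.orderOf_sτ a, ?_⟩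
  intro h
  apply L.sτ_not_mem a
  rw [h]; exact DihS.J_mem

theorem isConj_cases (L : Loc T σ τ N W) {x : H} (hx : x ∈ Iset σ N) :
    IsConj τ x ∨ IsConj (σ * τ) x := by
  rw [mem_Iset] at hx
  have hpg : IsPGroup 2 (Subgroup.zpowers x) := by
    apply IsPGroup.of_card (n := 1); rw [Nat.card_zpowers, hx.1, pow_one]
  obtain ⟨g, hg⟩ := exists_conj_mem_sylow T _ hpg
  have hp := hg x (Subgroup.mem_zpowers x)
  have hpo : orderOf (g * x * g⁻¹) = 2 := by rw [orderOf_conj_eq]; exact hx.1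
  have hpp : (g * x * g⁻¹) * (g * x * g⁻¹) = 1 := by
    have := pow_orderOf_eq_one (g * x * g⁻¹)
    rwa [hpo, sq] at this
  rcases L.dih.cases _ hp with h1 | ⟨c, hc, hpc⟩
  · exfalso
    rcases L.dih.sq_eq_one_cases h1 hpp with e | e
    · rw [e, orderOf_one] at hpo; omega
    · exact L.conj_ne_J g hx.2 e
  · obtain ⟨a, rfl⟩ := exists_zmodPow L.dih.ord_σ hc
    have hx' : x = g⁻¹ * (zmodPow N σ a * τ) * g⁻¹⁻¹ := by rw [← hpc]; group
    obtain ⟨b, hb | hb⟩ := L.exists_half a
    · left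
      have h2 := L.conj_s b 0
      rw [zero_add, ← hb, ← L.τ_eq] at h2
      rw [hx', ← h2]
      exact isConj_iff.2 ⟨g⁻¹ * zmodPow N σ b, by group⟩
    · right
      have h2 := L.conj_s b 1
      rw [← hb, ← L.στ_eq] at h2
      rw [hx', ← h2]
      exact isConj_iff.2 ⟨g⁻¹ * zmodPow N σ b, by group⟩

theorem mem_Iset_of_isConj (L : Loc T σ τ N W) {t x : H} (ht : t ∈ Iset σ N) (h : IsConj t x) :
    x ∈ Iset σ N := by
  obtain ⟨g, rfl⟩ := isConj_iff.1 h
  rw [mem_Iset] at ht ⊢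
  exact ⟨by rw [orderOf_conj_eq]; exact ht.1, L.conj_ne_J g ht.2⟩

theorem not_isConj (L : Loc T σ τ N W) : ¬ IsConj τ (σ * τ) := by
  intro h
  obtain ⟨g, hg⟩ := isConj_iff.1 h
  obtain ⟨g', hg', hgg'⟩ := L.surj_T g
  have h1 : Rel W (g * τ * g⁻¹) (g' * τ * g'⁻¹) :=
    L.rel_mul (L.rel_mul hgg' (rel_refl τ)) (L.rel_inv hgg')
  rw [hg] at h1
  have h2 := L.inj_T (Subgroup.mul_mem _ L.dih.σ_mem L.dih.τ_mem)
    (Subgroup.mul_mem _ (Subgroup.mul_mem _ hg' L.dih.τ_mem) (Subgroup.inv_mem _ hg')) h1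
  rcases L.dih.cases g' hg' with h3 | ⟨c, hc, rfl⟩
  · obtain ⟨b, rfl⟩ := exists_zmodPow L.dih.ord_σ h3
    have h4 := L.conj_s b 0
    rw [← L.τ_eq, ← h2, L.στ_eq] at h4
    have := zmodPow_injective N σ L.dih.ord_σ (mul_right_cancel h4)
    apply L.add_self_ne b 0
    rw [← this, zero_add]
  · obtain ⟨b, rfl⟩ := exists_zmodPow L.dih.ord_σ hc
    have h4 := L.conj_sτ b 0
    rw [← L.τ_eq, ← h2, L.στ_eq, neg_zero] at h4
    have := zmodPow_injective N σ L.dih.ord_σ (mul_right_cancel h4)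
    apply L.add_self_ne b 0
    rw [← this, zero_add]

/-- the number of involutions other than `J`. -/
theorem card_Iset (L : Loc T σ τ N W) : (Iset σ N).card
    = (Subgroup.centralizer ({τ} : Set H)).index
      + (Subgroup.centralizer ({σ * τ} : Set H)).index := by
  classical
  rw [← card_filter_isConj, ← card_filter_isConj, ← Finset.card_union_of_disjoint]
  · congr 1
    ext x
    simp only [Finset.mem_union, Finset.mem_filter, Finset.mem_univ, true_and]
    constructor
    · exact L.isConj_cases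
    · rintro (h | h)
      · apply L.mem_Iset_of_isConj _ h
        have := L.sτ_mem_Iset 0
        rwa [← L.τ_eq] at this
      · apply L.mem_Iset_of_isConj _ h
        have := L.sτ_mem_Iset 1
        rwa [← L.στ_eq] at this
  · rw [Finset.disjoint_left]
    intro x h1 h2
    simp only [Finset.mem_filter, Finset.mem_univ, true_and] at h1 h2
    exact L.not_isConj (h1.trans h2.symm)

end Loc

end Cfsg.Agent.Lib.Helper75
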