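import Mathlib
import Cfsg.Agent.Lib.Helper75.DihGroup
import Cfsg.Agent.Lib.Helper73.DihedralRec

/-!
# Constructing the dihedral data (helper75)
-/

set_option autoImplicit false

namespace Cfsg.Agent.Lib.Helper75

open Cfsg

variable {G : Type*} [Group G]

theorem DihS.of_card [Finite G] (P : Subgroup G) (σ τ : G) (N : ℕ) (four_le : 4 ≤ N)
    (pow : ∃ e : ℕ, N = 2 ^ e) (σ_mem : σ ∈ P) (τ_mem : τ ∈ P) (ord_σ : orderOf σ = N)
    (ord_τ : orderOf τ = 2) (rel : τ * σ * τ⁻¹ = σ⁻¹) (card : Nat.card P = 2 * N) :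
    DihS P σ τ N := by
  have hτσ : τ ∉ Subgroup.zpowers σ := by
    intro hmem
    have h1 : τ * σ = σ * τ := DihS.comm_zpowers hmem (Subgroup.mem_zpowers σ)
    rw [h1, mul_inv_cancel_right] at rel
    have h2 : σ ^ 2 = 1 := by
      rw [sq]; nth_rewrite 1 [rel]; exact inv_mul_cancel σ
    have := Nat.le_of_dvd (by norm_num) (orderOf_dvd_of_pow_eq_one h2)
    omega
  have hττ : τ * τ = 1 := by
    have := pow_orderOf_eq_one τ
    rwa [ord_τ, sq] at this
  have hle : Subgroup.zpowers σ ≤ P := by rw [Subgroup.zpowers_le]; exact σ_mem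
  have hidx : ((Subgroup.zpowers σ).subgroupOf P).index = 2 := by
    have h1 := Subgroup.relIndex_mul_relIndex ⊥ (Subgroup.zpowers σ) P bot_le hle
    rw [Subgroup.relIndex_bot_left, Subgroup.relIndex_bot_left, card, Nat.card_zpowers,
      ord_σ] at h1
    have : (Subgroup.zpowers σ).relIndex P = 2 := by
      have hN : 0 < N := by omega
      apply Nat.eq_of_mul_eq_mul_left hN
      rw [h1]; ring
    exact this
  have : NeZero N := ⟨by omega⟩
  refine ⟨four_le, pow, σ_mem, τ_mem, ord_σ, ord_τ, rel, ?_, ?_⟩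
  · intro x hx
    by_cases hxσ : x ∈ Subgroup.zpowers σ
    · exact Or.inl hxσ
    · right
      have h1 := Subgroup.mul_mem_iff_of_index_two hidx (a := (⟨x, hx⟩ : P)) (b := ⟨τ, τ_mem⟩)
      have h2 : (⟨x, hx⟩ * ⟨τ, τ_mem⟩ : P) ∈ (Subgroup.zpowers σ).subgroupOf P := by
        rw [h1]
        constructor
        · intro h3; exact absurd (Subgroup.mem_subgroupOf.1 h3) hxσ
        · intro h3; exact absurd (Subgroup.mem_subgroupOf.1 h3) hτσ
      refine ⟨x * τ, Subgroup.mem_subgroupOf.1 h2, ?_⟩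
      rw [mul_assoc, hττ, mul_one]
  · apply Cfsg.Agent.Lib.Helper73.nonempty_mulEquiv_dihedralGroup N (⟨σ, σ_mem⟩ : P) ⟨τ, τ_mem⟩
    · rw [Subgroup.orderOf_mk, ord_σ]
    · apply Subtype.ext
      simpa [sq] using hττ
    · apply Subtype.ext
      simpa using rel
    · intro hmem
      apply hτσ
      obtain ⟨k, hk⟩ := hmem
      refine ⟨k, ?_⟩
      have := congrArg Subtype.val hk
      simpa using this
    · exact card

theorem DihS.of_iso [Finite G] (P : Subgroup G) (σ : G) (N : ℕ) (four_le : 4 ≤ N)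
    (pow : ∃ e : ℕ, N = 2 ^ e) (σ_mem : σ ∈ P) (ord_σ : orderOf σ = N)
    (iso : Nonempty (P ≃* DihedralGroup N)) : ∃ τ : G, DihS P σ τ N := by
  obtain ⟨e⟩ := iso
  have : NeZero N := ⟨by omega⟩
  have hcard : Nat.card P = 2 * N := by
    rw [Nat.card_congr e.toEquiv, DihedralGroup.nat_card]
  have hoe : orderOf (e ⟨σ, σ_mem⟩) = N := by
    rw [MulEquiv.orderOf_eq, Subgroup.orderOf_mk, ord_σ]
  rcases hi : e ⟨σ, σ_mem⟩ with i | i
  · refine ⟨((e.symm (DihedralGroup.sr 0) : P) : G), ?_⟩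
    apply DihS.of_card P σ _ N four_le pow σ_mem (e.symm (DihedralGroup.sr 0)).2 ord_σ _ _ hcard
    · rw [Subgroup.orderOf_coe, MulEquiv.orderOf_eq, DihedralGroup.orderOf_sr]
    · have h1 : e.symm (DihedralGroup.sr 0) * ⟨σ, σ_mem⟩ * (e.symm (DihedralGroup.sr 0))⁻¹
          = (⟨σ, σ_mem⟩ : P)⁻¹ := by
        apply e.injective
        rw [map_mul, map_mul, map_inv, map_inv, e.apply_symm_apply, hi]
        simp
      have := congrArg Subtype.val h1
      simpa using this
  · exfalso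
    rw [hi, DihedralGroup.orderOf_sr] at hoe
    omega

end Cfsg.Agent.Lib.Helper75
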