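import Mathlib
import Cfsg.Agent.Lib.Helper75.DihBlock
import Cfsg.Agent.Lib.Helper81.Schur

/-!
# Sums over pairs of involutions (one class of involutions) (helper75)
-/

set_option autoImplicit false

namespace Cfsg.Agent.Lib.Helper75

open Cfsg Cfsg.Agent.Lib.Helper78 Cfsg.Agent.Lib.Helper4 Cfsg.Agent.Lib.Helper55

noncomputable section

theorem sum_subgroup {G : Type*} [Group G] [Fintype G] (S : Subgroup G) [Fintype S] (f : G → ℂ)
    (hf : ∀ x, x ∉ S → f x = 0) : ∑ x : G, f x = ∑ x : S, f x := by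
  classical
  rw [← Finset.sum_subtype (Finset.univ.filter (· ∈ S)) (by simp) f]
  symm
  apply Finset.sum_subset (Finset.filter_subset _ _)
  intro x _ hx
  apply hf
  simpa using hx

theorem sq_eq_one_cases' {G : Type*} [Group G] {w c : G} {o : ℕ} (ho : orderOf w = 2 * o)
    (hc : c ∈ Subgroup.zpowers w) (h2 : c * c = 1) : c = 1 ∨ c = w ^ o := by
  have hJ : w ^ o * w ^ o = 1 := by
    rw [← pow_add, ← two_mul, ← ho]; exact pow_orderOf_eq_one w
  obtain ⟨k, rfl⟩ := hc
  have h3 : w ^ (2 * k) = 1 := by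
    rw [two_mul, zpow_add]; exact h2
  have h4 : ((2 * o : ℕ) : ℤ) ∣ 2 * k := by
    rw [← ho]; exact orderOf_dvd_iff_zpow_eq_one.2 h3
  have h5 : (o : ℤ) ∣ k := by
    push_cast at h4
    exact (mul_dvd_mul_iff_left (by norm_num)).1 h4
  obtain ⟨t, rfl⟩ := h5
  show w ^ ((o : ℤ) * t) = 1 ∨ w ^ ((o : ℤ) * t) = w ^ o
  rw [zpow_mul, zpow_natCast]
  rcases Int.even_or_odd' t with ⟨r, rfl | rfl⟩
  · left
    rw [zpow_mul, zpow_ofNat, sq, hJ, one_zpow]
  · right
    rw [zpow_add, zpow_mul, zpow_ofNat, sq, hJ, one_zpow, one_mul, zpow_one]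

variable {G : Type*} [Group G] [Fintype G]

open Classical in
/-- the involutions of `G` -/
def Inv (G : Type*) [Group G] [Fintype G] : Finset G := Finset.univ.filter fun x => orderOf x = 2

theorem mem_Inv {x : G} : x ∈ Inv G ↔ orderOf x = 2 := by
  classical
  simp [Inv]

open Classical in
/-- a cyclic group of even order has exactly one involution -/
theorem card_inv_zpowers {w : G} (hw : Even (orderOf w)) :
    ((Inv G).filter fun z => z ∈ Subgroup.zpowers w).card = 1 := by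
  obtain ⟨o, ho⟩ := hw
  rw [← two_mul] at ho
  have ho0 : o ≠ 0 := by
    rintro rfl
    have := orderOf_pos w
    omega
  rw [Finset.card_eq_one]
  refine ⟨w ^ o, ?_⟩
  ext z
  simp only [Finset.mem_filter, Finset.mem_singleton, mem_Inv]
  constructor
  · rintro ⟨h1, h2⟩
    have hzz : z * z = 1 := by
      have := pow_orderOf_eq_one z
      rwa [h1, sq] at this
    rcases sq_eq_one_cases' ho h2 hzz with e | e
    · rw [e, orderOf_one] at h1; omega
    · exact e
  · rintro rfl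
    refine ⟨?_, Subgroup.pow_mem _ (Subgroup.mem_zpowers w) _⟩
    rw [orderOf_pow_of_dvd ho0 ⟨2, by rw [ho]; ring⟩, ho]
    exact Nat.mul_div_cancel _ (Nat.pos_of_ne_zero ho0)

theorem not_mem_zpowers_of_odd {w z : G} (hw : Odd (orderOf w)) (hz : orderOf z = 2) :
    z ∉ Subgroup.zpowers w := by
  intro h
  have := orderOf_dvd_of_mem_zpowers h
  rw [hz] at this
  exact (Nat.not_even_iff_odd.2 hw) (even_iff_two_dvd.2 this)

theorem sum_Inv_conj (g : G) (φ : G → ℂ) :
    ∑ x ∈ Inv G, φ (g * x * g⁻¹) = ∑ x ∈ Inv G, φ x := by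
  apply Finset.sum_bij (fun x _ => g * x * g⁻¹)
  · intro x hx
    rw [mem_Inv] at hx ⊢
    rw [orderOf_conj_eq]; exact hx
  · intro x _ y _ hxy
    exact mul_left_cancel (mul_right_cancel hxy)
  · intro y hy
    rw [mem_Inv] at hy
    refine ⟨g⁻¹ * y * g, ?_, by group⟩
    rw [mem_Inv]
    have := orderOf_conj_eq g⁻¹ y
    rw [inv_inv] at this
    rw [this]; exact hy
  · intro x _; rfl

/-- one class of involutions, represented by `J`. -/
structure OneClass (J : G) : Prop where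
  ord : orderOf J = 2
  conj : ∀ x : G, orderOf x = 2 → IsConj J x

namespace OneClass

variable {J : G}

open Classical in
theorem sum_conj (h : OneClass J) (f : G → ℂ) :
    ∑ a : G, f (a * J * a⁻¹) = (Fintype.card (Cen J) : ℂ) * ∑ x ∈ Inv G, f x := by
  have h1 : ∀ a : G, f (a * J * a⁻¹) = ∑ x : G, if a * J * a⁻¹ = x then f x else 0 := by
    intro a
    rw [Finset.sum_ite_eq]
    simp
  simp only [h1]
  rw [Finset.sum_comm, Finset.mul_sum]
  unfold Inv
  rw [Finset.sum_filter]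
  refine Finset.sum_congr rfl fun x _ => ?_
  rw [← Finset.sum_filter, Finset.sum_const, nsmul_eq_mul]
  have h2 : ((Finset.univ.filter fun a : G => a * J * a⁻¹ = x).card : ℂ)
      = if IsConj J x then (Fintype.card (Cen J) : ℂ) else 0 := by
    rw [← Cfsg.Agent.Lib.Helper97.card_conj_eq]
    congr 1
    apply Finset.card_bij (fun a _ => a⁻¹)
    · intro a ha
      simp only [Finset.mem_filter, Finset.mem_univ, true_and] at ha ⊢
      rw [inv_inv]; exact ha
    · intro a _ b _ hab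
      exact inv_injective hab
    · intro b hb
      simp only [Finset.mem_filter, Finset.mem_univ, true_and] at hb
      refine ⟨b⁻¹, ?_, inv_inv b⟩
      simp only [Finset.mem_filter, Finset.mem_univ, true_and]
      rw [inv_inv]; exact hb
  rw [h2]
  by_cases hx : orderOf x = 2
  · rw [if_pos (h.conj x hx), if_pos hx]
  · rw [if_neg hx, if_neg, zero_mul]
    intro hc
    obtain ⟨g, rfl⟩ := isConj_iff.1 hc
    apply hx
    rw [orderOf_conj_eq]; exact h.ord

theorem card_mul (h : OneClass J) :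
    (Fintype.card (Cen J) : ℂ) * ((Inv G).card : ℂ) = (Fintype.card G : ℂ) := by
  have := h.sum_conj (fun _ => 1)
  simp only [Finset.sum_const, Finset.card_univ, nsmul_eq_mul, mul_one] at this
  exact this.symm

theorem val_eq (h : OneClass J) (χ : IrrCharacter G) {x : G} (hx : x ∈ Inv G) :
    (χ : G → ℂ) x = (χ : G → ℂ) J := by
  obtain ⟨g, rfl⟩ := isConj_iff.1 (h.conj x (mem_Inv.1 hx))
  rw [irr_isClassFunction χ]

/-- `∑_{x,y} χ(xy) = |K|² χ(J)² / χ(1)`. -/
theorem sum_irr (h : OneClass J) (χ : IrrCharacter G) :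
    ∑ x ∈ Inv G, ∑ y ∈ Inv G, (χ : G → ℂ) (x * y)
      = ((Inv G).card : ℂ) ^ 2 * ((χ : G → ℂ) J) ^ 2 / (χ : G → ℂ) 1 := by
  have hc0 : (Fintype.card (Cen J) : ℂ) ≠ 0 := by exact_mod_cast Fintype.card_ne_zero
  have h1 : ∀ x ∈ Inv G, ∑ y ∈ Inv G, (χ : G → ℂ) (x * y)
      = ((Inv G).card : ℂ) * ((χ : G → ℂ) J) ^ 2 / (χ : G → ℂ) 1 := by
    intro x hx
    have h2 := Cfsg.Agent.Lib.Helper81.IsIrrCharacter.sum_mul_conj χ.2 x J
    rw [h.sum_conj (fun y => (χ : G → ℂ) (x * y)), ← h.card_mul, h.val_eq χ hx] at h2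
    apply mul_left_cancel₀ hc0
    rw [h2]; ring
  rw [Finset.sum_congr rfl h1, Finset.sum_const, nsmul_eq_mul]
  ring

open Classical in
/-- grouping the pairs of involutions by the involution in `⟨xy⟩`. -/
theorem sum_group (h : OneClass J) (Δ : G → ℂ) (hcl : IsClassFunction G Δ)
    (hodd : ∀ w : G, Odd (orderOf w) → Δ w = 0) :
    ∑ x ∈ Inv G, ∑ y ∈ Inv G, Δ (x * y) = ((Inv G).card : ℂ) *
      ∑ x ∈ Inv G, ∑ y ∈ Inv G, if J ∈ Subgroup.zpowers (x * y) then Δ (x * y) else 0 := by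
  have h1 : ∀ w : G, Δ w = ∑ z ∈ Inv G, if z ∈ Subgroup.zpowers w then Δ w else 0 := by
    intro w
    rw [← Finset.sum_filter, Finset.sum_const, nsmul_eq_mul]
    rcases Nat.even_or_odd (orderOf w) with hw | hw
    · rw [card_inv_zpowers hw]; simp
    · rw [hodd w hw, mul_zero]
  have h2 : ∑ x ∈ Inv G, ∑ y ∈ Inv G, Δ (x * y) = ∑ z ∈ Inv G, ∑ x ∈ Inv G, ∑ y ∈ Inv G,
      if z ∈ Subgroup.zpowers (x * y) then Δ (x * y) else 0 := by
    calc ∑ x ∈ Inv G, ∑ y ∈ Inv G, Δ (x * y)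
        = ∑ x ∈ Inv G, ∑ y ∈ Inv G, ∑ z ∈ Inv G,
          if z ∈ Subgroup.zpowers (x * y) then Δ (x * y) else 0 :=
          Finset.sum_congr rfl fun x _ => Finset.sum_congr rfl fun y _ => h1 (x * y)
      _ = ∑ x ∈ Inv G, ∑ z ∈ Inv G, ∑ y ∈ Inv G,
          if z ∈ Subgroup.zpowers (x * y) then Δ (x * y) else 0 :=
          Finset.sum_congr rfl fun x _ => Finset.sum_comm
      _ = _ := Finset.sum_comm
  have h3 : ∀ z ∈ Inv G, (∑ x ∈ Inv G, ∑ y ∈ Inv G,
      if z ∈ Subgroup.zpowers (x * y) then Δ (x * y) else 0)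
      = ∑ x ∈ Inv G, ∑ y ∈ Inv G, if J ∈ Subgroup.zpowers (x * y) then Δ (x * y) else 0 := by
    intro z hz
    obtain ⟨g, rfl⟩ := isConj_iff.1 (h.conj z (mem_Inv.1 hz))
    rw [← sum_Inv_conj g]
    refine Finset.sum_congr rfl fun x _ => ?_
    rw [← sum_Inv_conj g]
    refine Finset.sum_congr rfl fun y _ => ?_
    have e : g * x * g⁻¹ * (g * y * g⁻¹) = g * (x * y) * g⁻¹ := by group
    rw [e, hcl]
    have hiff : g * J * g⁻¹ ∈ Subgroup.zpowers (g * (x * y) * g⁻¹) ↔ J ∈ Subgroup.zpowers (x * y) := by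
      constructor
      · rintro ⟨k, hk⟩
        refine ⟨k, ?_⟩
        have hk' : (g * (x * y) * g⁻¹) ^ k = g * J * g⁻¹ := hk
        rw [conj_zpow] at hk'
        exact mul_left_cancel (mul_right_cancel hk')
      · rintro ⟨k, hk⟩
        refine ⟨k, ?_⟩
        show (g * (x * y) * g⁻¹) ^ k = g * J * g⁻¹
        have hk' : (x * y) ^ k = J := hk
        rw [conj_zpow, hk']
    simp only [hiff]
  rw [h2, Finset.sum_congr rfl h3, Finset.sum_const, nsmul_eq_mul]

end OneClass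

end

end Cfsg.Agent.Lib.Helper75
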