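import Mathlib
import Cfsg.Agent.Lib.Helper75.DihLocal3
import Cfsg.Agent.Lib.Helper75.DihBlock3
import Cfsg.Agent.Lib.Helper75.DihMk
import Cfsg.Agent.Lib.Helper75.InvSum

/-!
# Brauer's order formula for groups with dihedral Sylow 2-subgroups and one class of involutions
(helper75)
-/

set_option autoImplicit false

namespace Cfsg.Agent.Lib.Helper75

open Cfsg Cfsg.Agent.Lib.Helper78 Cfsg.Agent.Lib.Helper4 Cfsg.Agent.Lib.Helper55
  Cfsg.Agent.Lib.Helper73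

noncomputable section

namespace DihS

variable {G : Type*} [Group G] [Finite G] {T : Sylow 2 G} {σ τ : G} {N : ℕ}

theorem le_cen_J (h : DihS (T : Subgroup G) σ τ N) : (T : Subgroup G) ≤ Cen (σ ^ (N / 2)) := by
  intro x hx
  exact Subgroup.mem_centralizer_singleton_iff.2 (h.J_central hx)

theorem exists_core_J (h : DihS (T : Subgroup G) σ τ N) :
    ∃ W : Subgroup (Cen (σ ^ (N / 2))), W.Normal ∧ Odd (Nat.card W) ∧ W.index = 2 * N := by
  obtain ⟨W, hW, hodd, k, hk⟩ := Cfsg.Agent.S0514.result T N (by have := h.four_le; omega) h.iso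
    (σ ^ (N / 2)) h.ord_J
  refine ⟨W, hW, hodd, ?_⟩
  obtain ⟨e, he⟩ := h.pow
  have hcop : (Nat.card W).Coprime 2 := Nat.Coprime.symm (Nat.coprime_two_left.2 hodd)
  have hcard : Nat.card W * 2 ^ k = Nat.card (Cen (σ ^ (N / 2))) := by
    rw [← hk]; exact W.card_mul_index
  have h1 : 2 ^ (e + 1) ∣ Nat.card (Cen (σ ^ (N / 2))) := by
    have := Subgroup.card_dvd_of_le h.le_cen_J
    rw [h.card_P] at this
    rw [pow_succ', ← he]
    exact this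
  have h2 : 2 ^ (e + 1) ∣ 2 ^ k := by
    rw [← hcard] at h1
    exact (Nat.Coprime.pow_left (e + 1) hcop.symm).dvd_of_dvd_mul_left h1
  have h3 : e + 1 ≤ k := (Nat.pow_dvd_pow_iff_le_right (by norm_num)).1 h2
  have h4 : 2 ^ k ∣ Nat.card G :=
    (Dvd.intro_left _ hcard).trans (Subgroup.card_subgroup_dvd_card _)
  have h5 : k ≤ (Nat.card G).factorization 2 :=
    (Nat.Prime.pow_dvd_iff_le_factorization Nat.prime_two Nat.card_pos.ne').1 h4
  have h6 : 2 ^ (e + 1) = 2 ^ (Nat.card G).factorization 2 := by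
    rw [← T.card_eq_multiplicity]
    have : Nat.card (T : Subgroup G) = 2 * N := h.card_P
    rw [pow_succ', ← he]
    exact this.symm
  have h7 : e + 1 = (Nat.card G).factorization 2 := Nat.pow_right_injective (le_refl 2) h6
  have h8 : k = e + 1 := by omega
  rw [hk, h8, pow_succ', ← he]

/-- `σ` as an element of `C(J)` -/
def σ' (h : DihS (T : Subgroup G) σ τ N) : Cen (σ ^ (N / 2)) := ⟨σ, h.le_cen_J h.σ_mem⟩

/-- `τ` as an element of `C(J)` -/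
def τ' (h : DihS (T : Subgroup G) σ τ N) : Cen (σ ^ (N / 2)) := ⟨τ, h.le_cen_J h.τ_mem⟩

theorem exists_loc (h : DihS (T : Subgroup G) σ τ N) :
    ∃ W : Subgroup (Cen (σ ^ (N / 2))), Loc (T.subtype h.le_cen_J) h.σ' h.τ' N W := by
  obtain ⟨W, hW, hodd, hidx⟩ := h.exists_core_J
  refine ⟨W, ?_, hW, hodd, hidx, ?_⟩
  · apply DihS.of_card _ h.σ' h.τ' N h.four_le h.pow
    · exact Subgroup.mem_subgroupOf.2 h.σ_mem
    · exact Subgroup.mem_subgroupOf.2 h.τ_mem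
    · unfold σ'; rw [Subgroup.orderOf_mk]; exact h.ord_σ
    · unfold τ'; rw [Subgroup.orderOf_mk]; exact h.ord_τ
    · apply Subtype.ext
      simpa [σ', τ'] using h.rel
    · rw [Sylow.coe_subtype, Nat.card_congr (Subgroup.subgroupOfEquivOfLe h.le_cen_J).toEquiv]
      exact h.card_P
  · intro x
    apply Subtype.ext
    have := Subgroup.mem_centralizer_singleton_iff.1 x.2
    simpa [σ'] using this

theorem coe_zmodPow (h : DihS (T : Subgroup G) σ τ N) (c : ZMod N) :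
    ((zmodPow N h.σ' c : Cen (σ ^ (N / 2))) : G) = zmodPow N σ c := by
  unfold zmodPow σ'
  simp

theorem coe_J (h : DihS (T : Subgroup G) σ τ N) :
    ((h.σ' ^ (N / 2) : Cen (σ ^ (N / 2))) : G) = σ ^ (N / 2) := by
  unfold σ'
  simp

theorem isConj_coe {S : Subgroup G} {a b : S} (hab : IsConj a b) : IsConj (a : G) (b : G) := by
  obtain ⟨c, hc⟩ := isConj_iff.1 hab
  refine isConj_iff.2 ⟨c, ?_⟩
  have := congrArg Subtype.val hc
  simpa using this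

theorem isPPart_coe {S : Subgroup G} {w z : S} (hw : IsPPart 2 w z) : IsPPart 2 (w : G) (z : G) := by
  obtain ⟨y, h1, h2, ⟨k, h3⟩, h4⟩ := hw
  refine ⟨y, ?_, ?_, ⟨k, ?_⟩, ?_⟩
  · have := congrArg Subtype.val h1
    simpa using this
  · have := congrArg Subtype.val h2.eq
    exact this
  · rw [Subgroup.orderOf_coe]; exact h3
  · rw [Subgroup.orderOf_coe]; exact h4

end DihS

namespace DihS

variable {G : Type*} [Group G] [Fintype G] {T : Sylow 2 G} {σ τ : G} {N : ℕ} [NeZero N]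

theorem oneClass (h : DihS (T : Subgroup G) σ τ N) (h1 : IsConj (σ ^ (N / 2)) τ)
    (h2 : IsConj (σ ^ (N / 2)) (σ * τ)) : OneClass (σ ^ (N / 2)) := by
  refine ⟨h.ord_J, ?_⟩
  intro x hx
  obtain ⟨W, L⟩ := h.exists_loc
  have hpg : IsPGroup 2 (Subgroup.zpowers x) := by
    apply IsPGroup.of_card (n := 1); rw [Nat.card_zpowers, hx, pow_one]
  obtain ⟨g, hg⟩ := exists_conj_mem_sylow T _ hpg
  have hp := hg x (Subgroup.mem_zpowers x)
  have hxp : IsConj (g * x * g⁻¹) x := (isConj_iff.2 ⟨g, rfl⟩ : IsConj x (g * x * g⁻¹)).symm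
  by_cases hJ : g * x * g⁻¹ = σ ^ (N / 2)
  · rw [← hJ]; exact hxp
  · have hmem : (⟨g * x * g⁻¹, h.le_cen_J hp⟩ : Cen (σ ^ (N / 2))) ∈ Loc.Iset h.σ' N := by
      rw [Loc.mem_Iset]
      refine ⟨by rw [Subgroup.orderOf_mk, orderOf_conj_eq]; exact hx, ?_⟩
      intro e
      apply hJ
      have := congrArg Subtype.val e
      rw [h.coe_J] at this
      exact this
    rcases L.isConj_cases hmem with hc | hc
    · exact (h1.trans (isConj_coe hc)).trans hxp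
    · exact (h2.trans (isConj_coe hc)).trans hxp

theorem mem_cen_of_zpowers {x y J : G} (hx : orderOf x = 2) (hy : orderOf y = 2) (hJJ : J⁻¹ = J)
    (hJ : J ∈ Subgroup.zpowers (x * y)) : x ∈ Cen J ∧ y ∈ Cen J := by
  have hxx : x * x = 1 := by
    have := pow_orderOf_eq_one x
    rwa [hx, sq] at this
  have hyy : y * y = 1 := by
    have := pow_orderOf_eq_one y
    rwa [hy, sq] at this
  have hxi : x⁻¹ = x := inv_eq_of_mul_eq_one_left hxx
  have hyi : y⁻¹ = y := inv_eq_of_mul_eq_one_left hyy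
  obtain ⟨k, hk⟩ := hJ
  have hk' : (x * y) ^ k = J := hk
  have e1 : x * (x * y) * x⁻¹ = (x * y)⁻¹ := by
    rw [mul_inv_rev, hxi, hyi, ← mul_assoc, hxx, one_mul]
  have e2 : y * (x * y) * y⁻¹ = (x * y)⁻¹ := by
    rw [mul_inv_rev, hxi, hyi, mul_assoc, mul_assoc, hyy, mul_one]
  constructor
  · rw [Subgroup.mem_centralizer_singleton_iff]
    have : x * J * x⁻¹ = J := by
      rw [← hk', ← conj_zpow, e1, inv_zpow, hk', hJJ]
    exact mul_inv_eq_iff_eq_mul.1 this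
  · rw [Subgroup.mem_centralizer_singleton_iff]
    have : y * J * y⁻¹ = J := by
      rw [← hk', ← conj_zpow, e2, inv_zpow, hk', hJJ]
    exact mul_inv_eq_iff_eq_mul.1 this

open Classical in
/-- the local sum, computed in `C(J)`. -/
theorem local_sum (h : DihS (T : Subgroup G) σ τ N) (Δ : G → ℂ) (ψ : AddChar (ZMod N) ℂ)
    (hψ : ψ 2 ≠ 1)
    (hΔ : ∀ (w z : G) (c : ZMod N), IsPPart 2 w z → IsConj (zmodPow N σ c) z →
      Δ w = 2 - ψ c - ψ (-c)) :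
    ∑ x ∈ Inv G, ∑ y ∈ Inv G, (if σ ^ (N / 2) ∈ Subgroup.zpowers (x * y) then Δ (x * y) else 0)
      = 2 * ((Loc.Iset h.σ' N).card : ℂ) ^ 2 := by
  obtain ⟨W, L⟩ := h.exists_loc
  obtain ⟨Θ, hΘdef⟩ : ∃ Θ : Cen (σ ^ (N / 2)) → ℂ,
      Θ = fun w : Cen (σ ^ (N / 2)) => Δ (w : G) := ⟨_, rfl⟩
  have hΘ : ∀ (w z : Cen (σ ^ (N / 2))) (c : ZMod N), IsPPart 2 w z →
      IsConj (zmodPow N h.σ' c) z → Θ w = 2 - ψ c - ψ (-c) := by
    intro w z c hw hz
    rw [hΘdef]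
    apply hΔ (w : G) (z : G) c (isPPart_coe hw)
    rw [← h.coe_zmodPow]
    exact isConj_coe hz
  rw [← L.sum_Theta ψ hψ Θ hΘ]
  obtain ⟨F, hF⟩ : ∃ F : G → G → ℂ, F = fun x y =>
      if (orderOf x = 2 ∧ orderOf y = 2 ∧ σ ^ (N / 2) ∈ Subgroup.zpowers (x * y)) then Δ (x * y)
      else 0 := ⟨_, rfl⟩
  have h1 : ∑ x ∈ Inv G, ∑ y ∈ Inv G,
      (if σ ^ (N / 2) ∈ Subgroup.zpowers (x * y) then Δ (x * y) else 0) = ∑ x : G, ∑ y : G, F x y := by
    unfold Inv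
    rw [Finset.sum_filter]
    refine Finset.sum_congr rfl fun x _ => ?_
    split_ifs with hx
    · rw [Finset.sum_filter]
      refine Finset.sum_congr rfl fun y _ => ?_
      rw [hF]
      by_cases hy : orderOf y = 2 <;> by_cases hJ : σ ^ (N / 2) ∈ Subgroup.zpowers (x * y) <;>
        simp [hx, hy, hJ]
    · symm
      apply Finset.sum_eq_zero
      intro y _
      rw [hF]
      simp [hx]
  have hF0 : ∀ x y : G, (x ∉ Cen (σ ^ (N / 2)) ∨ y ∉ Cen (σ ^ (N / 2))) → F x y = 0 := by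
    intro x y hxy
    rw [hF]
    show (if _ then _ else _) = _
    rw [if_neg]
    rintro ⟨hx, hy, hJ⟩
    have := mem_cen_of_zpowers hx hy h.J_inv hJ
    tauto
  have h2 : ∑ x : G, ∑ y : G, F x y
      = ∑ x : Cen (σ ^ (N / 2)), ∑ y : Cen (σ ^ (N / 2)), F x y := by
    rw [sum_subgroup (Cen (σ ^ (N / 2)))]
    · refine Finset.sum_congr rfl fun x _ => ?_
      rw [sum_subgroup (Cen (σ ^ (N / 2)))]
      intro y hy
      exact hF0 _ _ (Or.inr hy)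
    · intro x hx
      apply Finset.sum_eq_zero
      intro y _
      exact hF0 _ _ (Or.inl hx)
  have h3 : ∀ x y : Cen (σ ^ (N / 2)), F x y
      = if x ∈ Loc.Iset h.σ' N then (if y ∈ Loc.Iset h.σ' N then Θ (x * y) else 0) else 0 := by
    intro x y
    have hzp : σ ^ (N / 2) ∈ Subgroup.zpowers ((x : G) * (y : G)) ↔
        h.σ' ^ (N / 2) ∈ Subgroup.zpowers (x * y) := by
      constructor
      · rintro ⟨k, hk⟩
        refine ⟨k, ?_⟩
        apply Subtype.ext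
        rw [h.coe_J]
        simpa using hk
      · rintro ⟨k, hk⟩
        refine ⟨k, ?_⟩
        have := congrArg Subtype.val hk
        rw [h.coe_J] at this
        simpa using this
    rw [hF]
    show (if _ then _ else _) = _
    rw [Subgroup.orderOf_coe, Subgroup.orderOf_coe]
    by_cases hc : orderOf x = 2 ∧ orderOf y = 2 ∧ h.σ' ^ (N / 2) ∈ Subgroup.zpowers (x * y)
    · have hne := L.ne_J_of_mem_zpowers hc.1 hc.2.1 hc.2.2
      rw [if_pos ⟨hc.1, hc.2.1, hzp.2 hc.2.2⟩, if_pos (Loc.mem_Iset.2 ⟨hc.1, hne.1⟩),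
        if_pos (Loc.mem_Iset.2 ⟨hc.2.1, hne.2⟩), hΘdef]
      rfl
    · rw [if_neg (fun hh => hc ⟨hh.1, hh.2.1, hzp.1 hh.2.2⟩)]
      by_cases hx : x ∈ Loc.Iset h.σ' N
      · by_cases hy : y ∈ Loc.Iset h.σ' N
        · rw [if_pos hx, if_pos hy]
          rcases L.theta_eq_zero_or ψ Θ hΘ hx hy with h4 | h4
          · exact absurd ⟨(Loc.mem_Iset.1 hx).1, (Loc.mem_Iset.1 hy).1, h4⟩ hc
          · exact h4.symm
        · rw [if_pos hx, if_neg hy]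
      · rw [if_neg hx]
  rw [h1, h2]
  simp only [h3]
  have e1 : (Finset.univ.filter fun x => x ∈ Loc.Iset h.σ' N) = Loc.Iset h.σ' N := by
    ext x; simp
  have e2 : ∀ x : Cen (σ ^ (N / 2)), (∑ y : Cen (σ ^ (N / 2)),
      if x ∈ Loc.Iset h.σ' N then (if y ∈ Loc.Iset h.σ' N then Θ (x * y) else 0) else 0)
      = if x ∈ Loc.Iset h.σ' N then ∑ y ∈ Loc.Iset h.σ' N, Θ (x * y) else 0 := by
    intro x
    split_ifs with hx
    · rw [← Finset.sum_filter, e1]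
    · simp
  simp only [e2]
  rw [← Finset.sum_filter, e1]

theorem card_centralizer_pair {J : G} (t : Cen J) :
    Nat.card (Subgroup.centralizer ({t} : Set (Cen J)))
      = Nat.card (Subgroup.centralizer ({J, (t : G)} : Set G)) := by
  rw [← Subgroup.card_map_of_injective (K := Subgroup.centralizer ({t} : Set (Cen J)))
    (Cen J).subtype_injective]
  congr 2
  ext x
  constructor
  · rintro ⟨s, hs, rfl⟩
    rw [Subgroup.mem_centralizer_iff]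
    intro y hy
    simp only [Set.mem_insert_iff, Set.mem_singleton_iff] at hy
    rcases hy with rfl | rfl
    · exact (Subgroup.mem_centralizer_singleton_iff.1 s.2).symm
    · have := Subgroup.mem_centralizer_singleton_iff.1 hs
      have := congrArg Subtype.val this
      exact this.symm
  · intro hx
    rw [Subgroup.mem_centralizer_iff] at hx
    have h1 := hx J (by simp)
    have h2 := hx t (by simp)
    refine ⟨⟨x, Subgroup.mem_centralizer_singleton_iff.2 h1.symm⟩, ?_, rfl⟩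
    apply Subgroup.mem_centralizer_singleton_iff.2
    apply Subtype.ext
    exact h2.symm

/-- the number of involutions of `C(J)` other than `J`. -/
theorem card_Iset_eq (h : DihS (T : Subgroup G) σ τ N) : ∃ i₁ i₂ : ℕ,
    (Loc.Iset h.σ' N).card = i₁ + i₂ ∧
    i₁ * Nat.card (Subgroup.centralizer ({σ ^ (N / 2), τ} : Set G)) = Nat.card (Cen (σ ^ (N / 2))) ∧
    i₂ * Nat.card (Subgroup.centralizer ({σ ^ (N / 2), σ * τ} : Set G))
      = Nat.card (Cen (σ ^ (N / 2))) := by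
  obtain ⟨W, L⟩ := h.exists_loc
  refine ⟨_, _, L.card_Iset, ?_, ?_⟩
  · have := card_centralizer_pair h.τ'
    rw [show ((h.τ' : Cen (σ ^ (N / 2))) : G) = τ from rfl] at this
    rw [← this]
    exact Subgroup.index_mul_card _
  · have := card_centralizer_pair (h.σ' * h.τ')
    rw [show ((h.σ' * h.τ' : Cen (σ ^ (N / 2))) : G) = σ * τ from rfl] at this
    rw [← this]
    exact Subgroup.index_mul_card _

theorem order_formula (h : DihS (T : Subgroup G) σ τ N) {ζ : ℂ} (hζ : IsPrimitiveRoot ζ N)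
    {M : Ideal AlgInt} (hM : IsPModular 2 M) (h1 : IsConj (σ ^ (N / 2)) τ)
    (h2 : IsConj (σ ^ (N / 2)) (σ * τ)) (χ₁ : IrrCharacter G) (hχ₁ : χ₁ ∈ principalBlock M G)
    (hne : χ₁ ≠ trivIrr G) (δ₁ : ℤ) (hδ₁ : δ₁ = 1 ∨ δ₁ = -1)
    (hval : ∀ l : ZMod N, l ≠ 0 → (χ₁ : G → ℂ) (zmodPow N σ l) = δ₁) :
    ((χ₁ : G → ℂ) 1 + δ₁ ≠ 0) ∧
    ((Inv G).card : ℂ) * ((χ₁ : G → ℂ) 1 - δ₁) ^ 2
      = 2 * ((Loc.Iset h.σ' N).card : ℂ) ^ 2 * (χ₁ : G → ℂ) 1 * ((χ₁ : G → ℂ) 1 + δ₁) := by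
  classical
  obtain ⟨X₁, X₂, X₃, β, d₁, d₂, d₃, s1, s2, s3, n12, n13, n23, t1, t2, t3, hβ, hinj, hblock,
    hv, hodd⟩ := h.main hζ hM
  have hhalf := h.two_mul_half
  have h4 := h.four_le
  have hm1 : 1 ≤ N / 2 := by omega
  have hζm : ζ ^ (N / 2) = -1 := by
    have := hζ.pow (by omega) (show N = N / 2 * 2 by omega)
    exact this.eq_neg_one_of_two_right
  have hψ1 : ∀ j : ℕ, psi N hζ ((j : ZMod N) * (-((N / 2 : ℕ) : ZMod N))) = (-1) ^ j := by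
    intro j
    rw [mul_neg, AddChar.map_neg_eq_inv, ← Nat.cast_mul, psi_natCast, mul_comm, pow_mul, hζm,
      ← inv_pow]
    norm_num
  have hψ2 : ∀ j : ℕ, psi N hζ (-(j : ZMod N) * (-((N / 2 : ℕ) : ZMod N))) = (-1) ^ j := by
    intro j
    rw [neg_mul_neg, ← Nat.cast_mul, psi_natCast, mul_comm, pow_mul, hζm]
  have hmne : ((N / 2 : ℕ) : ZMod N) ≠ 0 := h.natCast_ne_zero hm1 le_rfl
  have hone : (1 : ZMod N) ≠ 0 := by
    have := h.natCast_ne_zero (a := 1) le_rfl hm1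
    simpa using this
  have htwo : (2 : ZMod N) ≠ 0 := by
    have := h.natCast_ne_zero (a := 2) (by norm_num) (by omega)
    simpa using this
  have hsing : ∀ (X : IrrCharacter G) (d : ℤ), (d = 1 ∨ d = -1) → (∀ l : ZMod N, l ≠ 0 →
      (X : G → ℂ) (zmodPow N σ l) = -(d * psi N hζ (((N / 2 : ℕ) : ZMod N) * (-l)))) → χ₁ ≠ X := by
    intro X d hd hX e
    have a1 := hX 1 hone
    have a2 := hX 2 htwo
    rw [← e, hval 1 hone] at a1
    rw [← e, hval 2 htwo] at a2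
    have b1 : psi N hζ (((N / 2 : ℕ) : ZMod N) * (-1)) = -1 := by
      have := hψ1 1
      rw [Nat.cast_one, one_mul, pow_one] at this
      rw [mul_neg, mul_one]; exact this
    have b2 : psi N hζ (((N / 2 : ℕ) : ZMod N) * (-2)) = 1 := by
      have : ((N / 2 : ℕ) : ZMod N) * (-2) = 0 := by
        have e2 : ((N / 2 : ℕ) : ZMod N) * (-2) = -((2 * (N / 2) : ℕ) : ZMod N) := by
          push_cast; ring
        rw [e2, hhalf, ZMod.natCast_self, neg_zero]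
      rw [this, AddChar.map_zero_eq_one]
    rw [b1] at a1
    rw [b2] at a2
    have c1 : (δ₁ : ℂ) = ((d : ℤ) : ℂ) := by rw [a1]; ring
    have c2 : (δ₁ : ℂ) = ((-d : ℤ) : ℂ) := by rw [a2]; push_cast; ring
    have c1' : δ₁ = d := by exact_mod_cast c1
    have c2' : δ₁ = -d := by exact_mod_cast c2
    rcases hd with r | r <;> omega
  have hX1 : χ₁ = X₁ := by
    rcases (hblock χ₁).1 hχ₁ with e | e | e | e | ⟨j, hj1, hj2, e⟩
    · exact absurd e hne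
    · exact e
    · exact absurd e (hsing X₂ d₂ s2 fun l hl => (hv l hl).2.1)
    · exact absurd e (hsing X₃ d₃ s3 fun l hl => (hv l hl).2.2.1)
    · exfalso
      have a1 := (hv _ hmne).2.2.2 j hj1 hj2
      rw [← e, hval _ hmne, hψ1, hψ2] at a1
      rcases neg_one_pow_eq_or ℂ j with r | r
      · rw [r] at a1
        have c1 : (δ₁ : ℂ) = ((2 * d₁ : ℤ) : ℂ) := by rw [a1]; push_cast; ring
        have c1' : δ₁ = 2 * d₁ := by exact_mod_cast c1
        rcases hδ₁ with r' | r' <;> omega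
      · rw [r] at a1
        have c1 : (δ₁ : ℂ) = ((-2 * d₁ : ℤ) : ℂ) := by rw [a1]; push_cast; ring
        have c1' : δ₁ = -2 * d₁ := by exact_mod_cast c1
        rcases hδ₁ with r' | r' <;> omega
  have hd1 : δ₁ = d₁ := by
    have a1 := (hv 1 hone).1
    rw [← hX1, hval 1 hone] at a1
    exact_mod_cast a1
  subst hX1
  subst hd1
  have hj2 : 1 < N / 2 := by omega
  obtain ⟨b, hb⟩ : ∃ b, b = β 1 := ⟨_, rfl⟩
  have hbB : b ∈ principalBlock M G := (hblock b).2 (Or.inr (Or.inr (Or.inr (Or.inr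
    ⟨1, le_rfl, hj2, hb⟩))))
  have hδsq : (δ₁ : ℂ) * δ₁ = 1 := by
    rcases hδ₁ with r | r <;> rw [r] <;> norm_num
  -- degrees and values at J
  have hdeg : (b : G → ℂ) 1 = (χ₁ : G → ℂ) 1 + δ₁ := by
    have := (hodd 1 (by rw [orderOf_one]; exact odd_one)).2 1 le_rfl hj2
    rw [← hb] at this
    linear_combination (-(δ₁ : ℂ)) * this + (-(b : G → ℂ) 1 + 1 * (χ₁ : G → ℂ) 1) * hδsq
  have hsJ : zmodPow N σ ((N / 2 : ℕ) : ZMod N) = σ ^ (N / 2) := by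
    unfold zmodPow
    rw [ZMod.val_natCast, Nat.mod_eq_of_lt (by omega)]
  have hχJ : (χ₁ : G → ℂ) (σ ^ (N / 2)) = δ₁ := by rw [← hsJ]; exact hval _ hmne
  have hbJ : (b : G → ℂ) (σ ^ (N / 2)) = -2 * δ₁ := by
    have := (hv _ hmne).2.2.2 1 le_rfl hj2
    rw [hψ1, hψ2, hsJ, ← hb] at this
    rw [this]; ring
  have hb0 : (b : G → ℂ) 1 ≠ 0 := Cfsg.Agent.Lib.Helper3.IsIrrCharacter.apply_one_ne_zero b.2
  have hx0 : (χ₁ : G → ℂ) 1 ≠ 0 := Cfsg.Agent.Lib.Helper3.IsIrrCharacter.apply_one_ne_zero χ₁.2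
  refine ⟨by rw [← hdeg]; exact hb0, ?_⟩
  -- the class function Δ
  obtain ⟨Δ, hΔdef⟩ : ∃ Δ : G → ℂ, Δ = fun g => 1 + δ₁ * (χ₁ : G → ℂ) g - δ₁ * (b : G → ℂ) g :=
    ⟨_, rfl⟩
  have hcl : IsClassFunction G Δ := by
    intro g c
    rw [hΔdef]
    show 1 + _ * _ - _ * _ = 1 + _ * _ - _ * _
    rw [irr_isClassFunction χ₁, irr_isClassFunction b]
  have hΔodd : ∀ w : G, Odd (orderOf w) → Δ w = 0 := by
    intro w hw
    rw [hΔdef, hb]
    exact (hodd w hw).2 1 le_rfl hj2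
  have hΔ : ∀ (w z : G) (c : ZMod N), IsPPart 2 w z → IsConj (zmodPow N σ c) z →
      Δ w = 2 - psi N hζ c - psi N hζ (-c) := by
    intro w z c hw hz
    by_cases hc : c = 0
    · rw [hc, zmodPow_zero] at hz
      have hz1 : z = 1 := isConj_one_right.1 hz
      obtain ⟨y, hy1, -, -, hy2⟩ := hw
      rw [hz1, one_mul] at hy1
      rw [hΔodd w (by rw [← hy1, ← Nat.not_even_iff_odd, even_iff_two_dvd]; exact hy2), hc]
      simp
      norm_num
    · have nil := h.nilCen (zmodPow_mem N σ c) (h.s_ne_one hc)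
      rw [hΔdef]
      show 1 + _ * _ - _ * _ = _
      rw [nil.val_sec hM χ₁ hχ₁ hw hz, nil.val_sec hM b hbB hw hz, hval c hc, hb,
        (hv c hc).2.2.2 1 le_rfl hj2]
      have e1 : ((1 : ℕ) : ZMod N) * (-c) = -c := by simp
      have e2 : -((1 : ℕ) : ZMod N) * (-c) = c := by simp
      rw [e1, e2]
      linear_combination (1 - psi N hζ (-c) - psi N hζ c) * hδsq
  have hψ2' : psi N hζ 2 ≠ 1 := by
    have e : (2 : ZMod N) = ((2 : ℕ) : ZMod N) := by norm_num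
    rw [e, psi_natCast]
    intro hh
    have := hζ.dvd_of_pow_eq_one 2 hh
    have := Nat.le_of_dvd (by norm_num) this
    omega
  have OC := h.oneClass h1 h2
  have S1 := OC.sum_group Δ hcl hΔodd
  rw [h.local_sum Δ (psi N hζ) hψ2' hΔ] at S1
  have S2 : ∑ x ∈ Inv G, ∑ y ∈ Inv G, Δ (x * y) = ((Inv G).card : ℂ) ^ 2
      + δ₁ * (((Inv G).card : ℂ) ^ 2 * ((χ₁ : G → ℂ) (σ ^ (N / 2))) ^ 2 / (χ₁ : G → ℂ) 1)
      - δ₁ * (((Inv G).card : ℂ) ^ 2 * ((b : G → ℂ) (σ ^ (N / 2))) ^ 2 / (b : G → ℂ) 1) := by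
    rw [← OC.sum_irr χ₁, ← OC.sum_irr b, hΔdef]
    simp only [Finset.sum_sub_distrib, Finset.sum_add_distrib, Finset.mul_sum, Finset.sum_const,
      nsmul_eq_mul, mul_one]
    ring
  rw [S1, hχJ, hbJ, hdeg] at S2
  have hk0 : ((Inv G).card : ℂ) ≠ 0 := by
    have : σ ^ (N / 2) ∈ Inv G := mem_Inv.2 h.ord_J
    have := Finset.card_pos.2 ⟨_, this⟩
    exact_mod_cast this.ne'
  have hxd0 : (χ₁ : G → ℂ) 1 + δ₁ ≠ 0 := by rw [← hdeg]; exact hb0
  have S3 : 2 * ((Loc.Iset h.σ' N).card : ℂ) ^ 2 = ((Inv G).card : ℂ) * (1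
      + δ₁ * ((δ₁ : ℂ) ^ 2 / (χ₁ : G → ℂ) 1) - δ₁ * ((-2 * (δ₁ : ℂ)) ^ 2 / ((χ₁ : G → ℂ) 1 + δ₁))) := by
    apply mul_left_cancel₀ hk0
    rw [S2]; ring
  rw [S3]
  have a1 : ((δ₁ : ℂ) ^ 2 / (χ₁ : G → ℂ) 1) * (χ₁ : G → ℂ) 1 = (δ₁ : ℂ) ^ 2 :=
    div_mul_cancel₀ _ hx0
  have a2 : ((-2 * (δ₁ : ℂ)) ^ 2 / ((χ₁ : G → ℂ) 1 + δ₁)) * ((χ₁ : G → ℂ) 1 + δ₁)
      = (-2 * (δ₁ : ℂ)) ^ 2 := div_mul_cancel₀ _ hxd0
  have key : (1 + δ₁ * ((δ₁ : ℂ) ^ 2 / (χ₁ : G → ℂ) 1)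
      - δ₁ * ((-2 * (δ₁ : ℂ)) ^ 2 / ((χ₁ : G → ℂ) 1 + δ₁))) * (χ₁ : G → ℂ) 1 * ((χ₁ : G → ℂ) 1 + δ₁)
      = ((χ₁ : G → ℂ) 1 - δ₁) ^ 2 := by
    calc (1 + δ₁ * ((δ₁ : ℂ) ^ 2 / (χ₁ : G → ℂ) 1)
      - δ₁ * ((-2 * (δ₁ : ℂ)) ^ 2 / ((χ₁ : G → ℂ) 1 + δ₁))) * (χ₁ : G → ℂ) 1 * ((χ₁ : G → ℂ) 1 + δ₁)
        = (χ₁ : G → ℂ) 1 * ((χ₁ : G → ℂ) 1 + δ₁)
          + δ₁ * (((δ₁ : ℂ) ^ 2 / (χ₁ : G → ℂ) 1) * (χ₁ : G → ℂ) 1) * ((χ₁ : G → ℂ) 1 + δ₁)
          - δ₁ * (((-2 * (δ₁ : ℂ)) ^ 2 / ((χ₁ : G → ℂ) 1 + δ₁)) * ((χ₁ : G → ℂ) 1 + δ₁))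
            * (χ₁ : G → ℂ) 1 := by ring
      _ = (χ₁ : G → ℂ) 1 * ((χ₁ : G → ℂ) 1 + δ₁)
          + δ₁ * ((δ₁ : ℂ) ^ 2) * ((χ₁ : G → ℂ) 1 + δ₁)
          - δ₁ * ((-2 * (δ₁ : ℂ)) ^ 2) * (χ₁ : G → ℂ) 1 := by rw [a1, a2]
      _ = ((χ₁ : G → ℂ) 1 - δ₁) ^ 2 := by
        linear_combination ((δ₁ : ℂ) ^ 2 - 3 * (χ₁ : G → ℂ) 1 * δ₁) * hδsq
  rw [← key]
  ring

end DihS

end

end Cfsg.Agent.Lib.Helper75
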