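import Mathlib
import Cfsg.Agent.Lib.Helper75.DihOrder
import Cfsg.Agent.S0111
import Cfsg.Agent.Lib.Helper14.IndexTwo

/-!
# Groups with an involution whose centralizer is dihedral of order 8 (helper75)
-/

set_option autoImplicit false

namespace Cfsg.Agent.Lib.Helper75

open Cfsg Cfsg.Agent.Lib.Helper78 Cfsg.Agent.Lib.Helper4 Cfsg.Agent.Lib.Helper55
  Cfsg.Agent.Lib.Helper73

namespace DihS

variable {G : Type*} [Group G] [Finite G] {T : Sylow 2 G} {σ τ : G} {N : ℕ}

theorem relIndex_zpowers (h : DihS (T : Subgroup G) σ τ N) :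
    (Subgroup.zpowers σ).relIndex (T : Subgroup G) = 2 := by
  have hle : Subgroup.zpowers σ ≤ (T : Subgroup G) := by
    rw [Subgroup.zpowers_le]; exact h.σ_mem
  have h1 := Subgroup.relIndex_mul_relIndex ⊥ (Subgroup.zpowers σ) (T : Subgroup G) bot_le hle
  rw [Subgroup.relIndex_bot_left, Subgroup.relIndex_bot_left, h.card_P, Nat.card_zpowers,
    h.ord_σ] at h1
  have hN : 0 < N := by have := h.four_le; omega
  apply Nat.eq_of_mul_eq_mul_left hN
  rw [h1]; ring

/-- without normal subgroups of index 2 all involutions are conjugate. -/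
theorem isConj_of_no_index_two (h : DihS (T : Subgroup G) σ τ N)
    (hno : ∀ M : Subgroup G, M.Normal → M.index ≠ 2) {u : G} (hu : u ∈ (T : Subgroup G))
    (huσ : u ∉ Subgroup.zpowers σ) : IsConj (σ ^ (N / 2)) u := by
  have hle : Subgroup.zpowers σ ≤ (T : Subgroup G) := by
    rw [Subgroup.zpowers_le]; exact h.σ_mem
  have huu : u * u = 1 := by
    rcases h.cases u hu with h1 | ⟨c, hc, rfl⟩
    · exact absurd h1 huσ
    · exact h.cτ_sq hc
  have hu1 : u ≠ 1 := by
    rintro rfl; exact huσ (one_mem _)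
  have huo : orderOf u = 2 := orderOf_eq_prime (by rw [sq]; exact huu) hu1
  rcases Cfsg.Agent.S0111.result T (Subgroup.zpowers σ) hle h.relIndex_zpowers u huo hu huσ with
    ⟨M, hM, hMi, -⟩ | ⟨g, hg⟩
  · exact absurd hMi (hno M hM)
  · have h2 : (g * u * g⁻¹) * (g * u * g⁻¹) = 1 := by
      have : (g * u * g⁻¹) * (g * u * g⁻¹) = g * (u * u) * g⁻¹ := by group
      rw [this, huu]; group
    rcases h.sq_eq_one_cases hg h2 with e | e
    · exact absurd (conj_eq_one_iff.1 e) hu1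
    · rw [← e]
      exact (isConj_iff.2 ⟨g, rfl⟩ : IsConj u (g * u * g⁻¹)).symm

end DihS

theorem DihS.τ_not_mem {G : Type*} [Group G] {P : Subgroup G} {σ τ : G} {N : ℕ}
    (h : DihS P σ τ N) : τ ∉ Subgroup.zpowers σ := by
  intro hmem
  have h1 : τ * σ = σ * τ := DihS.comm_zpowers hmem (Subgroup.mem_zpowers σ)
  have rel := h.rel
  rw [h1, mul_inv_cancel_right] at rel
  apply h.σ_sq_ne
  nth_rewrite 1 [rel]; exact inv_mul_cancel σ

theorem DihS.στ_not_mem {G : Type*} [Group G] {P : Subgroup G} {σ τ : G} {N : ℕ}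
    (h : DihS P σ τ N) : σ * τ ∉ Subgroup.zpowers σ := by
  intro hmem
  apply h.τ_not_mem
  have := Subgroup.mul_mem _ (Subgroup.inv_mem _ (Subgroup.mem_zpowers σ)) hmem
  rwa [inv_mul_cancel_left] at this

theorem Loc.card_Iset_of_top {H : Type*} [Group H] [Fintype H] {T : Sylow 2 H} {σ τ : H} {N : ℕ}
    {W : Subgroup H} [NeZero N] (L : Loc T σ τ N W) (htop : ∀ x : H, x ∈ (T : Subgroup H)) :
    (Loc.Iset σ N).card = N := by
  classical
  have e : Loc.Iset σ N = Finset.univ.image (fun a : ZMod N => zmodPow N σ a * τ) := by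
    ext x
    simp only [Finset.mem_image, Finset.mem_univ, true_and]
    constructor
    · intro hx
      rw [Loc.mem_Iset] at hx
      have hxx : x * x = 1 := by
        have := pow_orderOf_eq_one x
        rwa [hx.1, sq] at this
      rcases L.dih.cases x (htop x) with h1 | ⟨c, hc, rfl⟩
      · exfalso
        rcases L.dih.sq_eq_one_cases h1 hxx with e | e
        · rw [e, orderOf_one] at hx; omega
        · exact hx.2 e
      · obtain ⟨a, rfl⟩ := exists_zmodPow L.dih.ord_σ hc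
        exact ⟨a, rfl⟩
    · rintro ⟨a, rfl⟩
      exact L.sτ_mem_Iset a
  rw [e, Finset.card_image_of_injective, Finset.card_univ, ZMod.card]
  intro a b hab
  exact zmodPow_injective N σ L.dih.ord_σ (mul_right_cancel hab)

/-- the arithmetic of the order formula for `D₈`. -/
theorem d8_arith (g x : ℕ) (δ : ℤ) (hδ : δ = 1 ∨ δ = -1) (hx : 1 ≤ x) (hg8 : 8 ∣ g) (hg16 : ¬ 16 ∣ g)
    (hxδ : (x : ℤ) ≠ δ) (h : (g : ℤ) * ((x : ℤ) - δ) ^ 2 = 256 * x * (x + δ)) :
    g = 168 ∨ g = 360 := by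
  obtain ⟨y, hy⟩ : ∃ y : ℕ, (y : ℤ) = (x : ℤ) - δ := by
    refine ⟨((x : ℤ) - δ).toNat, Int.toNat_of_nonneg ?_⟩
    rcases hδ with r | r <;> omega
  have hy0 : y ≠ 0 := by
    rintro rfl
    apply hxδ
    have : (x : ℤ) - δ = 0 := by rw [← hy]; rfl
    omega
  have hxy : (x : ℤ) = y + δ := by omega
  rw [← hy, hxy] at h
  have hδ2 : δ * δ = 1 := by rcases hδ with r | r <;> rw [r] <;> norm_num
  have hdvd : (y : ℤ) ∣ 512 := by
    refine ⟨(g : ℤ) * y - 256 * y - 768 * δ, ?_⟩
    linear_combination (-1 : ℤ) * h - 512 * hδ2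
  have hdvd' : y ∣ 2 ^ 9 := by
    have : (y : ℤ) ∣ ((2 ^ 9 : ℕ) : ℤ) := by norm_num; exact hdvd
    exact_mod_cast this
  obtain ⟨a, ha, rfl⟩ := (Nat.dvd_prime_pow Nat.prime_two).1 hdvd'
  interval_cases a <;> rcases hδ with r | r <;> subst r <;> norm_num at h <;> omega

end Cfsg.Agent.Lib.Helper75
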