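import Mathlib
import Cfsg.Agent.Lib.Helper75.D8Cent

/-! Groups with an involution whose centralizer is dihedral of order 8: normal subgroups. -/

set_option autoImplicit false
set_option linter.unusedSectionVars false

namespace Cfsg.Agent.Lib.Helper75

open Cfsg Cfsg.Agent.Lib.Helper55

/-- an involution acting without fixed points on a finite subgroup inverts it -/
theorem inverts_of_fpf {G : Type*} [Group G] (K : Subgroup G) [Finite K] (v : G) (hv : v * v = 1)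
    (hN : ∀ x ∈ K, v * x * v⁻¹ ∈ K) (hfix : ∀ x ∈ K, v * x * v⁻¹ = x → x = 1) :
    ∀ x ∈ K, v * x * v⁻¹ = x⁻¹ := by
  let f : K → K := fun n => ⟨(n : G)⁻¹ * (v * n * v⁻¹), K.mul_mem (K.inv_mem n.2) (hN n n.2)⟩
  have hinj : Function.Injective f := by
    intro m n hmn
    have h1 : (m : G)⁻¹ * (v * m * v⁻¹) = (n : G)⁻¹ * (v * n * v⁻¹) := congrArg Subtype.val hmn
    have h2 : v * ((n : G) * (m : G)⁻¹) * v⁻¹ = (n : G) * (m : G)⁻¹ := by
      have e1 : v * ((n : G) * (m : G)⁻¹) * v⁻¹ = (v * n * v⁻¹) * (v * m * v⁻¹)⁻¹ := by group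
      have h3 : v * m * v⁻¹ = (m : G) * ((n : G)⁻¹ * (v * n * v⁻¹)) := by rw [← h1]; group
      rw [e1, h3]; group
    have h4 := hfix _ (K.mul_mem n.2 (K.inv_mem m.2)) h2
    exact Subtype.ext (mul_inv_eq_one.1 h4).symm
  have hsurj := Finite.surjective_of_injective hinj
  intro x hx
  obtain ⟨n, hn⟩ := hsurj ⟨x, hx⟩
  have hx' : x = (n : G)⁻¹ * (v * n * v⁻¹) := (congrArg Subtype.val hn).symm
  have hvinv : v⁻¹ = v := inv_eq_of_mul_eq_one_left hv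
  have e1 : v * ((n : G)⁻¹ * (v * n * v⁻¹)) * v⁻¹ = v * (n : G)⁻¹ * v * n * (v * v)⁻¹ := by group
  have e2 : ((n : G)⁻¹ * (v * n * v⁻¹))⁻¹ = v * (n : G)⁻¹ * v⁻¹ * n := by group
  rw [hx', e1, e2, hv, inv_one, mul_one, hvinv]

namespace D8C

variable {G : Type*} [Group G] [Finite G] {T : Sylow 2 G} {σ τ : G}

theorem mem_T_iff (H : D8C T σ τ) {x : G} :
    x ∈ (T : Subgroup G) ↔ σ ^ (4 / 2) * x = x * σ ^ (4 / 2) := by
  rw [H.cen, Subgroup.mem_centralizer_singleton_iff, eq_comm]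

theorem στσ (H : D8C T σ τ) : σ * τ * σ⁻¹ = σ ^ (4 / 2) * τ := by
  have rel := H.dih.rel
  have h1 : τ * σ⁻¹ = σ * τ := by
    have h2 : τ * σ⁻¹ * τ⁻¹ = σ := by
      have : τ * σ⁻¹ * τ⁻¹ = (τ * σ * τ⁻¹)⁻¹ := by group
      rw [this, rel, inv_inv]
    exact mul_inv_eq_iff_eq_mul.1 h2
  have h4 : (4 / 2 : ℕ) = 2 := by norm_num
  rw [mul_assoc, h1, h4, sq, mul_assoc]

theorem isConj_Jτ (H : D8C T σ τ) : IsConj τ (σ ^ (4 / 2) * τ) :=
  isConj_iff.2 ⟨σ, H.στσ⟩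

theorem eq_one_of_mem_of_odd (H : D8C T σ τ) {K : Subgroup G} (hodd : Odd (Nat.card K)) {y : G}
    (hyK : y ∈ K) (hyT : y ∈ (T : Subgroup G)) : y = 1 := by
  have h1 : orderOf y ∣ Nat.card K := by
    have := orderOf_dvd_natCard (⟨y, hyK⟩ : K)
    rwa [Subgroup.orderOf_mk] at this
  have h2 : orderOf y ∣ 8 := by
    have := orderOf_dvd_natCard (⟨y, hyT⟩ : (T : Subgroup G))
    rwa [Subgroup.orderOf_mk, H.card_T] at this
  have h3 : Nat.Coprime (Nat.card K) 8 := by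
    have : Nat.Coprime (Nat.card K) 2 := Nat.coprime_two_right.2 hodd
    exact Nat.Coprime.pow_right 3 this
  rw [← orderOf_eq_one_iff]
  exact Nat.dvd_one.1 (h3.gcd_eq_one ▸ Nat.dvd_gcd h1 h2)

theorem fpf (H : D8C T σ τ) {K : Subgroup G} (hK : K.Normal) (hodd : Odd (Nat.card K)) {v : G}
    (hv : IsConj (σ ^ (4 / 2)) v) : ∀ x ∈ K, v * x * v⁻¹ = x → x = 1 := by
  intro x hx hfix
  obtain ⟨g, rfl⟩ := isConj_iff.1 hv
  have hy : g⁻¹ * x * g ∈ K := by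
    have := hK.conj_mem x hx g⁻¹
    rwa [inv_inv] at this
  have hyT : g⁻¹ * x * g ∈ (T : Subgroup G) := by
    rw [H.mem_T_iff]
    have e1 : g * σ ^ (4 / 2) * g⁻¹ * x = x * (g * σ ^ (4 / 2) * g⁻¹) :=
      mul_inv_eq_iff_eq_mul.1 hfix
    calc σ ^ (4 / 2) * (g⁻¹ * x * g) = g⁻¹ * (g * σ ^ (4 / 2) * g⁻¹ * x) * g := by group
      _ = g⁻¹ * (x * (g * σ ^ (4 / 2) * g⁻¹)) * g := by rw [e1]
      _ = g⁻¹ * x * g * σ ^ (4 / 2) := by group
  have h1 := H.eq_one_of_mem_of_odd hodd hy hyT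
  have : x = g * (g⁻¹ * x * g) * g⁻¹ := by group
  rw [this, h1]; group

/-- if `τ` is conjugate to the central involution there is no nontrivial normal subgroup of odd
order -/
theorem normal_odd (H : D8C T σ τ) (c1 : IsConj (σ ^ (4 / 2)) τ) {K : Subgroup G} (hK : K.Normal)
    (hodd : Odd (Nat.card K)) : K = ⊥ := by
  have hN : ∀ v : G, ∀ x ∈ K, v * x * v⁻¹ ∈ K := fun v x hx => hK.conj_mem x hx v
  have i1 := inverts_of_fpf K _ H.dih.J_sq (hN _) (H.fpf hK hodd (IsConj.refl _))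
  have i2 := inverts_of_fpf K _ H.dih.τ_sq (hN _) (H.fpf hK hodd c1)
  have f3 := H.fpf hK hodd (c1.trans H.isConj_Jτ)
  rw [eq_bot_iff]
  intro x hx
  rw [Subgroup.mem_bot]
  apply f3 x hx
  have e1 : σ ^ (4 / 2) * τ * x * (σ ^ (4 / 2) * τ)⁻¹
      = σ ^ (4 / 2) * (τ * x * τ⁻¹) * (σ ^ (4 / 2))⁻¹ := by group
  rw [e1, i2 x hx, i1 _ (K.inv_mem hx), inv_inv]

/-- a normal subgroup meeting `T` nontrivially contains the central involution -/
theorem J_mem_of_mem (H : D8C T σ τ) {K : Subgroup G} (hK : K.Normal) {x : G} (hxK : x ∈ K)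
    (hxT : x ∈ (T : Subgroup G)) (hx1 : x ≠ 1) : σ ^ (4 / 2) ∈ K := by
  rcases H.dih.cases x hxT with h1 | ⟨c, hc, rfl⟩
  · by_cases h2 : x * x = 1
    · rcases H.dih.sq_eq_one_cases h1 h2 with h3 | h3
      · exact absurd h3 hx1
      · rwa [← h3]
    · have h4 : (x * x) * (x * x) = 1 := by
        have := orderOf_dvd_natCard (⟨x, h1⟩ : Subgroup.zpowers σ)
        rw [Subgroup.orderOf_mk, Nat.card_zpowers, H.dih.ord_σ] at this
        have h5 := orderOf_dvd_iff_pow_eq_one.1 this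
        rw [← h5]; simp only [pow_succ, pow_zero, one_mul, mul_assoc]
      rcases H.dih.sq_eq_one_cases (Subgroup.mul_mem _ h1 h1) h4 with h3 | h3
      · exact absurd h3 h2
      · rw [← h3]; exact K.mul_mem hxK hxK
  · have h1 : σ * (c * τ) * σ⁻¹ * (c * τ)⁻¹ ∈ K :=
      K.mul_mem (hK.conj_mem _ hxK σ) (K.inv_mem hxK)
    have h2 : σ * (c * τ) * σ⁻¹ * (c * τ)⁻¹ = σ ^ (4 / 2) := by
      have e1 : σ * (c * τ) * σ⁻¹ * (c * τ)⁻¹ = c * (σ * τ * σ⁻¹ * τ⁻¹) * c⁻¹ := by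
        have hcomm : σ * c = c * σ := DihS.comm_zpowers (Subgroup.mem_zpowers σ) hc
        have : σ * (c * τ) * σ⁻¹ * (c * τ)⁻¹ = (σ * c) * τ * σ⁻¹ * τ⁻¹ * c⁻¹ := by group
        rw [this, hcomm]; group
      rw [e1, H.στσ, mul_inv_cancel_right, DihS.comm_zpowers hc DihS.J_mem, mul_inv_cancel_right]
    rwa [h2] at h1

/-- a normal subgroup not containing the central involution is trivial -/
theorem normal_of_not_mem (H : D8C T σ τ) (c1 : IsConj (σ ^ (4 / 2)) τ) {K : Subgroup G}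
    (hK : K.Normal) (hJ : σ ^ (4 / 2) ∉ K) : K = ⊥ := by
  apply H.normal_odd c1 hK
  rw [← Nat.not_even_iff_odd]
  intro hev
  obtain ⟨u, hu⟩ := exists_prime_orderOf_dvd_card' (G := K) 2 hev.two_dvd
  have hpg : IsPGroup 2 (Subgroup.zpowers (u : G)) := by
    apply IsPGroup.of_card (n := 1)
    rw [Nat.card_zpowers, Subgroup.orderOf_coe, hu, pow_one]
  obtain ⟨g, hg⟩ := exists_conj_mem_sylow T _ hpg
  apply hJ
  apply H.J_mem_of_mem hK (hK.conj_mem _ u.2 g) (hg _ (Subgroup.mem_zpowers _))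
  intro h1
  have h2 : (u : G) = 1 := conj_eq_one_iff.1 h1
  rw [← Subgroup.orderOf_coe, h2, orderOf_one] at hu
  omega

theorem normalizer_le (H : D8C T σ τ) : Subgroup.normalizer ((T : Subgroup G) : Set G) ≤ T := by
  intro g hg
  have hJT : σ ^ (4 / 2) ∈ (T : Subgroup G) := Subgroup.pow_mem _ H.dih.σ_mem _
  have h1 : g * σ ^ (4 / 2) * g⁻¹ ∈ (T : Subgroup G) := (Subgroup.mem_set_normalizer_iff.1 hg _).1 hJT
  have hσ' : g⁻¹ * σ * g ∈ (T : Subgroup G) := by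
    have hg' := Subgroup.inv_mem _ hg
    have := (Subgroup.mem_set_normalizer_iff.1 hg' σ).1 H.dih.σ_mem
    rwa [inv_inv] at this
  -- the conjugate commutes with σ
  have hc : g * σ ^ (4 / 2) * g⁻¹ * σ = σ * (g * σ ^ (4 / 2) * g⁻¹) := by
    have := H.dih.J_central hσ'
    calc g * σ ^ (4 / 2) * g⁻¹ * σ = g * (σ ^ (4 / 2) * (g⁻¹ * σ * g)) * g⁻¹ := by group
      _ = g * ((g⁻¹ * σ * g) * σ ^ (4 / 2)) * g⁻¹ := by rw [this]
      _ = σ * (g * σ ^ (4 / 2) * g⁻¹) := by group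
  have h2 := H.dih.mem_zpowers_of_comm h1 (Subgroup.mem_zpowers σ) H.dih.σ_sq_ne hc
  have h3 : (g * σ ^ (4 / 2) * g⁻¹) * (g * σ ^ (4 / 2) * g⁻¹) = 1 := by
    have : (g * σ ^ (4 / 2) * g⁻¹) * (g * σ ^ (4 / 2) * g⁻¹)
        = g * (σ ^ (4 / 2) * σ ^ (4 / 2)) * g⁻¹ := by group
    rw [this, H.dih.J_sq]; group
  rcases H.dih.sq_eq_one_cases h2 h3 with h4 | h4
  · exact absurd (conj_eq_one_iff.1 h4) H.dih.J_ne_one
  · rw [H.mem_T_iff]
    exact (mul_inv_eq_iff_eq_mul.1 h4).symm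

theorem le_of_mem (H : D8C T σ τ) {K : Subgroup G} (h1 : τ ∈ K) (h2 : σ * τ ∈ K) :
    (T : Subgroup G) ≤ K := by
  have hσ : σ ∈ K := by
    have := K.mul_mem h2 (K.inv_mem h1)
    rwa [mul_inv_cancel_right] at this
  have hz : Subgroup.zpowers σ ≤ K := by rwa [Subgroup.zpowers_le]
  intro x hx
  rcases H.dih.cases x hx with h3 | ⟨c, hc, rfl⟩
  · exact hz h3
  · exact K.mul_mem (hz hc) h1

theorem eq_top_of_le (H : D8C T σ τ) {K : Subgroup G} (hK : K.Normal) (hle : (T : Subgroup G) ≤ K) :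
    K = ⊤ := by
  have h1 := T.normalizer_sup_eq_top' hle
  rw [← h1]
  exact (sup_eq_right.2 (H.normalizer_le.trans hle)).symm

theorem mem_of_isConj {K : Subgroup G} (hK : K.Normal) {x y : G} (hx : x ∈ K) (h : IsConj x y) :
    y ∈ K := by
  obtain ⟨g, rfl⟩ := isConj_iff.1 h
  exact hK.conj_mem x hx g

theorem isSimpleGroup (H : D8C T σ τ) (c1 : IsConj (σ ^ (4 / 2)) τ)
    (c2 : IsConj (σ ^ (4 / 2)) (σ * τ)) : IsSimpleGroup G := by
  have hnt : Nontrivial G := ⟨⟨σ ^ (4 / 2), 1, H.dih.J_ne_one⟩⟩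
  refine ⟨fun K hK => ?_⟩
  by_cases hJ : σ ^ (4 / 2) ∈ K
  · right
    exact H.eq_top_of_le hK (H.le_of_mem (mem_of_isConj hK hJ c1) (mem_of_isConj hK hJ c2))
  · left
    exact H.normal_of_not_mem c1 hK hJ

end D8C

end Cfsg.Agent.Lib.Helper75
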