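import Mathlib
import Cfsg.Agent.Lib.Helper75.InvSum
import Cfsg.Agent.Lib.Helper75.D8Cent2

/-!
# The Brauer-Suzuki-Wall configuration: elementary group theory (helper75)
-/

set_option autoImplicit false

namespace Cfsg.Agent.Lib.Helper75

open Cfsg

/-- The Brauer-Suzuki-Wall configuration, elementwise. -/
structure BSW {G : Type*} [Group G] (t s : G) (K : Subgroup G) : Prop where
  ht : orderOf t = 2
  comm : ∀ x ∈ K, ∀ y ∈ K, x * y = y * x
  cen : ∀ x ∈ K, x * t = t * x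
  htK : t ∈ K
  hs : orderOf s = 2
  hst : s * t = t * s
  hsK : s ∉ K
  hH : ∀ g, g * t = t * g → g ∈ K ∨ g * s ∈ K
  hCK : ∀ x ∈ K, x * s = s * x → x = 1 ∨ x = t
  hinv : ∀ x ∈ K, s * x * s⁻¹ = x⁻¹
  hTI : ∀ g x, x ∈ K → g * x * g⁻¹ ∈ K → x ≠ 1 → g * t = t * g
  conj : ∀ x y : G, orderOf x = 2 → orderOf y = 2 → IsConj x y

theorem mul_self_of_orderOf_two {G : Type*} [Group G] {a : G} (h : orderOf a = 2) : a * a = 1 := by
  have := pow_orderOf_eq_one a
  rwa [h, sq] at this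

theorem inv_of_orderOf_two {G : Type*} [Group G] {a : G} (h : orderOf a = 2) : a⁻¹ = a :=
  inv_eq_of_mul_eq_one_left (mul_self_of_orderOf_two h)

theorem ne_one_of_orderOf_two {G : Type*} [Group G] {a : G} (h : orderOf a = 2) : a ≠ 1 := by
  rintro rfl
  rw [orderOf_one] at h
  omega

theorem orderOf_two_of {G : Type*} [Group G] {a : G} (h : a * a = 1) (h1 : a ≠ 1) :
    orderOf a = 2 :=
  orderOf_eq_prime (by rw [sq]; exact h) h1

namespace BSW

variable {G : Type*} [Group G] {t s : G} {K : Subgroup G}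

theorem tt (h : BSW t s K) : t * t = 1 := mul_self_of_orderOf_two h.ht
theorem ss (h : BSW t s K) : s * s = 1 := mul_self_of_orderOf_two h.hs
theorem t_ne (h : BSW t s K) : t ≠ 1 := ne_one_of_orderOf_two h.ht

/-- elements of `C(t)` outside `K` invert `K`. -/
theorem inverts (h : BSW t s K) {g : G} (hg : g * t = t * g) (hgK : g ∉ K) :
    ∀ x ∈ K, g * x * g⁻¹ = x⁻¹ := by
  intro x hx
  rcases h.hH g hg with h1 | h1
  · exact absurd h1 hgK
  · have e : g = (g * s) * s⁻¹ := by group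
    have h2 : g * x * g⁻¹ = (g * s) * (s * x * s⁻¹) * (g * s)⁻¹ := by
      have hs' : s⁻¹ = s := inv_of_orderOf_two h.hs
      have : (g * s) * (s * x * s⁻¹) * (g * s)⁻¹ = g * (s * s) * x * (s⁻¹ * s⁻¹) * g⁻¹ := by group
      rw [this, hs', h.ss]; group
    rw [h2, h.hinv x hx, h.comm _ h1 _ (K.inv_mem hx)]
    group

/-- elements of `C(t)` outside `K` are involutions. -/
theorem invol_of_not_mem (h : BSW t s K) {g : G} (hg : g * t = t * g) (hgK : g ∉ K) :
    orderOf g = 2 := by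
  have h1 : g * s ∈ K := (h.hH g hg).resolve_left hgK
  have h2 := h.hinv _ h1
  have hs' : s⁻¹ = s := inv_of_orderOf_two h.hs
  apply orderOf_two_of
  · have h3 : s * (g * s) * s⁻¹ = s * g := by
      rw [hs']
      calc s * (g * s) * s = s * g * (s * s) := by group
        _ = s * g := by rw [h.ss, mul_one]
    rw [h3] at h2
    -- s * g = (g*s)⁻¹ = s⁻¹ g⁻¹
    have h4 : s * g = s * g⁻¹ := by rw [h2, mul_inv_rev, hs']
    have h5 : g = g⁻¹ := mul_left_cancel h4
    calc g * g = g * g⁻¹ := by rw [← h5]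
      _ = 1 := mul_inv_cancel g
  · rintro rfl
    exact hgK K.one_mem

theorem invol_K (h : BSW t s K) {x : G} (hx : x ∈ K) (h2 : x * x = 1) : x = 1 ∨ x = t := by
  apply h.hCK x hx
  have h1 := h.hinv x hx
  have h3 : x⁻¹ = x := inv_eq_of_mul_eq_one_left h2
  rw [h3] at h1
  have := congrArg (· * s) h1
  simpa using this.symm

theorem cen_le (h : BSW t s K) {x g : G} (hx : x ∈ K) (h1 : x ≠ 1) (hg : g * x = x * g) :
    g * t = t * g := by
  apply h.hTI g x hx _ h1
  rw [hg, mul_inv_cancel_right]; exact hx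

theorem cen_eq (h : BSW t s K) {x g : G} (hx : x ∈ K) (h2 : x * x ≠ 1) (hg : g * x = x * g) :
    g ∈ K := by
  have h1 : x ≠ 1 := by rintro rfl; simp at h2
  by_contra hgK
  have h3 := h.inverts (h.cen_le hx h1 hg) hgK x hx
  rw [hg, mul_inv_cancel_right] at h3
  apply h2
  calc x * x = x * x⁻¹ := by rw [← h3]
    _ = 1 := mul_inv_cancel x

theorem conj_mem (h : BSW t s K) {x g : G} (hx : x ∈ K) (h1 : x ≠ 1) (hg : g * x * g⁻¹ ∈ K) :
    g * x * g⁻¹ = x ∨ g * x * g⁻¹ = x⁻¹ := by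
  have h2 := h.hTI g x hx hg h1
  by_cases hgK : g ∈ K
  · left
    rw [h.comm g hgK x hx, mul_inv_cancel_right]
  · right
    exact h.inverts h2 hgK x hx

/-- `K`-type elements: nonidentity elements conjugate into `K`. -/
def KT (K : Subgroup G) (g : G) : Prop := g ≠ 1 ∧ ∃ c : G, c * g * c⁻¹ ∈ K

theorem KT_conj {g : G} (c : G) : KT K (c * g * c⁻¹) ↔ KT K g := by
  constructor
  · rintro ⟨h1, d, hd⟩
    refine ⟨?_, d * c, ?_⟩
    · rintro rfl
      simp at h1
    · have : d * c * g * (d * c)⁻¹ = d * (c * g * c⁻¹) * d⁻¹ := by group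
      rw [this]; exact hd
  · rintro ⟨h1, d, hd⟩
    refine ⟨?_, d * c⁻¹, ?_⟩
    · intro h2
      apply h1
      have := congrArg (fun y => c⁻¹ * y * c) h2
      simpa [mul_assoc] using this
    · have : d * c⁻¹ * (c * g * c⁻¹) * (d * c⁻¹)⁻¹ = d * g * d⁻¹ := by group
      rw [this]; exact hd

theorem KT_invol (h : BSW t s K) {g : G} (hg : orderOf g = 2) : KT K g := by
  refine ⟨ne_one_of_orderOf_two hg, ?_⟩
  obtain ⟨c, hc⟩ := isConj_iff.1 (h.conj g t hg h.ht)
  exact ⟨c, by rw [hc]; exact h.htK⟩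

theorem KT_of_cen (h : BSW t s K) {g : G} (hg : g * t = t * g) (h1 : g ≠ 1) : KT K g := by
  by_cases hgK : g ∈ K
  · exact ⟨h1, 1, by simpa using hgK⟩
  · exact h.KT_invol (h.invol_of_not_mem hg hgK)

theorem KT_comm (h : BSW t s K) {z g : G} (hz : KT K z) (hg : g * z = z * g) (h1 : g ≠ 1) :
    KT K g := by
  obtain ⟨hz1, c, hc⟩ := hz
  rw [← KT_conj c]
  apply h.KT_of_cen
  · apply h.cen_le hc
    · intro h2
      apply hz1
      have := congrArg (fun y => c⁻¹ * y * c) h2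
      simpa [mul_assoc] using this
    · calc c * g * c⁻¹ * (c * z * c⁻¹) = c * (g * z) * c⁻¹ := by group
        _ = c * (z * g) * c⁻¹ := by rw [hg]
        _ = _ := by group
  · intro h2
    apply h1
    have := congrArg (fun y => c⁻¹ * y * c) h2
    simpa [mul_assoc] using this

/-- a power of an element which is of `K`-type forces `K`-type. -/
theorem KT_of_pow (h : BSW t s K) {g : G} {k : ℕ} (hk : KT K (g ^ k)) : KT K g := by
  apply h.KT_comm hk
  · exact (Commute.pow_right (Commute.refl g) k).eq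
  · rintro rfl
    exact hk.1 (one_pow k)

theorem KT_pow_of {g : G} {k : ℕ} (hg : KT K g) (hk : g ^ k ≠ 1) : KT K (g ^ k) := by
  obtain ⟨_, c, hc⟩ := hg
  refine ⟨hk, c, ?_⟩
  rw [← conj_pow]
  exact K.pow_mem hc k

end BSW

end Cfsg.Agent.Lib.Helper75
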