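import Mathlib
import Cfsg.Agent.Lib.Helper75.BSW1

/-!
# The Brauer-Suzuki-Wall configuration: counting lemmas (helper75)
-/

set_option autoImplicit false

namespace Cfsg.Agent.Lib.Helper75

open Cfsg Cfsg.Agent.Lib.Helper55

variable {G : Type*} [Group G] [Fintype G]

open Classical in
/-- number of elements conjugating `g` into `T`. -/
noncomputable def iot (T : Finset G) (g : G) : ℕ :=
  (Finset.univ.filter fun c : G => c * g * c⁻¹ ∈ T).card

open Classical in
theorem sum_iot {R : Type*} [CommSemiring R] (T : Finset G) (F : G → R)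
    (hF : ∀ g c, F (c * g * c⁻¹) = F g) :
    ∑ g, (iot T g : R) * F g = (Fintype.card G : R) * ∑ y ∈ T, F y := by
  have h1 : ∀ g, (iot T g : R) * F g = ∑ c : G, if c * g * c⁻¹ ∈ T then F g else 0 := by
    intro g
    rw [← Finset.sum_filter, Finset.sum_const, nsmul_eq_mul]
    rfl
  simp only [h1]
  rw [Finset.sum_comm]
  have h2 : ∀ c : G, (∑ g : G, if c * g * c⁻¹ ∈ T then F g else 0) = ∑ y ∈ T, F y := by
    intro c
    rw [← Finset.sum_filter]
    apply Finset.sum_bij (fun g _ => c * g * c⁻¹)
    · intro g hg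
      simpa using hg
    · intro a _ b _ hab
      exact mul_left_cancel (mul_right_cancel hab)
    · intro y hy
      refine ⟨c⁻¹ * y * c, ?_, by group⟩
      simp only [Finset.mem_filter, Finset.mem_univ, true_and]
      have : c * (c⁻¹ * y * c) * c⁻¹ = y := by group
      rw [this]; exact hy
    · intro g _
      exact (hF g c).symm
  rw [Finset.sum_congr rfl fun c _ => h2 c, Finset.sum_const, nsmul_eq_mul, Finset.card_univ]

open Classical in
theorem iot_le (T : Finset G) (N : Subgroup G) (hN : ∀ y ∈ T, ∀ e : G, e * y * e⁻¹ ∈ T → e ∈ N)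
    (g : G) : iot T g ≤ Nat.card N := by
  by_cases hne : ∃ c₀ : G, c₀ * g * c₀⁻¹ ∈ T
  · obtain ⟨c₀, hc₀⟩ := hne
    rw [Nat.card_eq_fintype_card]
    unfold iot
    rw [← Fintype.card_coe]
    apply Fintype.card_le_of_injective
      (fun c : {c // c ∈ Finset.univ.filter fun c : G => c * g * c⁻¹ ∈ T} =>
        (⟨c.1 * c₀⁻¹, by
          apply hN _ hc₀
          have : c.1 * c₀⁻¹ * (c₀ * g * c₀⁻¹) * (c.1 * c₀⁻¹)⁻¹ = c.1 * g * c.1⁻¹ := by group
          rw [this]
          exact (Finset.mem_filter.1 c.2).2⟩ : N))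
    intro a b hab
    have := congrArg Subtype.val hab
    exact Subtype.ext (mul_right_cancel this)
  · have : iot T g = 0 := by
      unfold iot
      rw [Finset.card_eq_zero, Finset.filter_eq_empty_iff]
      intro c _ hc
      exact hne ⟨c, hc⟩
    rw [this]; exact Nat.zero_le _

theorem iot_eq_zero (T : Finset G) (g : G) (hne : ¬ ∃ c₀ : G, c₀ * g * c₀⁻¹ ∈ T) :
    iot T g = 0 := by
  classical
  unfold iot
  rw [Finset.card_eq_zero, Finset.filter_eq_empty_iff]
  intro c _ hc
  exact hne ⟨c, hc⟩

open Classical in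
theorem iot_eq (T : Finset G) (N : Subgroup G) (hN : ∀ y ∈ T, ∀ e : G, e * y * e⁻¹ ∈ T → e ∈ N)
    (hN' : ∀ e ∈ N, ∀ y ∈ T, e * y * e⁻¹ ∈ T)
    (g : G) (hne : ∃ c₀ : G, c₀ * g * c₀⁻¹ ∈ T) : iot T g = Nat.card N := by
  apply le_antisymm (iot_le T N hN g)
  obtain ⟨c₀, hc₀⟩ := hne
  rw [Nat.card_eq_fintype_card]
  unfold iot
  rw [← Fintype.card_coe]
  apply Fintype.card_le_of_injective
    (fun e : N => (⟨e.1 * c₀, by
      simp only [Finset.mem_filter, Finset.mem_univ, true_and]
      have : e.1 * c₀ * g * (e.1 * c₀)⁻¹ = e.1 * (c₀ * g * c₀⁻¹) * e.1⁻¹ := by group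
      rw [this]
      exact hN' e.1 e.2 _ hc₀⟩ : {c // c ∈ Finset.univ.filter fun c : G => c * g * c⁻¹ ∈ T}))
  intro a b hab
  have := congrArg Subtype.val hab
  exact Subtype.ext (mul_right_cancel this)

open Classical in
/-- number of ways of writing `g` as a product of two involutions. -/
noncomputable def bet (g : G) : ℕ := ((Inv G).filter fun a => a * g ∈ Inv G).card

open Classical in
theorem sum_pairs {R : Type*} [CommSemiring R] (F : G → R) :
    ∑ a ∈ Inv G, ∑ b ∈ Inv G, F (a * b) = ∑ g, (bet g : R) * F g := by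
  have h1 : ∀ g, (bet g : R) * F g = ∑ a ∈ Inv G, if a * g ∈ Inv G then F g else 0 := by
    intro g
    rw [← Finset.sum_filter, Finset.sum_const, nsmul_eq_mul]
    rfl
  simp only [h1]
  conv_rhs => rw [Finset.sum_comm]
  refine Finset.sum_congr rfl fun a ha => ?_
  rw [← Finset.sum_filter]
  have haa : a * a = 1 := mul_self_of_orderOf_two (mem_Inv.1 ha)
  apply Finset.sum_bij (fun b _ => a * b)
  · intro b hb
    simp only [Finset.mem_filter, Finset.mem_univ, true_and]
    rw [← mul_assoc, haa, one_mul]; exact hb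
  · intro b _ b' _ hbb
    exact mul_left_cancel hbb
  · intro g hg
    simp only [Finset.mem_filter, Finset.mem_univ, true_and] at hg
    exact ⟨a * g, hg, by rw [← mul_assoc, haa, one_mul]⟩
  · intro b _; rfl

theorem bet_conj (g c : G) : bet (c * g * c⁻¹) = bet g := by
  classical
  unfold bet
  apply Finset.card_bij (fun a _ => c⁻¹ * a * c)
  · intro a ha
    simp only [Finset.mem_filter, mem_Inv] at ha ⊢
    constructor
    · have := orderOf_conj_eq c⁻¹ a
      rw [inv_inv] at this
      rw [this]; exact ha.1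
    · have e : c⁻¹ * a * c * g = c⁻¹ * (a * (c * g * c⁻¹)) * c := by group
      have := orderOf_conj_eq c⁻¹ (a * (c * g * c⁻¹))
      rw [inv_inv] at this
      rw [e, this]; exact ha.2
  · intro a _ b _ hab
    exact mul_left_cancel (mul_right_cancel hab)
  · intro b hb
    simp only [Finset.mem_filter, mem_Inv] at hb
    refine ⟨c * b * c⁻¹, ?_, by group⟩
    simp only [Finset.mem_filter, mem_Inv]
    constructor
    · rw [orderOf_conj_eq]; exact hb.1
    · have e : c * b * c⁻¹ * (c * g * c⁻¹) = c * (b * g) * c⁻¹ := by group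
      rw [e, orderOf_conj_eq]; exact hb.2

theorem bet_one : bet (1 : G) = (Inv G).card := by
  classical
  unfold bet
  congr 1
  apply Finset.filter_true_of_mem
  intro a ha
  simpa using ha

omit [Fintype G] in
/-- an involution `a` with `a * g` an involution inverts `g`. -/
theorem inverts_of_mem_bet {a g : G} (ha : orderOf a = 2) (hag : orderOf (a * g) = 2) :
    a * g * a⁻¹ = g⁻¹ := by
  have h1 := mul_self_of_orderOf_two hag
  have h2 : a⁻¹ = a := inv_of_orderOf_two ha
  rw [h2]
  apply eq_inv_of_mul_eq_one_left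
  rw [← h1]; group

theorem bet_pos_iff {g : G} (hg : g * g ≠ 1) :
    0 < bet g ↔ ∃ a : G, orderOf a = 2 ∧ a * g * a⁻¹ = g⁻¹ := by
  classical
  unfold bet
  rw [Finset.card_pos]
  constructor
  · rintro ⟨a, ha⟩
    simp only [Finset.mem_filter, mem_Inv] at ha
    exact ⟨a, ha.1, inverts_of_mem_bet ha.1 ha.2⟩
  · rintro ⟨a, ha, hag⟩
    refine ⟨a, ?_⟩
    simp only [Finset.mem_filter, mem_Inv]
    refine ⟨ha, orderOf_two_of ?_ ?_⟩
    · have h2 : a⁻¹ = a := inv_of_orderOf_two ha
      rw [h2] at hag
      calc a * g * (a * g) = (a * g * a) * g := by group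
        _ = 1 := by rw [hag]; group
    · intro h1
      apply hg
      have h3 : g = a⁻¹ := eq_inv_of_mul_eq_one_right h1
      rw [h3, inv_of_orderOf_two ha]
      exact mul_self_of_orderOf_two ha

namespace BSW

variable {t s : G} {K : Subgroup G}

open Classical in
/-- the nonidentity elements of `K`. -/
noncomputable def Ks (K : Subgroup G) : Finset G := Finset.univ.filter fun x => x ∈ K ∧ x ≠ 1

theorem mem_Ks {x : G} : x ∈ Ks K ↔ x ∈ K ∧ x ≠ 1 := by
  classical
  simp [Ks]

open Classical in
/-- the elements of `C(t)` outside `K`. -/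
noncomputable def HK (t : G) (K : Subgroup G) : Finset G :=
  Finset.univ.filter fun g => g * t = t * g ∧ g ∉ K

theorem mem_HK {x : G} : x ∈ HK t K ↔ x * t = t * x ∧ x ∉ K := by
  classical
  simp [HK]

theorem card_Ks : (Ks K).card + 1 = Nat.card K := by
  classical
  have h1 : Nat.card K = (Finset.univ.filter fun x : G => x ∈ K).card := by
    rw [Nat.card_eq_fintype_card, Fintype.card_subtype]
  rw [h1]
  have h2 : (Finset.univ.filter fun x : G => x ∈ K) = insert 1 (Ks K) := by
    ext x
    simp only [Finset.mem_filter, Finset.mem_univ, true_and, Finset.mem_insert, mem_Ks]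
    constructor
    · intro hx
      by_cases h : x = 1
      · exact Or.inl h
      · exact Or.inr ⟨hx, h⟩
    · rintro (rfl | h)
      · exact K.one_mem
      · exact h.1
  rw [h2, Finset.card_insert_of_notMem]
  simp [mem_Ks]

theorem card_HK (h : BSW t s K) : (HK t K).card = Nat.card K := by
  classical
  have h1 : Nat.card K = (Finset.univ.filter fun x : G => x ∈ K).card := by
    rw [Nat.card_eq_fintype_card, Fintype.card_subtype]
  rw [h1]
  apply Finset.card_bij (fun g _ => g * s)
  · intro g hg
    rw [mem_HK] at hg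
    simpa using (h.hH g hg.1).resolve_left hg.2
  · intro a _ b _ hab
    exact mul_right_cancel hab
  · intro k hk
    simp only [Finset.mem_filter, Finset.mem_univ, true_and] at hk
    refine ⟨k * s⁻¹, ?_, by group⟩
    rw [mem_HK]
    constructor
    · have hs' : s⁻¹ = s := inv_of_orderOf_two h.hs
      rw [hs', mul_assoc, h.hst, ← mul_assoc, h.cen k hk, mul_assoc]
    · intro h2
      apply h.hsK
      have := K.mul_mem (K.inv_mem h2) hk
      have e2 : (k * s⁻¹)⁻¹ * k = s * (k⁻¹ * k) := by group
      rw [e2, inv_mul_cancel, mul_one] at this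
      exact this

theorem card_cen (h : BSW t s K) : Nat.card (Subgroup.centralizer ({t} : Set G)) = 2 * Nat.card K := by
  classical
  have h1 : Nat.card (Subgroup.centralizer ({t} : Set G))
      = (Finset.univ.filter fun x : G => x * t = t * x).card := by
    rw [Nat.card_eq_fintype_card, Fintype.card_subtype]
    congr 1
    ext x
    simp only [Finset.mem_filter, Finset.mem_univ, true_and, Subgroup.mem_centralizer_iff,
      Set.mem_singleton_iff, forall_eq]
    exact eq_comm
  have h2 : (Finset.univ.filter fun x : G => x * t = t * x)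
      = (Finset.univ.filter fun x : G => x ∈ K) ∪ HK t K := by
    ext x
    simp only [Finset.mem_filter, Finset.mem_univ, true_and, Finset.mem_union, mem_HK]
    constructor
    · intro hx
      by_cases hK : x ∈ K
      · exact Or.inl hK
      · exact Or.inr ⟨hx, hK⟩
    · rintro (hx | hx)
      · exact h.cen x hx
      · exact hx.1
  have h3 : Disjoint (Finset.univ.filter fun x : G => x ∈ K) (HK t K) := by
    rw [Finset.disjoint_left]
    intro x hx hx'
    rw [mem_HK] at hx'
    simp only [Finset.mem_filter, Finset.mem_univ, true_and] at hx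
    exact hx'.2 hx
  have h4 : Nat.card K = (Finset.univ.filter fun x : G => x ∈ K).card := by
    rw [Nat.card_eq_fintype_card, Fintype.card_subtype]
  rw [h1, h2, Finset.card_union_of_disjoint h3, h.card_HK, ← h4]
  ring

/-- a nonidentity element of `K` is a product of two involutions in exactly `|K|` ways. -/
theorem bet_K (h : BSW t s K) {x : G} (hx : x ∈ K) (h1 : x ≠ 1) : bet x = Nat.card K := by
  classical
  rw [← h.card_HK]
  unfold bet
  congr 1
  ext a
  simp only [Finset.mem_filter, mem_Inv, mem_HK]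
  constructor
  · rintro ⟨ha, hax⟩
    have h2 := inverts_of_mem_bet ha hax
    have h3 : a * t = t * a := h.hTI a x hx (by rw [h2]; exact K.inv_mem hx) h1
    refine ⟨h3, ?_⟩
    intro haK
    rcases h.invol_K haK (mul_self_of_orderOf_two ha) with e | e
    · exact ne_one_of_orderOf_two ha e
    · rcases h.invol_K (K.mul_mem haK hx) (mul_self_of_orderOf_two hax) with e' | e'
      · exact ne_one_of_orderOf_two hax e'
      · apply h1
        rw [e] at e'
        exact mul_left_cancel (e'.trans (mul_one t).symm)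
  · rintro ⟨ha, haK⟩
    refine ⟨h.invol_of_not_mem ha haK, h.invol_of_not_mem ?_ ?_⟩
    · rw [mul_assoc, h.cen x hx, ← mul_assoc, ha, mul_assoc]
    · intro h2
      apply haK
      have := K.mul_mem h2 (K.inv_mem hx)
      rwa [mul_inv_cancel_right] at this

theorem bet_KT (h : BSW t s K) {g : G} (hg : KT K g) : bet g = Nat.card K := by
  obtain ⟨h1, c, hc⟩ := hg
  rw [← bet_conj g c]
  apply h.bet_K hc
  intro h2
  apply h1
  have := congrArg (fun y => c⁻¹ * y * c) h2
  simpa [mul_assoc] using this

theorem iot_Ks (h : BSW t s K) {g : G} (hg : KT K g) : iot (Ks K) g = 2 * Nat.card K := by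
  rw [← h.card_cen]
  apply iot_eq
  · intro y hy e he
    rw [mem_Ks] at hy he
    rw [Subgroup.mem_centralizer_iff]
    intro z hz
    rw [Set.mem_singleton_iff] at hz
    rw [hz]
    exact (h.hTI e y hy.1 he.1 hy.2).symm
  · intro e he y hy
    rw [mem_Ks] at hy ⊢
    rw [Subgroup.mem_centralizer_iff] at he
    have he' : e * t = t * e := (he t rfl).symm
    constructor
    · by_cases heK : e ∈ K
      · exact K.mul_mem (K.mul_mem heK hy.1) (K.inv_mem heK)
      · rw [h.inverts he' heK y hy.1]; exact K.inv_mem hy.1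
    · intro h2
      apply hy.2
      have := congrArg (fun y => e⁻¹ * y * e) h2
      simpa [mul_assoc] using this
  · obtain ⟨h1, c, hc⟩ := hg
    refine ⟨c, ?_⟩
    rw [mem_Ks]
    refine ⟨hc, ?_⟩
    intro h2
    apply h1
    have := congrArg (fun y => c⁻¹ * y * c) h2
    simpa [mul_assoc] using this

theorem iot_Ks_zero {g : G} (hg : ¬ KT K g) : iot (Ks K) g = 0 := by
  apply iot_eq_zero
  rintro ⟨c, hc⟩
  rw [mem_Ks] at hc
  apply hg
  refine ⟨?_, c, hc.1⟩
  rintro rfl
  apply hc.2
  group

open Classical in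
/-- summation of a class function over the `K`-type elements. -/
theorem sum_KT {R : Type*} [CommSemiring R] (h : BSW t s K) (F : G → R)
    (hF : ∀ g c, F (c * g * c⁻¹) = F g) :
    (2 * Nat.card K : R) * ∑ g ∈ Finset.univ.filter (fun g => KT K g), F g
      = (Fintype.card G : R) * ∑ y ∈ Ks K, F y := by
  rw [← sum_iot (Ks K) F hF, Finset.mul_sum, Finset.sum_filter]
  refine Finset.sum_congr rfl fun g _ => ?_
  by_cases hg : KT K g
  · rw [if_pos hg, h.iot_Ks hg]; push_cast; ring
  · rw [if_neg hg, iot_Ks_zero hg]; simp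

end BSW

end Cfsg.Agent.Lib.Helper75
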