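import Mathlib
import Cfsg.Agent.Lib.Helper75.BSW2
import Cfsg.Agent.Lib.Helper3.NormTwo
import Cfsg.Agent.Lib.Helper3.Perm
import Cfsg.Agent.Lib.Helper15.CharTools
import Cfsg.Agent.Lib.Helper15.CyclicGl2
import Cfsg.Agent.Lib.Helper76.GaloisChar
import Cfsg.Agent.Lib.Helper80.Linear

/-!
# The Brauer-Suzuki-Wall configuration: functions induced from `K` (helper75)
-/

set_option autoImplicit false

namespace Cfsg.Agent.Lib.Helper75

open Cfsg Cfsg.Agent.Lib.Helper3 Cfsg.Agent.Lib.Helper15
open scoped ComplexConjugate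

/-- A generalized character of norm `2` with value `-1` at `1` is a difference of two distinct
irreducible characters. -/
theorem exists_irr_sub_irr_of_norm_two' {G : Type*} [Group G] [Fintype G] {Δ : G → ℂ}
    (hΔ : IsGeneralizedCharacter G Δ)
    (hnorm : classInner Δ Δ = 2) (h1 : Δ 1 = -1) :
    ∃ α β : G → ℂ, IsIrrCharacter G α ∧ IsIrrCharacter G β ∧ α ≠ β ∧ Δ = α - β := by
  classical
  have := Fintype.ofFinite (IrrCharacter G)
  obtain ⟨hcf, hz⟩ := isGeneralizedCharacter_iff.mp hΔ
  choose z hz using hz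
  have hsum : ∑ ψ, z ψ ^ 2 = 2 := by
    have := classInner_self_eq_sum_sq hcf z hz
    rw [hnorm] at this
    exact_mod_cast this.symm
  have hexp : Δ = ∑ ψ : IrrCharacter G, (z ψ : ℂ) • (ψ : G → ℂ) := by
    conv_lhs => rw [classFunction_expansion hcf]
    exact Finset.sum_congr rfl fun ψ _ => by rw [hz]
  have hexα : ∃ α, z α ≠ 0 := by
    by_contra hcon
    push Not at hcon
    simp [hcon] at hsum
  obtain ⟨α, hα⟩ := hexα
  have hsq : ∀ x : ℤ, x ≠ 0 → x ^ 2 ≤ 2 → x ^ 2 = 1 ∧ (x = 1 ∨ x = -1) := by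
    intro x hx0 hx
    have h1 : x ≤ 1 := by nlinarith
    have h2 : -1 ≤ x := by nlinarith
    have h3 : x = 1 ∨ x = -1 := by omega
    rcases h3 with rfl | rfl <;> simp
  have hs1 := Finset.add_sum_erase Finset.univ (fun ψ => z ψ ^ 2) (Finset.mem_univ α)
  rw [hsum] at hs1
  have hnn1 : 0 ≤ ∑ ψ ∈ Finset.univ.erase α, z ψ ^ 2 := Finset.sum_nonneg fun ψ _ => sq_nonneg _
  obtain ⟨hα2, hαpm⟩ := hsq (z α) hα (by linarith)
  have hs2 : ∑ ψ ∈ Finset.univ.erase α, z ψ ^ 2 = 1 := by linarith
  have hexβ : ∃ β ∈ Finset.univ.erase α, z β ≠ 0 := by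
    by_contra hcon
    push Not at hcon
    rw [Finset.sum_eq_zero (fun ψ hψ => by rw [hcon ψ hψ]; simp)] at hs2
    exact zero_ne_one hs2
  obtain ⟨β, hβmem, hβ⟩ := hexβ
  have hs3 := Finset.add_sum_erase (Finset.univ.erase α) (fun ψ => z ψ ^ 2) hβmem
  rw [hs2] at hs3
  have hnn2 : 0 ≤ ∑ ψ ∈ (Finset.univ.erase α).erase β, z ψ ^ 2 :=
    Finset.sum_nonneg fun ψ _ => sq_nonneg _
  obtain ⟨hβ2, hβpm⟩ := hsq (z β) hβ (by linarith)
  have hs4 : ∑ ψ ∈ (Finset.univ.erase α).erase β, z ψ ^ 2 = 0 := by linarith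
  have hrest : ∀ ψ ∈ (Finset.univ.erase α).erase β, z ψ = 0 := by
    intro ψ hψ
    have := (Finset.sum_eq_zero_iff_of_nonneg (fun ψ _ => sq_nonneg (z ψ))).mp hs4 ψ hψ
    exact pow_eq_zero_iff (two_ne_zero) |>.mp this
  have hαβ : β ≠ α := Finset.ne_of_mem_erase hβmem
  have hΔ2 : Δ = (z α : ℂ) • (α : G → ℂ) + (z β : ℂ) • (β : G → ℂ) := by
    rw [hexp, ← Finset.add_sum_erase Finset.univ _ (Finset.mem_univ α),
      ← Finset.add_sum_erase (Finset.univ.erase α) _ hβmem,
      Finset.sum_eq_zero (fun ψ hψ => by rw [hrest ψ hψ]; simp), add_zero]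
  obtain ⟨a, ha⟩ := IsCharacter.apply_one_eq_natCast (IsIrrCharacter.isCharacter α.2)
  obtain ⟨b, hb⟩ := IsCharacter.apply_one_eq_natCast (IsIrrCharacter.isCharacter β.2)
  have ha0 : a ≠ 0 := by
    rintro rfl
    exact IsIrrCharacter.apply_one_ne_zero α.2 (by rw [ha]; simp)
  have hb0 : b ≠ 0 := by
    rintro rfl
    exact IsIrrCharacter.apply_one_ne_zero β.2 (by rw [hb]; simp)
  have hdeg : z α * a + z β * b = -1 := by
    have := congrFun hΔ2 1
    rw [h1] at this
    simp only [Pi.add_apply, Pi.smul_apply, smul_eq_mul, ha, hb] at this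
    exact_mod_cast this.symm
  have hne : (α : G → ℂ) ≠ (β : G → ℂ) := fun h => hαβ (Subtype.ext h).symm
  rcases hαpm with h | h <;> rcases hβpm with h' | h'
  · exfalso; rw [h, h'] at hdeg; omega
  · refine ⟨α, β, α.2, β.2, hne, ?_⟩
    rw [hΔ2, h, h']; simp [sub_eq_add_neg]
  · refine ⟨β, α, β.2, α.2, hne.symm, ?_⟩
    rw [hΔ2, h, h']; simp [sub_eq_add_neg, add_comm]
  · exfalso; rw [h, h'] at hdeg; omega

namespace BSW

variable {G : Type*} [Group G] [Fintype G] {t s : G} {K : Subgroup G}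

open Classical in
theorem indK_apply (h : BSW t s K) (φ : K → ℂ) {x : G} (hx : x ∈ K) (h1 : x ≠ 1) :
    indFun K φ x = φ ⟨x, hx⟩ + φ ⟨x⁻¹, K.inv_mem hx⟩ := by
  rw [indFun_apply]
  have key : ∀ c : G, extendByZero K φ (c⁻¹ * x * c)
      = (if c ∈ K then φ ⟨x, hx⟩ else 0) + (if c ∈ HK t K then φ ⟨x⁻¹, K.inv_mem hx⟩ else 0) := by
    intro c
    by_cases hcK : c ∈ K
    · have h2 : c ∉ HK t K := by rw [mem_HK]; exact fun h3 => h3.2 hcK
      rw [if_pos hcK, if_neg h2, add_zero]
      have h3 : c⁻¹ * x * c = x := by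
        rw [mul_assoc, h.comm x hx c hcK, inv_mul_cancel_left]
      rw [extendByZero_mem K φ (by rw [h3]; exact hx)]
      congr 1
      exact Subtype.ext h3
    · rw [if_neg hcK, zero_add]
      by_cases hct : c * t = t * c
      · rw [if_pos (mem_HK.2 ⟨hct, hcK⟩)]
        have hct' : c⁻¹ * t = t * c⁻¹ := by
          have := congrArg (fun y => c⁻¹ * y * c⁻¹) hct
          simp only [mul_assoc, mul_inv_cancel, mul_one, inv_mul_cancel_left] at this
          exact this.symm
        have h3 : c⁻¹ * x * c = x⁻¹ := by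
          have := h.inverts hct' (fun h4 => hcK (by simpa using K.inv_mem h4)) x hx
          rwa [inv_inv] at this
        rw [extendByZero_mem K φ (by rw [h3]; exact K.inv_mem hx)]
        congr 1
        exact Subtype.ext h3
      · rw [if_neg (fun h4 => hct (mem_HK.1 h4).1)]
        apply extendByZero_not_mem
        intro h4
        apply hct
        have h5 := h.hTI c⁻¹ x hx (by rw [inv_inv]; exact h4) h1
        have := congrArg (fun y => c * y * c) h5
        simp only [mul_assoc, inv_mul_cancel, mul_one, mul_inv_cancel_left] at this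
        exact this.symm
  rw [Finset.sum_congr rfl fun c _ => key c, Finset.sum_add_distrib, ← Finset.sum_filter,
    ← Finset.sum_filter, Finset.sum_const, Finset.sum_const, nsmul_eq_mul, nsmul_eq_mul]
  have e1 : (Finset.univ.filter fun c : G => c ∈ K).card = Nat.card K := by
    rw [Nat.card_eq_fintype_card, Fintype.card_subtype]
  have e2 : (Finset.univ.filter fun c : G => c ∈ HK t K).card = Nat.card K := by
    rw [← h.card_HK]
    congr 1
    ext c
    simp
  rw [e1, e2]
  have : (Nat.card K : ℂ) ≠ 0 := card_ne_zero K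
  field_simp

theorem indK_zero (φ : K → ℂ) {g : G} (hg : ¬ KT K g) (h1 : g ≠ 1) : indFun K φ g = 0 := by
  rw [indFun_apply, Finset.sum_eq_zero, mul_zero]
  intro c _
  apply extendByZero_not_mem
  intro h2
  apply hg
  exact ⟨h1, c⁻¹, by rw [inv_inv]; exact h2⟩

theorem indK_res (h : BSW t s K) (φ : K → ℂ) (h1 : φ 1 = 0) :
    (fun k : K => indFun K φ k) = fun k => φ k + φ k⁻¹ := by
  ext k
  by_cases hk : k = 1
  · subst hk
    simp only [Subgroup.coe_one, inv_one]
    rw [indFun_one, h1]; simp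
  · rw [h.indK_apply φ k.2 (fun h2 => hk (Subtype.ext h2))]
    rfl

/-- the constant function one. -/
def one (X : Type*) : X → ℂ := fun _ => 1

theorem irr_one' (X : Type*) [Group X] : IsIrrCharacter X (one X) := isIrrCharacter_one

/-- complex conjugate of a function. -/
def cjf {X : Type*} (lam : X → ℂ) : X → ℂ := fun k => conj (lam k)

theorem irr_cjf {X : Type*} [Group X] [Finite X] {lam : X → ℂ} (h : IsIrrCharacter X lam) :
    IsIrrCharacter X (cjf lam) :=
  Cfsg.Agent.Lib.Helper76.IsIrrCharacter.map_ringHom h (starRingEnd ℂ)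

theorem cjf_cjf {X : Type*} (lam : X → ℂ) : cjf (cjf lam) = lam := by
  ext k; simp [cjf]

/-- `Φ_λ`, induced from `1 - λ`. -/
noncomputable def Phi (K : Subgroup G) (lam : K → ℂ) : G → ℂ := indFun K (one K - lam)

theorem Phi_cf (lam : K → ℂ) : IsClassFunction G (Phi K lam) := indFun_isClassFunction _ _

theorem Phi_gen {lam : K → ℂ} (hl : IsIrrCharacter K lam) : IsGeneralizedCharacter G (Phi K lam) := by
  refine ⟨indFun K (one K), indFun K lam, char_indFun K (irr_char (irr_one' K)),
    char_indFun K (irr_char hl), ?_⟩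
  exact indFun_sub _ _ _

omit [Fintype G] in
theorem lam_one (h : BSW t s K) {lam : K → ℂ} (hl : IsIrrCharacter K lam) : lam 1 = 1 :=
  Cfsg.Agent.Lib.Helper80.char_one_eq_one_of_comm
    (fun a b => Subtype.ext (h.comm a a.2 b b.2)) ⟨lam, hl⟩

theorem Phi_one (h : BSW t s K) {lam : K → ℂ} (hl : IsIrrCharacter K lam) : Phi K lam 1 = 0 := by
  unfold Phi
  rw [indFun_one]
  simp [one, h.lam_one hl]

theorem Phi_res (h : BSW t s K) {lam : K → ℂ} (hl : IsIrrCharacter K lam) :
    (fun k : K => Phi K lam k) = (one K - lam) + (one K - cjf lam) := by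
  unfold Phi
  rw [h.indK_res _ (by simp [one, h.lam_one hl])]
  ext k
  simp only [Pi.sub_apply, Pi.add_apply, one, cjf]
  rw [IsCharacter.apply_inv (irr_char hl)]

theorem Phi_zero (lam : K → ℂ) {g : G} (hg : ¬ KT K g) (h1 : g ≠ 1) : Phi K lam g = 0 :=
  indK_zero _ hg h1

theorem Phi_K (h : BSW t s K) {lam : K → ℂ} (hl : IsIrrCharacter K lam) (k : K) :
    Phi K lam k = 2 - lam k - conj (lam k) := by
  have := congrFun (h.Phi_res hl) k
  simp only [Pi.add_apply, Pi.sub_apply, one, cjf] at this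
  rw [this]; ring

open Classical in
theorem inner_Phi (h : BSW t s K) [Fintype K] {lam mu : K → ℂ} (hl : IsIrrCharacter K lam)
    (hm : IsIrrCharacter K mu) (hl1 : lam ≠ one K) (hm1 : mu ≠ one K) :
    classInner (Phi K lam) (Phi K mu)
      = 2 + (if lam = mu then 1 else 0) + (if lam = cjf mu then 1 else 0) := by
  have hm1' : cjf mu ≠ one K := by
    intro h2
    apply hm1
    rw [← cjf_cjf mu, h2]
    ext k; simp [cjf, one]
  conv_lhs => unfold Phi
  rw [classInner_indFun_left K _ _ (indFun_isClassFunction _ _)]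
  have := h.Phi_res hm
  unfold Phi at this
  rw [this, Helper15.classInner_add_right, Helper15.classInner_sub_left, Helper15.classInner_sub_left, Helper15.classInner_sub_right,
    Helper15.classInner_sub_right, Helper15.classInner_sub_right, Helper15.classInner_sub_right,
    classInner_irr (irr_one' K) (irr_one' K), classInner_irr (irr_one' K) hm,
    classInner_irr hl (irr_one' K), classInner_irr hl hm,
    classInner_irr (irr_one' K) (irr_cjf hm), classInner_irr hl (irr_cjf hm),
    if_pos rfl, if_neg hm1.symm, if_neg hl1, if_neg hm1'.symm]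
  ring

theorem inner_Phi_one (h : BSW t s K) [Fintype K] {lam : K → ℂ} (hl : IsIrrCharacter K lam)
    (hl1 : lam ≠ one K) : classInner (Phi K lam) (one G) = 1 := by
  classical
  unfold Phi
  rw [classInner_indFun_left K _ _ (irr_cf (irr_one' G))]
  have : (fun k : K => one G (k : G)) = one K := rfl
  rw [this, Helper15.classInner_sub_left, classInner_irr (irr_one' K) (irr_one' K),
    classInner_irr hl (irr_one' K), if_pos rfl, if_neg hl1]
  ring

/-- the decomposition `Φ_λ = 1 + P - M`. -/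
theorem Phi_decomp (h : BSW t s K) {lam : K → ℂ} (hl : IsIrrCharacter K lam)
    (hl2 : cjf lam ≠ lam) :
    ∃ P M : G → ℂ, IsIrrCharacter G P ∧ IsIrrCharacter G M ∧ P ≠ M ∧ P ≠ one G ∧ M ≠ one G ∧
      Phi K lam = one G + (P - M) := by
  classical
  have := Fintype.ofFinite K
  have hl1 : lam ≠ one K := by
    rintro rfl
    apply hl2
    ext k; simp [cjf, one]
  have h1 := h.inner_Phi hl hl hl1 hl1
  rw [if_pos rfl, if_neg (fun e => hl2 e.symm)] at h1
  have h2 := h.inner_Phi_one hl hl1
  have h2' : classInner (one G) (Phi K lam) = 1 := by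
    rw [← Helper15.classInner_conj_symm, h2, map_one]
  have hg : IsGeneralizedCharacter G (Phi K lam - one G) := by
    obtain ⟨a, b, ha, hb, hab⟩ := Phi_gen (G := G) hl
    refine ⟨a, b + one G, ha, ?_, ?_⟩
    · exact IsCharacter.add hb (irr_char (irr_one' G))
    · rw [hab]; abel
  obtain ⟨P, M, hP, hM, hPM, he⟩ := exists_irr_sub_irr_of_norm_two' hg (by
    rw [Helper15.classInner_sub_left, Helper15.classInner_sub_right, Helper15.classInner_sub_right, h1, h2, h2',
      classInner_irr_self (irr_one' G)]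
    ring) (by
    rw [Pi.sub_apply, h.Phi_one hl]; simp [one])
  have h3 : classInner (P - M) (one G) = 0 := by
    rw [← he, Helper15.classInner_sub_left, h2, classInner_irr_self (irr_one' G), sub_self]
  rw [Helper15.classInner_sub_left, classInner_irr hP (irr_one' G), classInner_irr hM (irr_one' G)] at h3
  have hP1 : P ≠ one G := by
    intro e
    have hM1 : M ≠ one G := fun e' => hPM (e.trans e'.symm)
    rw [if_pos e, if_neg hM1] at h3
    norm_num at h3
  have hM1 : M ≠ one G := by
    intro e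
    rw [if_neg hP1, if_pos e] at h3
    norm_num at h3
  exact ⟨P, M, hP, hM, hPM, hP1, hM1, by rw [← he]; abel⟩

end BSW

end Cfsg.Agent.Lib.Helper75
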