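import Mathlib
import Cfsg.Agent.Lib.Helper75.BSW3

/-!
# The Brauer-Suzuki-Wall configuration: the character `X` (helper75)
-/

set_option autoImplicit false

namespace Cfsg.Agent.Lib.Helper75

open Cfsg Cfsg.Agent.Lib.Helper3 Cfsg.Agent.Lib.Helper15
open scoped ComplexConjugate

namespace BSW

variable {G : Type*} [Group G] [Fintype G] {t s : G} {K : Subgroup G}

/-- a candidate for the character `X`. -/
structure Cand (K : Subgroup G) (X : G → ℂ) (δ : ℂ) : Prop where
  irr : IsIrrCharacter G X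
  sgn : δ = 1 ∨ δ = -1
  ne_one : X ≠ one G
  dec : ∀ lam : K → ℂ, IsIrrCharacter K lam → cjf lam ≠ lam →
    ∃ Y, IsIrrCharacter G Y ∧ Y ≠ X ∧ Y ≠ one G ∧ Phi K lam = one G + δ • (X - Y)

theorem exists_cand (h : BSW t s K) (hL : ∃ lam : K → ℂ, IsIrrCharacter K lam ∧ cjf lam ≠ lam) :
    ∃ X δ, Cand K X δ := by
  classical
  have := Fintype.ofFinite K
  have dec := fun (lam : K → ℂ) (hl : IsIrrCharacter K lam) (hl2 : cjf lam ≠ lam) =>
    h.Phi_decomp hl hl2
  choose P M hP hM hPM hP1 hM1 he using dec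
  have hne1 : ∀ (lam : K → ℂ), cjf lam ≠ lam → lam ≠ one K := by
    rintro lam hl2 rfl
    apply hl2
    ext k; simp [cjf, one]
  have share : ∀ (lam : K → ℂ) (hl : IsIrrCharacter K lam) (hl2 : cjf lam ≠ lam)
      (mu : K → ℂ) (hm : IsIrrCharacter K mu) (hm2 : cjf mu ≠ mu),
      P lam hl hl2 = P mu hm hm2 ∨ M lam hl hl2 = M mu hm hm2 := by
    intro lam hl hl2 mu hm hm2
    have h1 := h.inner_Phi hl hm (hne1 lam hl2) (hne1 mu hm2)
    rw [he lam hl hl2, he mu hm hm2, Helper15.classInner_add_left, Helper15.classInner_add_right,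
      Helper15.classInner_add_right, Helper15.classInner_sub_left, Helper15.classInner_sub_left,
      Helper15.classInner_sub_right, Helper15.classInner_sub_right, Helper15.classInner_sub_right,
      classInner_irr (irr_one' G) (irr_one' G), classInner_irr (irr_one' G) (hP mu hm hm2),
      classInner_irr (irr_one' G) (hM mu hm hm2), classInner_irr (hP lam hl hl2) (irr_one' G),
      classInner_irr (hM lam hl hl2) (irr_one' G),
      classInner_irr (hP lam hl hl2) (hP mu hm hm2), classInner_irr (hP lam hl hl2) (hM mu hm hm2),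
      classInner_irr (hM lam hl hl2) (hP mu hm hm2), classInner_irr (hM lam hl hl2) (hM mu hm hm2),
      if_pos rfl, if_neg (hP1 mu hm hm2).symm, if_neg (hM1 mu hm hm2).symm,
      if_neg (hP1 lam hl hl2), if_neg (hM1 lam hl hl2)] at h1
    by_contra hcon
    push Not at hcon
    rw [if_neg hcon.1, if_neg hcon.2] at h1
    split_ifs at h1 <;> norm_num at h1
  obtain ⟨l0, hl0, hl02⟩ := hL
  have dich : (∀ (lam : K → ℂ) (hl : IsIrrCharacter K lam) (hl2 : cjf lam ≠ lam),
      P lam hl hl2 = P l0 hl0 hl02) ∨ (∀ (lam : K → ℂ) (hl : IsIrrCharacter K lam)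
      (hl2 : cjf lam ≠ lam), M lam hl hl2 = M l0 hl0 hl02) := by
    by_contra hcon
    push Not at hcon
    obtain ⟨⟨mu, hm, hm2, h1⟩, ⟨nu, hn, hn2, h2⟩⟩ := hcon
    have h3 : M mu hm hm2 = M l0 hl0 hl02 := (share mu hm hm2 l0 hl0 hl02).resolve_left h1
    have h4 : P nu hn hn2 = P l0 hl0 hl02 := (share nu hn hn2 l0 hl0 hl02).resolve_right h2
    rcases share mu hm hm2 nu hn hn2 with h5 | h5
    · exact h1 (h5.trans h4)
    · exact h2 (h5.symm.trans h3)
  rcases dich with d | d
  · refine ⟨P l0 hl0 hl02, 1, hP _ _ _, Or.inl rfl, hP1 _ _ _, ?_⟩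
    intro lam hl hl2
    refine ⟨M lam hl hl2, hM _ _ _, ?_, hM1 _ _ _, ?_⟩
    · rw [← d lam hl hl2]; exact (hPM _ _ _).symm
    · rw [he lam hl hl2, d lam hl hl2, one_smul]
  · refine ⟨M l0 hl0 hl02, -1, hM _ _ _, Or.inr rfl, hM1 _ _ _, ?_⟩
    intro lam hl hl2
    refine ⟨P lam hl hl2, hP _ _ _, ?_, hP1 _ _ _, ?_⟩
    · rw [← d lam hl hl2]; exact hPM _ _ _
    · rw [he lam hl hl2, d lam hl hl2]
      ext g
      simp

/-- the real irreducible characters of `K`. -/
theorem exists_tau (h : BSW t s K) :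
    ∃ τ : K → ℂ, IsIrrCharacter K τ ∧ τ ≠ one K ∧ cjf τ = τ ∧
      ∀ lam : K → ℂ, IsIrrCharacter K lam → cjf lam = lam → lam = one K ∨ lam = τ := by
  classical
  have := Fintype.ofFinite K
  have hcomm : ∀ a b : K, a * b = b * a := fun a b => Subtype.ext (h.comm a a.2 b b.2)
  have hK0 : (Nat.card K : ℂ) ≠ 0 := card_ne_zero K
  have h1 : ∀ lam : IrrCharacter K, (if (lam : K → ℂ) = cjf lam then (1 : ℂ) else 0)
      = (Nat.card K : ℂ)⁻¹ * ∑ k : K, (lam : K → ℂ) (k * k) := by
    intro lam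
    have h2 := classInner_irr lam.2 (irr_cjf lam.2)
    rw [← h2]
    unfold classInner
    congr 1
    refine Finset.sum_congr rfl fun k _ => ?_
    rw [Cfsg.Agent.Lib.Helper80.char_mul_of_degree_one (irr_char lam.2) (h.lam_one lam.2)]
    simp only [cjf, Complex.conj_conj]
  have h2 : ∑ lam : IrrCharacter K, (if (lam : K → ℂ) = cjf lam then (1 : ℂ) else 0) = 2 := by
    rw [Finset.sum_congr rfl fun lam _ => h1 lam, ← Finset.mul_sum, Finset.sum_comm,
      Finset.sum_congr rfl fun k _ => sum_irr_of_comm hcomm (k * k)]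
    have hne : (1 : K) ≠ ⟨t, h.htK⟩ := fun e => h.t_ne (congrArg Subtype.val e).symm
    rw [← Finset.sum_subset (Finset.subset_univ ({1, ⟨t, h.htK⟩} : Finset K)),
      Finset.sum_pair hne, if_pos (by simp), if_pos (Subtype.ext h.tt)]
    · field_simp
      norm_num
    · intro k _ hk
      apply if_neg
      intro hkk
      apply hk
      simp only [Finset.mem_insert, Finset.mem_singleton]
      rcases h.invol_K k.2 (congrArg Subtype.val hkk) with e | e
      · exact Or.inl (Subtype.ext e)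
      · exact Or.inr (Subtype.ext e)
  have h3 : (Finset.univ.filter fun lam : IrrCharacter K => (lam : K → ℂ) = cjf lam).card = 2 := by
    rw [← Finset.sum_filter, Finset.sum_const, nsmul_eq_mul, mul_one] at h2
    exact_mod_cast h2
  have h4 : (⟨one K, irr_one' K⟩ : IrrCharacter K)
      ∈ Finset.univ.filter fun lam : IrrCharacter K => (lam : K → ℂ) = cjf lam := by
    simp only [Finset.mem_filter, Finset.mem_univ, true_and]
    ext k; simp [cjf, one]
  obtain ⟨a, b, hab, hS⟩ := Finset.card_eq_two.1 h3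
  have hmem : ∀ lam : IrrCharacter K, (lam : K → ℂ) = cjf lam ↔ lam = a ∨ lam = b := by
    intro lam
    have : lam ∈ (Finset.univ.filter fun lam : IrrCharacter K => (lam : K → ℂ) = cjf lam)
        ↔ lam ∈ ({a, b} : Finset (IrrCharacter K)) := by rw [hS]
    simpa using this
  have h5 := (hmem ⟨one K, irr_one' K⟩).1 (by ext k; simp [cjf, one])
  rcases h5 with e | e
  · refine ⟨b, b.2, ?_, ((hmem b).2 (Or.inr rfl)).symm, ?_⟩
    · intro e2
      apply hab
      rw [← e]
      exact Subtype.ext e2.symm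
    · intro lam hl hl2
      rcases (hmem ⟨lam, hl⟩).1 hl2.symm with e3 | e3
      · left
        rw [← e] at e3
        exact congrArg Subtype.val e3
      · right
        exact congrArg Subtype.val e3
  · refine ⟨a, a.2, ?_, ((hmem a).2 (Or.inl rfl)).symm, ?_⟩
    · intro e2
      apply hab
      rw [← e]
      exact Subtype.ext e2
    · intro lam hl hl2
      rcases (hmem ⟨lam, hl⟩).1 hl2.symm with e3 | e3
      · right
        exact congrArg Subtype.val e3
      · left
        rw [← e] at e3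
        exact congrArg Subtype.val e3

theorem Cand.inner_Phi {X : G → ℂ} {δ : ℂ} (c : Cand K X δ) {lam : K → ℂ}
    (hl : IsIrrCharacter K lam) (hl2 : cjf lam ≠ lam) : classInner X (Phi K lam) = δ := by
  classical
  obtain ⟨Y, hY, hYX, hY1, he⟩ := c.dec lam hl hl2
  rw [he, Helper15.classInner_add_right, Helper15.classInner_smul_right,
    Helper15.classInner_sub_right, classInner_irr c.irr (irr_one' G), classInner_irr c.irr c.irr,
    classInner_irr c.irr hY, if_neg c.ne_one, if_pos rfl, if_neg hYX.symm]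
  rcases c.sgn with e | e <;> rw [e] <;> simp

omit [Fintype G] in
theorem lam_mul (h : BSW t s K) {lam : K → ℂ} (hl : IsIrrCharacter K lam) (a b : K) :
    lam (a * b) = lam a * lam b :=
  Cfsg.Agent.Lib.Helper80.char_mul_of_degree_one (irr_char hl) (h.lam_one hl) a b

omit [Fintype G] in
theorem lam_ne_zero (h : BSW t s K) {lam : K → ℂ} (hl : IsIrrCharacter K lam) (a : K) :
    lam a ≠ 0 := by
  intro h0
  have := h.lam_mul hl a a⁻¹
  rw [mul_inv_cancel, h.lam_one hl, h0, zero_mul] at this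
  exact one_ne_zero this

/-- the values of a candidate on `K`. -/
theorem Cand.val_K (h : BSW t s K) {X : G → ℂ} {δ : ℂ} (c : Cand K X δ) :
    ∃ (d : ℂ) (τ : K → ℂ), (∀ k, τ k ≠ 0) ∧ ∀ k : K, k ≠ 1 → X k = δ + d * τ k := by
  classical
  have := Fintype.ofFinite K
  have hcomm : ∀ a b : K, a * b = b * a := fun a b => Subtype.ext (h.comm a a.2 b b.2)
  obtain ⟨τ, hτ, hτ1, hτ2, hreal⟩ := h.exists_tau
  obtain ⟨ψ, hψ⟩ : ∃ ψ : K → ℂ, ψ = fun k : K => X k := ⟨_, rfl⟩
  have hψc : IsClassFunction K ψ := by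
    intro a b
    rw [hcomm b a, mul_inv_cancel_right]
  have ha : ∀ lam : K → ℂ, IsIrrCharacter K lam → cjf lam ≠ lam →
      classInner ψ lam = classInner ψ (one K) - δ := by
    intro lam hl hl2
    have h1 := c.inner_Phi hl hl2
    unfold Phi at h1
    rw [classInner_indFun_right K _ _ (irr_cf c.irr), ← hψ, Helper15.classInner_sub_right] at h1
    rw [← h1]; ring
  refine ⟨classInner ψ τ - (classInner ψ (one K) - δ), τ, h.lam_ne_zero hτ, ?_⟩
  intro k hk
  have h1 : X k = ψ k := by rw [hψ]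
  have h2 := congrFun (classFunction_expansion hψc) k
  rw [Finset.sum_apply] at h2
  simp only [Pi.smul_apply, smul_eq_mul] at h2
  have h3 := sum_irr_of_comm hcomm k
  rw [if_neg hk] at h3
  have h4 : ψ k = ∑ lam : IrrCharacter K,
      (classInner ψ lam - (classInner ψ (one K) - δ)) * (lam : K → ℂ) k := by
    have h5 : ∀ lam : IrrCharacter K,
        (classInner ψ lam - (classInner ψ (one K) - δ)) * (lam : K → ℂ) k
        = classInner ψ lam * (lam : K → ℂ) k - (classInner ψ (one K) - δ) * (lam : K → ℂ) k :=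
      fun lam => sub_mul _ _ _
    rw [Finset.sum_congr rfl fun lam _ => h5 lam, Finset.sum_sub_distrib, ← Finset.mul_sum, h3,
      mul_zero, sub_zero]
    exact h2
  have hne : (⟨one K, irr_one' K⟩ : IrrCharacter K) ≠ ⟨τ, hτ⟩ := by
    intro e
    exact hτ1 (congrArg Subtype.val e).symm
  rw [h1, h4, ← Finset.sum_subset (Finset.subset_univ
    ({⟨one K, irr_one' K⟩, ⟨τ, hτ⟩} : Finset (IrrCharacter K))), Finset.sum_pair hne]
  · simp only [one]
    ring
  · intro lam _ hl
    have hl2 : cjf (lam : K → ℂ) ≠ lam := by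
      intro e
      apply hl
      simp only [Finset.mem_insert, Finset.mem_singleton]
      rcases hreal lam lam.2 e with e' | e'
      · exact Or.inl (Subtype.ext e')
      · exact Or.inr (Subtype.ext e')
    rw [ha lam lam.2 hl2, sub_self, zero_mul]

omit [Fintype G] in
theorem lam_t (h : BSW t s K) {lam : K → ℂ} (hl : IsIrrCharacter K lam) :
    lam ⟨t, h.htK⟩ = 1 ∨ lam ⟨t, h.htK⟩ = -1 := by
  have h1 := h.lam_mul hl ⟨t, h.htK⟩ ⟨t, h.htK⟩
  have h2 : (⟨t, h.htK⟩ : K) * ⟨t, h.htK⟩ = 1 := Subtype.ext h.tt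
  rw [h2, h.lam_one hl] at h1
  have h3 : (lam ⟨t, h.htK⟩ - 1) * (lam ⟨t, h.htK⟩ + 1) = 0 := by
    ring_nf
    rw [sq, ← h1]; ring
  rcases mul_eq_zero.1 h3 with e | e
  · left; exact sub_eq_zero.1 e
  · right; exact eq_neg_of_add_eq_zero_left e

/-- non-real characters with prescribed value at `t`. -/
theorem exists_lam (h : BSW t s K) (hm : 6 ≤ Nat.card K) (e : ℂ) (he : e = 1 ∨ e = -1) :
    ∃ lam : K → ℂ, IsIrrCharacter K lam ∧ cjf lam ≠ lam ∧ lam ⟨t, h.htK⟩ = e := by
  classical
  have := Fintype.ofFinite K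
  have hcomm : ∀ a b : K, a * b = b * a := fun a b => Subtype.ext (h.comm a a.2 b b.2)
  obtain ⟨τ, hτ, hτ1, hτ2, hreal⟩ := h.exists_tau
  have h1 := sum_irr_of_comm hcomm ⟨t, h.htK⟩
  rw [if_neg (fun e => h.t_ne (congrArg Subtype.val e))] at h1
  have h2 : ∀ lam : IrrCharacter K, (lam : K → ℂ) ⟨t, h.htK⟩
      = (if (lam : K → ℂ) ⟨t, h.htK⟩ = 1 then 1 else 0)
        - (if (lam : K → ℂ) ⟨t, h.htK⟩ = -1 then 1 else 0) := by
    intro lam
    rcases h.lam_t lam.2 with e | e <;> rw [e] <;> norm_num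
  rw [Finset.sum_congr rfl fun lam _ => h2 lam, Finset.sum_sub_distrib, ← Finset.sum_filter,
    ← Finset.sum_filter, Finset.sum_const, Finset.sum_const, nsmul_eq_mul, nsmul_eq_mul, mul_one,
    mul_one, sub_eq_zero] at h1
  have h3 : (Finset.univ.filter fun lam : IrrCharacter K => (lam : K → ℂ) ⟨t, h.htK⟩ = 1).card
      = (Finset.univ.filter fun lam : IrrCharacter K => (lam : K → ℂ) ⟨t, h.htK⟩ = -1).card := by
    exact_mod_cast h1
  have h4 : (Finset.univ.filter fun lam : IrrCharacter K => (lam : K → ℂ) ⟨t, h.htK⟩ = 1).card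
      + (Finset.univ.filter fun lam : IrrCharacter K => (lam : K → ℂ) ⟨t, h.htK⟩ = -1).card
      = Nat.card K := by
    rw [← Cfsg.Agent.Lib.Helper80.card_irr_of_comm hcomm, Nat.card_eq_fintype_card,
      ← Finset.card_univ, ← Finset.card_union_of_disjoint]
    · congr 1
      ext lam
      simp only [Finset.mem_union, Finset.mem_filter, Finset.mem_univ, true_and, iff_true]
      exact h.lam_t lam.2
    · rw [Finset.disjoint_left]
      intro lam hl hl'
      simp only [Finset.mem_filter, Finset.mem_univ, true_and] at hl hl'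
      rw [hl] at hl'
      norm_num at hl'
  have h5 : 3 ≤ (Finset.univ.filter fun lam : IrrCharacter K => (lam : K → ℂ) ⟨t, h.htK⟩ = e).card := by
    rcases he with rfl | rfl <;> omega
  by_contra hcon
  push Not at hcon
  have h6 : (Finset.univ.filter fun lam : IrrCharacter K => (lam : K → ℂ) ⟨t, h.htK⟩ = e)
      ⊆ {⟨one K, irr_one' K⟩, ⟨τ, hτ⟩} := by
    intro lam hl
    simp only [Finset.mem_filter, Finset.mem_univ, true_and] at hl
    simp only [Finset.mem_insert, Finset.mem_singleton]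
    have h7 : cjf (lam : K → ℂ) = lam := by
      by_contra h8
      exact hcon lam lam.2 h8 hl
    rcases hreal lam lam.2 h7 with e' | e'
    · exact Or.inl (Subtype.ext e')
    · exact Or.inr (Subtype.ext e')
  have h7 := Finset.card_le_card h6
  have h8 := Finset.card_le_two (a := (⟨one K, irr_one' K⟩ : IrrCharacter K)) (b := ⟨τ, hτ⟩)
  omega

end BSW

end Cfsg.Agent.Lib.Helper75
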