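import Mathlib
import Cfsg.Agent.Lib.Helper75.BSW4

/-!
# The Brauer-Suzuki-Wall configuration: the involution equation (helper75)
-/

set_option autoImplicit false

namespace Cfsg.Agent.Lib.Helper75

open Cfsg Cfsg.Agent.Lib.Helper3 Cfsg.Agent.Lib.Helper15
open scoped ComplexConjugate

namespace BSW

variable {G : Type*} [Group G] [Fintype G] {t s : G} {K : Subgroup G}

omit [Fintype G] in
theorem oneClass (h : BSW t s K) : OneClass t := ⟨h.ht, fun x hx => h.conj t x h.ht hx⟩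

theorem card_G (h : BSW t s K) :
    Fintype.card G = 2 * Nat.card K * (Inv G).card := by
  have h1 := h.oneClass.card_mul
  rw [← Nat.card_eq_fintype_card, h.card_cen] at h1
  exact_mod_cast h1.symm

theorem sum_lam (h : BSW t s K) [Fintype K] {lam : K → ℂ} (hl : IsIrrCharacter K lam)
    (hl1 : lam ≠ one K) : ∑ k : K, lam k = 0 := by
  have h1 := classInner_irr_ne hl (irr_one' K) hl1
  unfold classInner at h1
  have hK0 : (Nat.card K : ℂ) ≠ 0 := card_ne_zero K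
  have h2 := (mul_eq_zero.1 h1).resolve_left (inv_ne_zero hK0)
  simpa [one] using h2

theorem sum_Phi_Ks (h : BSW t s K) {lam : K → ℂ} (hl : IsIrrCharacter K lam)
    (hl1 : lam ≠ one K) : ∑ y ∈ Ks K, Phi K lam y = 2 * Nat.card K := by
  classical
  have := Fintype.ofFinite K
  have h1 : ∑ y ∈ Ks K, Phi K lam y = ∑ y : G, if y ∈ K then Phi K lam y else 0 := by
    unfold Ks
    rw [Finset.sum_filter]
    refine Finset.sum_congr rfl fun y _ => ?_
    by_cases hy : y ∈ K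
    · by_cases hy1 : y = 1
      · rw [if_neg (fun e => e.2 hy1), if_pos hy, hy1, h.Phi_one hl]
      · rw [if_pos ⟨hy, hy1⟩, if_pos hy]
    · rw [if_neg (fun e => hy e.1), if_neg hy]
  rw [h1, sum_subgroup K _ (fun x hx => if_neg hx)]
  have h2 : ∀ k : K, (if (k : G) ∈ K then Phi K lam k else 0) = 2 - lam k - cjf lam k := by
    intro k
    rw [if_pos k.2, h.Phi_K hl]; rfl
  have hl1' : cjf lam ≠ one K := by
    intro h2
    apply hl1
    rw [← cjf_cjf lam, h2]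
    ext k; simp [cjf, one]
  rw [Finset.sum_congr rfl fun k _ => h2 k, Finset.sum_sub_distrib, Finset.sum_sub_distrib,
    h.sum_lam hl hl1, h.sum_lam (irr_cjf hl) hl1', Finset.sum_const, Finset.card_univ,
    nsmul_eq_mul, ← Nat.card_eq_fintype_card]
  ring

theorem sum_pairs_Phi (h : BSW t s K) {lam : K → ℂ} (hl : IsIrrCharacter K lam)
    (hl1 : lam ≠ one K) :
    ∑ a ∈ Inv G, ∑ b ∈ Inv G, Phi K lam (a * b) = Nat.card K * Fintype.card G := by
  classical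
  rw [sum_pairs]
  have h1 : ∀ g : G, (bet g : ℂ) * Phi K lam g
      = if KT K g then (Nat.card K : ℂ) * Phi K lam g else 0 := by
    intro g
    by_cases hg : KT K g
    · rw [if_pos hg, h.bet_KT hg]
    · rw [if_neg hg]
      by_cases hg1 : g = 1
      · rw [hg1, h.Phi_one hl, mul_zero]
      · rw [Phi_zero lam hg hg1, mul_zero]
  rw [Finset.sum_congr rfl fun g _ => h1 g, ← Finset.sum_filter, ← Finset.mul_sum]
  have h2 := h.sum_KT (Phi K lam) (fun g c => Phi_cf lam g c)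
  rw [h.sum_Phi_Ks hl hl1] at h2
  have hK0 : (Nat.card K : ℂ) ≠ 0 := card_ne_zero K
  have h3 : ∑ g ∈ Finset.univ.filter (fun g => KT K g), Phi K lam g = Fintype.card G := by
    apply mul_left_cancel₀ (a := (2 * Nat.card K : ℂ)) (by simpa using hK0)
    rw [h2]; ring
  rw [h3]

/-- the involution equation. -/
theorem eqn (h : BSW t s K) {X : G → ℂ} {δ : ℂ} (c : Cand K X δ) {lam : K → ℂ}
    (hl : IsIrrCharacter K lam) (hl2 : cjf lam ≠ lam) :
    X 1 + δ ≠ 0 ∧ (2 * (Nat.card K : ℂ) ^ 2 = ((Inv G).card : ℂ) * (1 + δ * (X t ^ 2 / X 1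
      - (X t + δ * (2 * lam ⟨t, h.htK⟩ - 1)) ^ 2 / (X 1 + δ)))) := by
  classical
  have hl1 : lam ≠ one K := by
    rintro rfl
    apply hl2
    ext k; simp [cjf, one]
  obtain ⟨Y, hY, hYX, hY1, he⟩ := c.dec lam hl hl2
  have hδ : δ * δ = 1 := by rcases c.sgn with e | e <;> rw [e] <;> norm_num
  have h1 := h.sum_pairs_Phi hl hl1
  have h2 : ∀ g, Phi K lam g = 1 + δ * (X g - Y g) := by
    intro g
    rw [he]; simp [one]
  have hY1' : Y 1 = X 1 + δ := by
    have h3 := h2 1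
    rw [h.Phi_one hl] at h3
    have : δ * (1 + δ * (X 1 - Y 1)) = 0 := by rw [← h3, mul_zero]
    have h4 : δ + (δ * δ) * (X 1 - Y 1) = 0 := by rw [← this]; ring
    rw [hδ] at h4
    linear_combination (-1 : ℂ) * h4
  have hYt : Y t = X t + δ * (2 * lam ⟨t, h.htK⟩ - 1) := by
    have h3 := h2 t
    have h4 := h.Phi_K hl ⟨t, h.htK⟩
    have h5 : conj (lam ⟨t, h.htK⟩) = lam ⟨t, h.htK⟩ := by
      rcases h.lam_t hl with e | e <;> rw [e] <;> simp
    rw [h5] at h4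
    simp only at h4
    rw [h4] at h3
    have h6 : δ * (2 - lam ⟨t, h.htK⟩ - lam ⟨t, h.htK⟩) = δ + (δ * δ) * (X t - Y t) := by
      rw [h3]; ring
    rw [hδ] at h6
    linear_combination h6
  have hY0 : Y 1 ≠ 0 := irr_one_ne_zero hY
  refine ⟨by rw [← hY1']; exact hY0, ?_⟩
  simp only [h2] at h1
  have h3 : ∑ a ∈ Inv G, ∑ b ∈ Inv G, (1 + δ * (X (a * b) - Y (a * b)))
      = ((Inv G).card : ℂ) ^ 2 + δ * ((∑ a ∈ Inv G, ∑ b ∈ Inv G, X (a * b))
        - ∑ a ∈ Inv G, ∑ b ∈ Inv G, Y (a * b)) := by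
    simp only [Finset.sum_add_distrib, Finset.sum_const, nsmul_eq_mul, mul_one, ← Finset.mul_sum,
      Finset.sum_sub_distrib]
    ring
  rw [h3, h.oneClass.sum_irr ⟨X, c.irr⟩, h.oneClass.sum_irr ⟨Y, hY⟩, h.card_G] at h1
  simp only at h1
  rw [hY1', hYt] at h1
  have hn0 : ((Inv G).card : ℂ) ≠ 0 := by
    have : (Inv G).card ≠ 0 := by
      intro e
      have := h.card_G
      rw [e, mul_zero] at this
      exact Fintype.card_ne_zero this
    exact_mod_cast this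
  apply mul_left_cancel₀ hn0
  push_cast at h1
  rw [show ((Inv G).card : ℂ) * (2 * (Nat.card K : ℂ) ^ 2)
    = (Nat.card K : ℂ) * (2 * (Nat.card K : ℂ) * ((Inv G).card : ℂ)) by ring, ← h1]
  ring

/-- the character `X` when `|K| ≥ 6`. -/
theorem main_ge_six (h : BSW t s K) (hm : 6 ≤ Nat.card K) :
    ∃ (X : G → ℂ) (δ : ℤ), IsIrrCharacter G X ∧ (δ = 1 ∨ δ = -1) ∧
      (∀ k ∈ K, k ≠ 1 → X k = δ) ∧
      ((Inv G).card : ℂ) * (X 1 - δ) ^ 2 = 2 * (Nat.card K : ℂ) ^ 2 * X 1 * (X 1 + δ) := by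
  obtain ⟨l1, hl1, hl12, hl1t⟩ := h.exists_lam hm 1 (Or.inl rfl)
  obtain ⟨l2, hl2, hl22, hl2t⟩ := h.exists_lam hm (-1) (Or.inr rfl)
  obtain ⟨X, δ, c⟩ := h.exists_cand ⟨l1, hl1, hl12⟩
  have hδ : δ * δ = 1 := by rcases c.sgn with e | e <;> rw [e] <;> norm_num
  obtain ⟨hx, e1⟩ := h.eqn c hl1 hl12
  obtain ⟨-, e2⟩ := h.eqn c hl2 hl22
  rw [hl1t] at e1
  rw [hl2t] at e2
  have hn0 : ((Inv G).card : ℂ) ≠ 0 := by
    have : (Inv G).card ≠ 0 := by
      intro e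
      have := h.card_G
      rw [e, mul_zero] at this
      exact Fintype.card_ne_zero this
    exact_mod_cast this
  have hx0 : X 1 ≠ 0 := irr_one_ne_zero c.irr
  have hδ0 : δ ≠ 0 := by rintro rfl; simp at hδ
  have e3 := mul_left_cancel₀ hn0 (e1.symm.trans e2)
  have e4 : (X t + δ * (2 * 1 - 1)) ^ 2 / (X 1 + δ) = (X t + δ * (2 * (-1) - 1)) ^ 2 / (X 1 + δ) := by
    have e5 := mul_left_cancel₀ hδ0 (add_left_cancel e3)
    exact sub_right_injective e5
  have e5 : (X t + δ * (2 * 1 - 1)) ^ 2 = (X t + δ * (2 * (-1) - 1)) ^ 2 := by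
    exact (div_left_inj' hx).1 e4
  have hXt : X t = δ := by
    have e6 : 8 * δ * X t = 8 * (δ * δ) := by linear_combination e5
    rw [hδ] at e6
    have e7 : δ * (8 * δ * X t) = δ * (8 * 1) := by rw [e6]
    have e8 : 8 * (δ * δ) * X t = 8 * δ := by linear_combination e7
    rw [hδ] at e8
    linear_combination (1 / 8 : ℂ) * e8
  obtain ⟨d, τ, hτ, hv⟩ := c.val_K h
  have hd : d = 0 := by
    have h1 := hv ⟨t, h.htK⟩ (fun e => h.t_ne (congrArg Subtype.val e))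
    simp only at h1
    rw [hXt] at h1
    have h2 : d * τ ⟨t, h.htK⟩ = 0 := by linear_combination (-1 : ℂ) * h1
    exact (mul_eq_zero.1 h2).resolve_right (hτ _)
  obtain ⟨δ', hδ', hδ''⟩ : ∃ δ' : ℤ, (δ' = 1 ∨ δ' = -1) ∧ δ = δ' := by
    rcases c.sgn with e | e
    · exact ⟨1, Or.inl rfl, by rw [e]; simp⟩
    · exact ⟨-1, Or.inr rfl, by rw [e]; simp⟩
  refine ⟨X, δ', c.irr, hδ', ?_, ?_⟩
  · intro k hk hk1
    have := hv ⟨k, hk⟩ (fun e => hk1 (congrArg Subtype.val e))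
    rw [hd, zero_mul, add_zero] at this
    rw [← hδ'']; exact this
  · rw [← hδ'']
    rw [hXt] at e1
    have e6 : 2 * (Nat.card K : ℂ) ^ 2 * X 1 * (X 1 + δ)
        = ((Inv G).card : ℂ) * (1 + δ * (δ ^ 2 / X 1 - (δ + δ * (2 * 1 - 1)) ^ 2 / (X 1 + δ)))
          * X 1 * (X 1 + δ) := by rw [← e1]
    rw [e6]
    field_simp
    have hδ3 : δ ^ 3 = δ := by rw [pow_succ, sq, hδ, one_mul]
    have hδ2 : δ ^ 2 = 1 := by rw [sq, hδ]
    have hδ4 : δ ^ 4 = 1 := by rw [show δ ^ 4 = (δ ^ 2) ^ 2 by ring, hδ2]; norm_num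
    ring_nf
    rw [hδ3, hδ2, hδ4]
    ring

end BSW

end Cfsg.Agent.Lib.Helper75
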