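import Mathlib
import Cfsg.Agent.Lib.Helper75.BSW5
import Cfsg.Agent.Lib.Helper75.D8Cent

/-!
# The Brauer-Suzuki-Wall configuration: the order formula (helper75)
-/

set_option autoImplicit false

namespace Cfsg.Agent.Lib.Helper75

open Cfsg Cfsg.Agent.Lib.Helper3 Cfsg.Agent.Lib.Helper15 Cfsg.Agent.Lib.Helper78
open scoped ComplexConjugate

theorem D8C.exists_char {G : Type*} [Group G] [Fintype G] {T : Sylow 2 G} {σ τ : G}
    (H : D8C T σ τ) (c1 : IsConj (σ ^ (4 / 2)) τ) (c2 : IsConj (σ ^ (4 / 2)) (σ * τ)) :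
    ∃ (X : IrrCharacter G) (d : ℤ), (d = 1 ∨ d = -1) ∧
      (∀ l : ZMod 4, l ≠ 0 → (X : G → ℂ) (σ ^ l.val) = d) ∧
      ((Inv G).card : ℂ) * ((X : G → ℂ) 1 - d) ^ 2
        = 2 * (4 : ℂ) ^ 2 * (X : G → ℂ) 1 * ((X : G → ℂ) 1 + d) := by
  classical
  have h := H.dih
  have hne : NeZero 4 := ⟨by norm_num⟩
  obtain ⟨M, hM⟩ := exists_isPModular 2 Nat.prime_two
  have hζ := Complex.isPrimitiveRoot_exp 4 (by norm_num)
  obtain ⟨X₁, X₂, X₃, β, d₁, d₂, d₃, s1, s2, s3, n12, n13, n23, t1, t2, t3, hβ, hinj, hblock,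
    hv, hodd⟩ := h.main hζ hM
  obtain ⟨hxd, OF⟩ := h.order_formula hζ hM c1 c2 X₁ ((hblock X₁).2 (Or.inr (Or.inl rfl))) t1 d₁ s1
    (fun l hl => (hv l hl).1)
  obtain ⟨W, L⟩ := h.exists_loc
  have hI : (Loc.Iset h.σ' 4).card = 4 := by
    apply L.card_Iset_of_top
    intro x
    rw [Sylow.coe_subtype, Subgroup.mem_subgroupOf, H.cen]
    exact x.2
  rw [hI] at OF
  refine ⟨X₁, d₁, s1, fun l hl => (hv l hl).1, ?_⟩
  rw [OF]
  norm_num

namespace BSW

variable {G : Type*} [Group G] [Fintype G] {t s : G} {K : Subgroup G}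

theorem card_cen' (h : BSW t s K) {z : G} (hz : orderOf z = 2) :
    Nat.card (Subgroup.centralizer ({z} : Set G)) = 2 * Nat.card K := by
  have OC : OneClass z := ⟨hz, fun x hx => h.conj z x hz hx⟩
  have h1 := OC.card_mul
  rw [← Nat.card_eq_fintype_card, h.card_G] at h1
  have hn0 : (Inv G).card ≠ 0 := by
    intro e
    have := h.card_G
    rw [e, mul_zero] at this
    exact Fintype.card_ne_zero this
  have h2 : Nat.card (Subgroup.centralizer ({z} : Set G)) * (Inv G).card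
      = 2 * Nat.card K * (Inv G).card := by exact_mod_cast h1
  exact Nat.eq_of_mul_eq_mul_right (Nat.pos_of_ne_zero hn0) h2

theorem sylow_card_dvd (h : BSW t s K) (P : Sylow 2 G) :
    Nat.card (P : Subgroup G) ∣ 2 * Nat.card K := by
  have h2 : 2 ∣ Nat.card G := by
    rw [← h.ht]; exact orderOf_dvd_natCard t
  have hP2 : 2 ∣ Nat.card (P : Subgroup G) := by
    have := P.card_eq_multiplicity
    rw [this]
    apply dvd_pow_self
    intro e
    have h3 := (Nat.Prime.factorization_pos_of_dvd Nat.prime_two Nat.card_pos.ne' h2)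
    omega
  have hnt : Nontrivial (P : Subgroup G) := by
    rw [← Finite.one_lt_card_iff_nontrivial]
    exact lt_of_lt_of_le (by norm_num) (Nat.le_of_dvd Nat.card_pos hP2)
  have hcn := IsPGroup.center_nontrivial P.2
  have hc2 : 2 ∣ Nat.card (Subgroup.center (P : Subgroup G)) := by
    have hpg : IsPGroup 2 (Subgroup.center (P : Subgroup G)) := P.2.to_subgroup _
    rcases hpg.card_eq_or_dvd with e | e
    · exfalso
      have := Finite.one_lt_card_iff_nontrivial.2 hcn
      omega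
    · exact e
  obtain ⟨z, hz⟩ := exists_prime_orderOf_dvd_card' 2 hc2
  have hz' : orderOf (((z : (P : Subgroup G)) : G)) = 2 := by
    rw [Subgroup.orderOf_coe, Subgroup.orderOf_coe]; exact hz
  rw [← h.card_cen' hz']
  apply Subgroup.card_dvd_of_le
  intro p hp
  rw [Subgroup.mem_centralizer_singleton_iff]
  have := Subgroup.mem_center_iff.1 z.2 ⟨p, hp⟩
  exact congrArg Subtype.val this

theorem odd_inv (h : BSW t s K) : Odd (Inv G).card := by
  obtain ⟨P⟩ : Nonempty (Sylow 2 G) := inferInstance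
  obtain ⟨r, hr⟩ := h.sylow_card_dvd P
  have h1 := (P : Subgroup G).card_mul_index
  have h2 := h.card_G
  rw [← Nat.card_eq_fintype_card, ← h1, hr, mul_assoc] at h2
  have h3 : (P : Subgroup G).index = r * (Inv G).card :=
    Nat.eq_of_mul_eq_mul_left Nat.card_pos h2
  have h4 := P.not_dvd_index
  rw [Nat.odd_iff]
  by_contra hcon
  apply h4
  rw [h3]
  exact Dvd.dvd.mul_left (by omega) r

/-- integrality of the sum of a character over a subgroup. -/
theorem sum_sub_dvd {X : G → ℂ} (hX : IsCharacter G X) (Y : Subgroup G) [Fintype Y] :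
    ∃ a : ℕ, ∑ y : Y, X y = a * Nat.card Y := by
  obtain ⟨a, ha⟩ := inner_nat (char_restrict hX Y) (irr_char (irr_one' Y))
  refine ⟨a, ?_⟩
  unfold classInner at ha
  have hY0 : (Nat.card Y : ℂ) ≠ 0 := card_ne_zero Y
  simp only [one, map_one, mul_one] at ha
  rw [← ha]
  field_simp

theorem arith (m n x : ℕ) (δ c : ℤ) (hm : 4 ≤ m) (hn : Odd n) (hδ : δ = 1 ∨ δ = -1)
    (hx : (x : ℤ) = c * m + δ) (hx1 : 1 ≤ x)
    (e : (n : ℤ) * ((x : ℤ) - δ) ^ 2 = 2 * (m : ℤ) ^ 2 * x * (x + δ)) :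
    (x : ℤ) = 2 * m + δ ∧ (n : ℤ) = (2 * m + δ) * (m + δ) := by
  have hδ2 : δ * δ = 1 := by rcases hδ with r | r <;> rw [r] <;> norm_num
  have hm0 : (m : ℤ) ^ 2 ≠ 0 := by positivity
  have e1 : (n : ℤ) * c ^ 2 = 2 * (c * m + δ) * (c * m + 2 * δ) := by
    apply mul_left_cancel₀ hm0
    rw [hx] at e
    linear_combination e
  have e2 : c * (n * c - 2 * c * m ^ 2 - 6 * δ * m) = 4 := by
    linear_combination e1 + 4 * hδ2
  have hc0 : 0 ≤ c := by
    by_contra hneg
    push Not at hneg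
    have : c * m ≤ -1 * m := by
      apply mul_le_mul_of_nonneg_right (by omega) (by positivity)
    rcases hδ with r | r <;> rw [r] at hx <;> omega
  have hc4 : c ∣ 4 := ⟨_, e2.symm⟩
  have hcle : c ≤ 4 := Int.le_of_dvd (by norm_num) hc4
  obtain ⟨k, hk⟩ := hn
  have hnk : (n : ℤ) = 2 * k + 1 := by exact_mod_cast hk
  interval_cases c
  · norm_num at e2
  · exfalso
    have : (n : ℤ) = 2 * ((1 * m + δ) * (1 * m + 2 * δ)) := by linear_combination e1
    omega
  · constructor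
    · exact hx
    · apply mul_left_cancel₀ (show (4 : ℤ) ≠ 0 by norm_num)
      linear_combination e1
  · norm_num at hc4
  · exfalso
    have h5 : 4 * (n : ℤ) = (4 * m + δ) * (2 * m + δ) := by
      apply mul_left_cancel₀ (show (4 : ℤ) ≠ 0 by norm_num)
      linear_combination e1
    have h6 : 4 * (n : ℤ) = 2 * (4 * m * m + 3 * m * δ) + δ * δ := by rw [h5]; ring
    rw [hδ2] at h6
    omega

theorem main_four (h : BSW t s K) (hm : Nat.card K = 4) :
    ∃ (X : G → ℂ) (δ : ℤ), IsIrrCharacter G X ∧ (δ = 1 ∨ δ = -1) ∧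
      (∀ k ∈ K, k ≠ 1 → X k = δ) ∧
      ((Inv G).card : ℂ) * (X 1 - δ) ^ 2 = 2 * (Nat.card K : ℂ) ^ 2 * X 1 * (X 1 + δ) := by
  classical
  have hH : Nat.card (Subgroup.centralizer ({t} : Set G)) = 8 := by rw [h.card_cen, hm]
  have hpg : IsPGroup 2 (Subgroup.centralizer ({t} : Set G)) :=
    IsPGroup.of_card (n := 3) (by rw [hH]; norm_num)
  obtain ⟨P, hP⟩ := hpg.exists_le_sylow
  have hPH : (P : Subgroup G) = Subgroup.centralizer ({t} : Set G) := by
    symm
    apply Subgroup.eq_of_le_of_card_ge hP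
    rw [hH]
    have := h.sylow_card_dvd P
    rw [hm] at this
    exact Nat.le_of_dvd (by norm_num) this
  have hKs : (Ks K).card = 3 := by have := card_Ks (K := K); omega
  obtain ⟨σ, hσ, hσt⟩ := Finset.exists_mem_ne (s := Ks K) (by omega) t
  rw [mem_Ks] at hσ
  have hσσ : σ * σ ≠ 1 := by
    intro e
    rcases h.invol_K hσ.1 e with e' | e'
    · exact hσ.2 e'
    · exact hσt e'
  have hσo : orderOf σ = 4 := by
    have h1 : orderOf σ ∣ 4 := by
      rw [← hm, ← Subgroup.orderOf_mk σ hσ.1]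
      exact orderOf_dvd_natCard _
    have h2 : orderOf σ ≤ 4 := Nat.le_of_dvd (by norm_num) h1
    have h3 : orderOf σ ≠ 1 := fun e => hσ.2 (orderOf_eq_one_iff.1 e)
    have h4 : orderOf σ ≠ 2 := by
      intro e
      exact hσσ (mul_self_of_orderOf_two e)
    have h5 := orderOf_pos σ
    interval_cases (orderOf σ) <;> first | omega | (norm_num at h1)
  have hKle : ∀ k ∈ K, k ∈ (P : Subgroup G) := by
    intro k hk
    rw [hPH, Subgroup.mem_centralizer_singleton_iff]
    exact h.cen k hk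
  have hsP : s ∈ (P : Subgroup G) := by
    rw [hPH, Subgroup.mem_centralizer_singleton_iff]
    exact h.hst
  have D := DihS.of_card (P : Subgroup G) σ s 4 le_rfl ⟨2, rfl⟩ (hKle σ hσ.1) hsP hσo h.hs
    (h.hinv σ hσ.1) (by rw [hPH, hH])
  have hJ : σ ^ (4 / 2) = t := by
    have e1 : σ ^ (4 / 2) = σ * σ := by norm_num [sq]
    rw [e1]
    rcases h.invol_K (K.mul_mem hσ.1 hσ.1) (by
      have := pow_orderOf_eq_one σ
      rw [hσo] at this
      rw [← this, pow_succ, pow_succ, pow_succ, pow_one, mul_assoc, mul_assoc, mul_assoc]) with e' | e'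
    · exact absurd e' hσσ
    · exact e'
  have HD : D8C P σ s := ⟨D, by rw [hPH, hJ]⟩
  have hσs : orderOf (σ * s) = 2 := by
    apply h.invol_of_not_mem
    · rw [mul_assoc, h.hst, ← mul_assoc, h.cen σ hσ.1, mul_assoc]
    · intro e
      apply h.hsK
      have := K.mul_mem (K.inv_mem hσ.1) e
      rwa [inv_mul_cancel_left] at this
  obtain ⟨X, d, hd, hv, he⟩ := HD.exists_char (by rw [hJ]; exact h.conj _ _ h.ht h.hs)
    (by rw [hJ]; exact h.conj _ _ h.ht hσs)
  refine ⟨X, d, X.2, hd, ?_, ?_⟩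
  · intro k hk hk1
    have hz : Subgroup.zpowers σ = K := by
      apply Subgroup.eq_of_le_of_card_ge
      · rw [Subgroup.zpowers_le]; exact hσ.1
      · rw [Nat.card_zpowers, hσo, hm]
    rw [← hz, ← mem_powers_iff_mem_zpowers, mem_powers_iff_mem_range_orderOf, hσo] at hk
    simp only [Finset.mem_image, Finset.mem_range] at hk
    obtain ⟨j, hj, rfl⟩ := hk
    have hj0 : j ≠ 0 := by
      rintro rfl
      simp at hk1
    have h1 := hv (j : ZMod 4) (by
      intro e
      rw [ZMod.natCast_eq_zero_iff] at e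
      exact hj0 (Nat.eq_zero_of_dvd_of_lt e hj))
    rw [ZMod.val_natCast, Nat.mod_eq_of_lt hj] at h1
    exact h1
  · rw [he, hm]
    norm_num

/-- The character data of the configuration. -/
structure CD (t : G) (K : Subgroup G) (X : G → ℂ) (δ : ℤ) : Prop where
  irr : IsIrrCharacter G X
  sgn : δ = 1 ∨ δ = -1
  val : ∀ k ∈ K, k ≠ 1 → X k = δ
  deg : X 1 = ((2 * Nat.card K + δ : ℤ) : ℂ)
  inv : ((Inv G).card : ℤ) = (2 * Nat.card K + δ) * (Nat.card K + δ)

omit [Fintype G] in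
theorem even_card [Finite G] (h : BSW t s K) : 2 ∣ Nat.card K := by
  rw [← h.ht, ← Subgroup.orderOf_mk t h.htK]
  exact orderOf_dvd_natCard _

theorem exists_CD (h : BSW t s K) (hm : 4 ≤ Nat.card K) : ∃ X δ, CD t K X δ := by
  classical
  have := Fintype.ofFinite K
  have h0 : ∃ (X : G → ℂ) (δ : ℤ), IsIrrCharacter G X ∧ (δ = 1 ∨ δ = -1) ∧
      (∀ k ∈ K, k ≠ 1 → X k = δ) ∧
      ((Inv G).card : ℂ) * (X 1 - δ) ^ 2 = 2 * (Nat.card K : ℂ) ^ 2 * X 1 * (X 1 + δ) := by
    by_cases h6 : 6 ≤ Nat.card K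
    · exact h.main_ge_six h6
    · apply h.main_four
      have := h.even_card
      omega
  obtain ⟨X, δ, hX, hδ, hv, he⟩ := h0
  obtain ⟨x, hx⟩ := char_one_nat (irr_char hX)
  obtain ⟨a, ha⟩ := sum_sub_dvd (irr_char hX) K
  have h1 : ∑ y : K, X y = x + (Nat.card K - 1) * δ := by
    rw [← Finset.add_sum_erase Finset.univ _ (Finset.mem_univ (1 : K))]
    have h2 : ∀ y ∈ (Finset.univ : Finset K).erase 1, X (y : G) = δ := fun y hy =>
      hv y y.2 (fun e => (Finset.ne_of_mem_erase hy) (Subtype.ext e))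
    rw [Finset.sum_congr rfl h2, Finset.sum_const, Finset.card_erase_of_mem (Finset.mem_univ _),
      Finset.card_univ, nsmul_eq_mul, ← Nat.card_eq_fintype_card, Subgroup.coe_one, hx,
      Nat.cast_sub Nat.card_pos]
    simp
  rw [h1] at ha
  have hxZ : (x : ℤ) = (a - δ) * Nat.card K + δ := by
    have : (x : ℂ) = ((a : ℂ) - δ) * Nat.card K + δ := by linear_combination ha
    exact_mod_cast this
  have hx1 : 1 ≤ x := by
    rcases Nat.eq_zero_or_pos x with e | e
    · exfalso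
      apply irr_one_ne_zero hX
      rw [hx, e]; simp
    · exact e
  rw [hx] at he
  have heZ : ((Inv G).card : ℤ) * ((x : ℤ) - δ) ^ 2 = 2 * (Nat.card K : ℤ) ^ 2 * x * (x + δ) := by
    exact_mod_cast he
  obtain ⟨r1, r2⟩ := arith (Nat.card K) (Inv G).card x δ (a - δ) hm h.odd_inv hδ hxZ hx1 heZ
  refine ⟨X, δ, hX, hδ, hv, ?_, r2⟩
  rw [hx]
  exact_mod_cast r1

end BSW

end Cfsg.Agent.Lib.Helper75
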