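import Mathlib
import Cfsg.Agent.Lib.Helper75.BSW6
import Cfsg.Agent.Lib.Helper80.GaloisSum

/-!
# The Brauer-Suzuki-Wall configuration: the values of `X` (helper75)
-/

set_option autoImplicit false

namespace Cfsg.Agent.Lib.Helper75

open Cfsg Cfsg.Agent.Lib.Helper3 Cfsg.Agent.Lib.Helper15
open scoped ComplexConjugate

namespace BSW

variable {G : Type*} [Group G] [Fintype G] {t s : G} {K : Subgroup G}

open Classical in
/-- the `K`-type elements. -/
noncomputable def KTs (K : Subgroup G) : Finset G := Finset.univ.filter fun g => KT K g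

open Classical in
/-- the remaining nonidentity elements. -/
noncomputable def Ws (K : Subgroup G) : Finset G := Finset.univ.filter fun g => g ≠ 1 ∧ ¬ KT K g

theorem mem_KTs {g : G} : g ∈ KTs K ↔ KT K g := by
  classical
  simp [KTs]

theorem mem_Ws {g : G} : g ∈ Ws K ↔ g ≠ 1 ∧ ¬ KT K g := by
  classical
  simp [Ws]

theorem sum_split {R : Type*} [AddCommMonoid R] (F : G → R) :
    ∑ g, F g = F 1 + (∑ g ∈ KTs K, F g + ∑ g ∈ Ws K, F g) := by
  classical
  rw [← Finset.add_sum_erase Finset.univ F (Finset.mem_univ 1)]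
  congr 1
  rw [← Finset.sum_union]
  · apply Finset.sum_congr _ fun _ _ => rfl
    ext g
    simp only [Finset.mem_erase, Finset.mem_univ, and_true, Finset.mem_union, mem_KTs, mem_Ws]
    constructor
    · intro hg
      by_cases hk : KT K g
      · exact Or.inl hk
      · exact Or.inr ⟨hg, hk⟩
    · rintro (hk | hk)
      · exact hk.1
      · exact hk.1
  · rw [Finset.disjoint_left]
    intro g hg hg'
    rw [mem_KTs] at hg
    rw [mem_Ws] at hg'
    exact hg'.2 hg

theorem card_KTs (h : BSW t s K) : (KTs K).card + (Inv G).card = (Inv G).card * Nat.card K := by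
  classical
  have h1 := h.sum_KT (R := ℕ) (fun _ => 1) (fun _ _ => rfl)
  simp only [Finset.sum_const, smul_eq_mul, mul_one, Nat.cast_id] at h1
  rw [h.card_G] at h1
  have h2 := card_Ks (K := K)
  have h3 : (KTs K).card = (Inv G).card * (Ks K).card := by
    have hpos : 0 < 2 * Nat.card K := by have := Nat.card_pos (α := K); omega
    apply Nat.eq_of_mul_eq_mul_left hpos
    unfold KTs
    rw [h1]; ring
  rw [h3, ← h2]; ring

variable {X : G → ℂ} {δ : ℤ}

theorem CD.val_KT (c : CD t K X δ) {g : G} (hg : KT K g) : X g = δ := by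
  obtain ⟨h1, d, hd⟩ := hg
  rw [← irr_cf c.irr g d]
  apply c.val _ hd
  intro e
  apply h1
  have := congrArg (fun y => d⁻¹ * y * d) e
  simpa [mul_assoc] using this

theorem CD.sq (c : CD t K X δ) : δ * δ = 1 := by
  rcases c.sgn with e | e <;> rw [e] <;> norm_num

theorem CD.ne_one (h : BSW t s K) (c : CD t K X δ) : X ≠ one G := by
  intro e
  have h1 := c.deg
  rw [e] at h1
  simp only [one] at h1
  have h2 : (1 : ℤ) = 2 * Nat.card K + δ := by exact_mod_cast h1
  have h3 := h.even_card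
  have h4 := Nat.card_pos (α := K)
  rcases c.sgn with e | e <;> rw [e] at h2 <;> omega

/-- the sum of `X` over the remaining elements. -/
theorem CD.sum_W (h : BSW t s K) (c : CD t K X δ) :
    ∑ g ∈ Ws K, X g = -(((δ * (δ * (2 * Nat.card K + δ) + (Inv G).card * (Nat.card K - 1)) : ℤ)) : ℂ) := by
  have h1 := classInner_irr_ne c.irr (irr_one' G) (c.ne_one h)
  unfold classInner at h1
  have hG0 : (Nat.card G : ℂ) ≠ 0 := card_ne_zero G
  have h2 := (mul_eq_zero.1 h1).resolve_left (inv_ne_zero hG0)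
  simp only [one, map_one, mul_one] at h2
  rw [sum_split (K := K), Finset.sum_congr rfl (fun g hg => c.val_KT (mem_KTs.1 hg)),
    Finset.sum_const, nsmul_eq_mul, c.deg] at h2
  have h3 : ((KTs K).card : ℂ) = (Inv G).card * (Nat.card K - 1) := by
    have := h.card_KTs
    have h4 : ((KTs K).card : ℂ) + (Inv G).card = (Inv G).card * Nat.card K := by exact_mod_cast this
    linear_combination h4
  rw [h3] at h2
  have hδ : (δ : ℂ) * δ = 1 := by exact_mod_cast c.sq
  push_cast at h2 ⊢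
  linear_combination h2 + (2 * (Nat.card K : ℂ) + δ) * hδ

theorem CD.sum_W_sq (h : BSW t s K) (c : CD t K X δ) :
    ∑ g ∈ Ws K, X g * conj (X g)
      = (((δ * (2 * Nat.card K + δ) + (Inv G).card * (Nat.card K - 1)) : ℤ) : ℂ) := by
  have h1 := classInner_irr_self c.irr
  unfold classInner at h1
  have hG0 : (Nat.card G : ℂ) ≠ 0 := card_ne_zero G
  have h2 : ∑ g, X g * conj (X g) = Nat.card G := by
    field_simp at h1
    exact h1
  have hδ : (δ : ℂ) * δ = 1 := by exact_mod_cast c.sq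
  have h5 : ∀ g ∈ KTs K, X g * conj (X g) = 1 := by
    intro g hg
    rw [c.val_KT (mem_KTs.1 hg)]
    simp [hδ]
  rw [sum_split (K := K), Finset.sum_congr rfl h5,
    Finset.sum_const, nsmul_eq_mul, c.deg, Nat.card_eq_fintype_card (α := G), h.card_G] at h2
  have h3 : ((KTs K).card : ℂ) = (Inv G).card * (Nat.card K - 1) := by
    have := h.card_KTs
    have h4 : ((KTs K).card : ℂ) + (Inv G).card = (Inv G).card * Nat.card K := by exact_mod_cast this
    linear_combination h4
  rw [h3] at h2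
  have h6 : ((Inv G).card : ℂ) = (2 * Nat.card K + δ) * (Nat.card K + δ) := by exact_mod_cast c.inv
  simp only [map_intCast] at h2
  push_cast at h2 ⊢
  linear_combination h2 + 2 * h6

theorem Ws_pow (h : BSW t s K) {g : G} (hg : g ∈ Ws K) {k : ℕ} (hk : k.Coprime (Fintype.card G)) :
    g ^ k ∈ Ws K := by
  rw [mem_Ws] at hg ⊢
  constructor
  · intro e
    apply hg.1
    have h1 : orderOf g ∣ k := orderOf_dvd_of_pow_eq_one e
    have h2 : orderOf g ∣ Fintype.card G := orderOf_dvd_card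
    have h3 : orderOf g ∣ 1 := by
      rw [← Nat.Coprime.gcd_eq_one hk]
      exact Nat.dvd_gcd h1 h2
    exact orderOf_eq_one_iff.1 (Nat.dvd_one.1 h3)
  · intro e
    exact hg.2 (h.KT_of_pow e)

open Classical in
theorem CD.val_W (h : BSW t s K) (c : CD t K X δ) :
    (∀ g ∈ Ws K, X g = 0 ∨ X g = -(δ : ℂ)) ∧
    (((Ws K).filter (fun g => X g ≠ 0)).card : ℤ)
      = δ * (2 * Nat.card K + δ) + (Inv G).card * (Nat.card K - 1) := by
  obtain ⟨M, hM⟩ : ∃ M : ℤ, M = δ * (2 * Nat.card K + δ) + (Inv G).card * (Nat.card K - 1) :=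
    ⟨_, rfl⟩
  have s1 := c.sum_W h
  have s2 := c.sum_W_sq h
  rw [← hM] at s1 s2 ⊢
  have h1 := Cfsg.Agent.Lib.Helper80.card_filter_le_sum_norm_sq (irr_char c.irr) (Ws K)
    (fun g hg k hk => h.Ws_pow hg hk)
  have s2' : ∑ g ∈ Ws K, ‖X g‖ ^ 2 = (M : ℝ) := by
    have : ((∑ g ∈ Ws K, ‖X g‖ ^ 2 : ℝ) : ℂ) = ((M : ℝ) : ℂ) := by
      push_cast
      rw [← s2]
      refine Finset.sum_congr rfl fun g _ => ?_
      rw [Complex.mul_conj, Complex.normSq_eq_norm_sq]
      push_cast
      rfl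
    exact_mod_cast this
  have s1' : ∑ g ∈ Ws K, (X g).re = -((δ : ℝ) * M) := by
    have := congrArg Complex.re s1
    rw [Complex.re_sum] at this
    rw [this]
    simp
  have hδ : (δ : ℝ) * δ = 1 := by exact_mod_cast c.sq
  have e1 : ∀ z : ℂ, ‖z + (δ : ℂ)‖ ^ 2 = ‖z‖ ^ 2 + 2 * δ * z.re + 1 := by
    intro z
    rw [← Complex.normSq_eq_norm_sq, ← Complex.normSq_eq_norm_sq, Complex.normSq_apply,
      Complex.normSq_apply]
    simp only [Complex.add_re, Complex.intCast_re, Complex.add_im, Complex.intCast_im, add_zero]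
    linear_combination hδ
  have e2 : ∑ g ∈ (Ws K).filter (fun g => X g ≠ 0), ‖X g + (δ : ℂ)‖ ^ 2
      = (((Ws K).filter (fun g => X g ≠ 0)).card : ℝ) - M := by
    have f1 : ∑ g ∈ (Ws K).filter (fun g => X g ≠ 0), ‖X g‖ ^ 2 = ∑ g ∈ Ws K, ‖X g‖ ^ 2 := by
      apply Finset.sum_filter_of_ne
      intro g _ hg e
      apply hg
      rw [e]; simp
    have f2 : ∑ g ∈ (Ws K).filter (fun g => X g ≠ 0), (X g).re = ∑ g ∈ Ws K, (X g).re := by
      apply Finset.sum_filter_of_ne
      intro g _ hg e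
      apply hg
      rw [e]; simp
    rw [Finset.sum_congr rfl fun g _ => e1 (X g), Finset.sum_add_distrib, Finset.sum_add_distrib,
      ← Finset.mul_sum, Finset.sum_const, nsmul_eq_mul, mul_one, f1, f2, s2', s1']
    linear_combination (-2 * (M : ℝ)) * hδ
  have e3 : 0 ≤ ∑ g ∈ (Ws K).filter (fun g => X g ≠ 0), ‖X g + (δ : ℂ)‖ ^ 2 :=
    Finset.sum_nonneg fun g _ => by positivity
  rw [s2'] at h1
  have e4 : ∑ g ∈ (Ws K).filter (fun g => X g ≠ 0), ‖X g + (δ : ℂ)‖ ^ 2 = 0 := by
    apply le_antisymm _ e3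
    rw [e2]; linarith
  constructor
  · intro g hg
    by_cases h0 : X g = 0
    · exact Or.inl h0
    · right
      have := (Finset.sum_eq_zero_iff_of_nonneg (fun g _ => by positivity)).1 e4 g
        (Finset.mem_filter.2 ⟨hg, h0⟩)
      have h2 : ‖X g + (δ : ℂ)‖ = 0 := by
        exact pow_eq_zero_iff (two_ne_zero) |>.mp this
      rw [norm_eq_zero] at h2
      exact eq_neg_of_add_eq_zero_left h2
  · rw [e4] at e2
    have : (((Ws K).filter (fun g => X g ≠ 0)).card : ℝ) = M := by linarith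
    exact_mod_cast this

open Classical in
/-- the zeros of `X`. -/
noncomputable def Us (K : Subgroup G) (X : G → ℂ) : Finset G := (Ws K).filter fun g => X g = 0

open Classical in
/-- the remaining elements where `X` does not vanish. -/
noncomputable def Vs (K : Subgroup G) (X : G → ℂ) : Finset G := (Ws K).filter fun g => X g ≠ 0

theorem mem_Us {g : G} : g ∈ Us K X ↔ g ∈ Ws K ∧ X g = 0 := by
  classical
  simp [Us]

theorem mem_Vs {g : G} : g ∈ Vs K X ↔ g ∈ Ws K ∧ X g ≠ 0 := by
  classical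
  simp [Vs]

theorem sum_Ws {R : Type*} [AddCommMonoid R] (F : G → R) :
    ∑ g ∈ Ws K, F g = ∑ g ∈ Us K X, F g + ∑ g ∈ Vs K X, F g := by
  classical
  unfold Us Vs
  exact (Finset.sum_filter_add_sum_filter_not _ _ _).symm

theorem CD.card_Vs (h : BSW t s K) (c : CD t K X δ) :
    ((Vs K X).card : ℤ) = (2 * Nat.card K + δ) * Nat.card K * (Nat.card K - 1 + δ) := by
  classical
  have h1 := (c.val_W h).2
  unfold Vs
  rw [h1, c.inv]
  ring

theorem CD.card_Us (h : BSW t s K) (c : CD t K X δ) :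
    ((Us K X).card : ℤ) = (2 * Nat.card K + δ) ^ 2 - 1 := by
  have h1 := sum_split (K := K) (R := ℕ) (fun _ => 1)
  rw [sum_Ws (X := X)] at h1
  simp only [Finset.sum_const, smul_eq_mul, mul_one, Finset.card_univ] at h1
  have h2 := h.card_KTs
  have h3 := c.card_Vs h
  have h4 := h.card_G
  have h1' : (Fintype.card G : ℤ) = 1 + ((KTs K).card + ((Us K X).card + (Vs K X).card)) := by
    exact_mod_cast h1
  have h2' : ((KTs K).card : ℤ) + (Inv G).card = (Inv G).card * Nat.card K := by exact_mod_cast h2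
  have h4' : (Fintype.card G : ℤ) = 2 * Nat.card K * (Inv G).card := by exact_mod_cast h4
  have h5 := c.inv
  have h6 := c.sq
  rw [h4', h3] at h1'
  have h7 : ((Us K X).card : ℤ) = (Inv G).card * (Nat.card K + 1) - 1
      - (2 * Nat.card K + δ) * Nat.card K * (Nat.card K - 1 + δ) := by
    linear_combination (-1 : ℤ) * h1' - h2'
  rw [h7, h5]
  ring

theorem CD.val_t (h : BSW t s K) (c : CD t K X δ) : X t = δ := c.val t h.htK h.t_ne

/-- the number of pairs of involutions with product in `V`. -/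
theorem CD.sum_bet_Vs (h : BSW t s K) (c : CD t K X δ) :
    ((∑ g ∈ Vs K X, bet g : ℕ) : ℤ) = (Inv G).card * Nat.card K * (Nat.card K - 1 + δ) := by
  have h1 := h.oneClass.sum_irr ⟨X, c.irr⟩
  simp only at h1
  rw [sum_pairs, sum_split (K := K), sum_Ws (X := X), bet_one, c.deg, c.val_t h] at h1
  have e1 : ∑ g ∈ KTs K, (bet g : ℂ) * X g = (KTs K).card * (Nat.card K * δ) := by
    rw [Finset.sum_congr rfl fun g hg => by
      rw [h.bet_KT (mem_KTs.1 hg), c.val_KT (mem_KTs.1 hg)], Finset.sum_const, nsmul_eq_mul]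
  have e2 : ∑ g ∈ Us K X, (bet g : ℂ) * X g = 0 :=
    Finset.sum_eq_zero fun g hg => by rw [(mem_Us.1 hg).2, mul_zero]
  have e3 : ∑ g ∈ Vs K X, (bet g : ℂ) * X g = -(δ * ((∑ g ∈ Vs K X, bet g : ℕ) : ℂ)) := by
    push_cast
    rw [Finset.mul_sum, ← Finset.sum_neg_distrib]
    refine Finset.sum_congr rfl fun g hg => ?_
    rw [mem_Vs] at hg
    rw [((c.val_W h).1 g hg.1).resolve_left hg.2]
    ring
  rw [e1, e2, e3] at h1
  have h3 : ((KTs K).card : ℂ) = (Inv G).card * (Nat.card K - 1) := by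
    have := h.card_KTs
    have h4 : ((KTs K).card : ℂ) + (Inv G).card = (Inv G).card * Nat.card K := by exact_mod_cast this
    linear_combination h4
  have h6 : ((Inv G).card : ℂ) = (2 * Nat.card K + δ) * (Nat.card K + δ) := by exact_mod_cast c.inv
  have hδ : (δ : ℂ) * δ = 1 := by exact_mod_cast c.sq
  have hq0 : (2 * (Nat.card K : ℂ) + δ) ≠ 0 := by
    have := irr_one_ne_zero c.irr
    rw [c.deg] at this
    push_cast at this
    exact this
  rw [h3] at h1
  push_cast at h1
  have h7 : ((Inv G).card : ℂ) ^ 2 * (δ : ℂ) ^ 2 / (2 * (Nat.card K : ℂ) + δ)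
      = (Inv G).card * (Nat.card K + δ) := by
    rw [pow_two (δ : ℂ), hδ, mul_one, pow_two]
    nth_rewrite 2 [h6]
    field_simp
  rw [h7] at h1
  have h8 : ((∑ g ∈ Vs K X, bet g : ℕ) : ℂ)
      = (Inv G).card * Nat.card K * (Nat.card K - 1 + δ) := by
    push_cast
    have h9 : (δ : ℂ) * (δ * ∑ g ∈ Vs K X, (bet g : ℂ)) = δ * (((Inv G).card : ℂ) * (2 * Nat.card K + δ)
        + (Inv G).card * (Nat.card K - 1) * (Nat.card K * δ) - (Inv G).card * (Nat.card K + δ)) := by
      congr 1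
      linear_combination (-1 : ℂ) * h1
    rw [← mul_assoc, hδ, one_mul] at h9
    rw [h9]
    linear_combination ((Inv G).card * (Nat.card K : ℂ) ^ 2 - (Inv G).card * (Nat.card K : ℂ)) * hδ
  exact_mod_cast h8

theorem CD.sum_bet_Us (h : BSW t s K) (c : CD t K X δ) :
    ((∑ g ∈ Us K X, bet g : ℕ) : ℤ) = 2 * Nat.card K * (Inv G).card * (1 + δ) := by
  have h1 := sum_pairs (G := G) (R := ℕ) (fun _ => 1)
  simp only [Finset.sum_const, smul_eq_mul, mul_one, Nat.cast_id] at h1
  rw [sum_split (K := K), sum_Ws (X := X), bet_one,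
    Finset.sum_congr rfl fun g hg => h.bet_KT (mem_KTs.1 hg), Finset.sum_const, smul_eq_mul] at h1
  have h2 := c.sum_bet_Vs h
  have h3 := h.card_KTs
  have h1' : ((Inv G).card : ℤ) * (Inv G).card = (Inv G).card + ((KTs K).card * Nat.card K
      + (((∑ g ∈ Us K X, bet g : ℕ) : ℤ) + ((∑ g ∈ Vs K X, bet g : ℕ) : ℤ))) := by
    exact_mod_cast h1
  have h3' : ((KTs K).card : ℤ) + (Inv G).card = (Inv G).card * Nat.card K := by exact_mod_cast h3
  rw [h2] at h1'
  have h5 := c.inv
  have h6 := c.sq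
  have h7 : ((∑ g ∈ Us K X, bet g : ℕ) : ℤ) = (Inv G).card * ((Inv G).card - 1
      - (Nat.card K - 1) * Nat.card K - Nat.card K * (Nat.card K - 1 + δ)) := by
    linear_combination (-1 : ℤ) * h1' - (Nat.card K : ℤ) * h3'
  rw [h7]
  nth_rewrite 2 [h5]
  linear_combination ((Inv G).card : ℤ) * h6

end BSW

end Cfsg.Agent.Lib.Helper75
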