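import Mathlib
import Cfsg.Agent.Lib.Helper75.BSW7
import Cfsg.Agent.Lib.Helper1.Tools

/-!
# The Brauer-Suzuki-Wall configuration: centralizers of real elements (helper75)
-/

set_option autoImplicit false

namespace Cfsg.Agent.Lib.Helper75

open Cfsg

namespace BSW

variable {G : Type*} [Group G] [Fintype G] {t s : G} {K : Subgroup G}

/-- an abelian subgroup inverted by the involution `a`, equal to the centralizer of each of its
nonidentity elements, and avoiding the `K`-type elements. -/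
structure RealSub (K : Subgroup G) (a : G) (A : Subgroup G) : Prop where
  inv_a : orderOf a = 2
  inverts : ∀ y ∈ A, a * y * a⁻¹ = y⁻¹
  W : ∀ y ∈ A, y ≠ 1 → y ∈ Ws K
  cen : ∀ y ∈ A, y ≠ 1 → Subgroup.centralizer ({y} : Set G) = A

omit [Fintype G] in
theorem mem_cen {g y : G} : y ∈ Subgroup.centralizer ({g} : Set G) ↔ y * g = g * y := by
  rw [Subgroup.mem_centralizer_singleton_iff]

theorem real_aux (h : BSW t s K) {g a : G} (hg : g ∈ Ws K) (ha : orderOf a = 2)
    (hag : a * g * a⁻¹ = g⁻¹) :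
    (∀ y ∈ Subgroup.centralizer ({g} : Set G), y ≠ 1 → y ∈ Ws K) ∧
    (∀ y ∈ Subgroup.centralizer ({g} : Set G), a * y * a⁻¹ = y⁻¹) ∧
    (∀ x ∈ Subgroup.centralizer ({g} : Set G), ∀ y ∈ Subgroup.centralizer ({g} : Set G),
      x * y = y * x) := by
  rw [mem_Ws] at hg
  have hW : ∀ y ∈ Subgroup.centralizer ({g} : Set G), y ≠ 1 → y ∈ Ws K := by
    intro y hy hy1
    rw [mem_Ws]
    refine ⟨hy1, fun hk => hg.2 (h.KT_comm hk ?_ hg.1)⟩
    exact (mem_cen.1 hy).symm
  have hinv : ∀ y ∈ Subgroup.centralizer ({g} : Set G), a * y * a⁻¹ = y⁻¹ := by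
    apply inverts_of_fpf _ a (mul_self_of_orderOf_two ha)
    · intro y hy
      rw [mem_cen] at hy ⊢
      have h1 : a * y * a⁻¹ * g⁻¹ = g⁻¹ * (a * y * a⁻¹) := by
        rw [← hag]
        calc a * y * a⁻¹ * (a * g * a⁻¹) = a * (y * g) * a⁻¹ := by group
          _ = a * (g * y) * a⁻¹ := by rw [hy]
          _ = _ := by group
      have := congrArg (fun z => g * z * g) h1
      simp only [mul_assoc, inv_mul_cancel, mul_one, mul_inv_cancel_left] at this
      simpa [mul_assoc] using this.symm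
    · intro y hy hfix
      by_contra hy1
      have h1 := hW y hy hy1
      rw [mem_Ws] at h1
      apply h1.2
      apply h.KT_comm (h.KT_invol ha) _ hy1
      have := congrArg (· * a) hfix
      simpa using this.symm
  refine ⟨hW, hinv, ?_⟩
  intro x hx y hy
  have h1 := hinv (x * y) (Subgroup.mul_mem _ hx hy)
  have h2 : a * (x * y) * a⁻¹ = (a * x * a⁻¹) * (a * y * a⁻¹) := by group
  rw [h2, hinv x hx, hinv y hy, mul_inv_rev] at h1
  have h3 := congrArg (fun z => z⁻¹) h1
  simpa using h3.symm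

theorem real_sub (h : BSW t s K) {g a : G} (hg : g ∈ Ws K) (ha : orderOf a = 2)
    (hag : a * g * a⁻¹ = g⁻¹) : RealSub K a (Subgroup.centralizer ({g} : Set G)) := by
  obtain ⟨hW, hinv, hcomm⟩ := h.real_aux hg ha hag
  refine ⟨ha, hinv, hW, ?_⟩
  intro y hy hy1
  obtain ⟨-, -, hcomm'⟩ := h.real_aux (hW y hy hy1) ha (hinv y hy)
  apply le_antisymm
  · intro z hz
    rw [mem_cen]
    apply hcomm' z hz g
    rw [mem_cen]
    exact (mem_cen.1 hy).symm
  · intro z hz
    rw [mem_cen]
    exact hcomm z hz y hy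

namespace RealSub

variable {a : G} {A : Subgroup G}

theorem comm (r : RealSub K a A) : ∀ x ∈ A, ∀ y ∈ A, x * y = y * x := by
  intro x hx y hy
  by_cases hy1 : y = 1
  · rw [hy1]; simp
  · have := r.cen y hy hy1
    rw [← this, mem_cen] at hx
    exact hx

theorem no_invol (h : BSW t s K) (r : RealSub K a A) {y : G} (hy : y ∈ A) : orderOf y ≠ 2 := by
  intro e
  have := r.W y hy (ne_one_of_orderOf_two e)
  rw [mem_Ws] at this
  exact this.2 (h.KT_invol e)

theorem odd_card (h : BSW t s K) (r : RealSub K a A) : Odd (Nat.card A) := by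
  rw [← Nat.not_even_iff_odd]
  intro he
  obtain ⟨y, hy⟩ := exists_prime_orderOf_dvd_card' 2 he.two_dvd
  apply r.no_invol h y.2
  rw [Subgroup.orderOf_coe]; exact hy

theorem sq_ne (h : BSW t s K) (r : RealSub K a A) {y : G} (hy : y ∈ A) (hy1 : y ≠ 1) :
    y * y ≠ 1 := fun e => r.no_invol h hy (orderOf_two_of e hy1)

/-- the number of involutions inverting a nonidentity element of `A`. -/
theorem bet_eq (h : BSW t s K) (r : RealSub K a A) {y : G} (hy : y ∈ A) (hy1 : y ≠ 1) :
    bet y = Nat.card A := by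
  classical
  have ha' : a⁻¹ = a := inv_of_orderOf_two r.inv_a
  have haa : a * a = 1 := mul_self_of_orderOf_two r.inv_a
  have h1 : Nat.card A = (Finset.univ.filter fun x : G => x ∈ A).card := by
    rw [Nat.card_eq_fintype_card, Fintype.card_subtype]
  rw [h1]
  unfold bet
  apply Finset.card_bij (fun b _ => a * b)
  · intro b hb
    simp only [Finset.mem_filter, mem_Inv, Finset.mem_univ, true_and] at hb ⊢
    have h2 := inverts_of_mem_bet hb.1 hb.2
    rw [← r.cen y hy hy1, mem_cen]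
    have h3 := r.inverts y hy
    have h4 : b * y = y⁻¹ * b := by
      have := congrArg (· * b) h2
      simpa using this
    have h5 : a * y⁻¹ = y * a := by
      have := congrArg (fun z => a * z * a) h3
      simp only [ha'] at this
      have e1 : a * (a * y * a) * a = (a * a) * y * (a * a) := by group
      rw [e1, haa, one_mul, mul_one] at this
      have e2 := congrArg (· * a) this
      simp only [mul_assoc, haa, mul_one] at e2
      exact e2.symm
    calc a * b * y = a * (b * y) := by group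
      _ = a * (y⁻¹ * b) := by rw [h4]
      _ = (a * y⁻¹) * b := by group
      _ = y * a * b := by rw [h5]
      _ = y * (a * b) := by group
  · intro b _ b' _ hbb
    exact mul_left_cancel hbb
  · intro z hz
    simp only [Finset.mem_filter, Finset.mem_univ, true_and] at hz
    refine ⟨a * z, ?_, by rw [← mul_assoc, haa, one_mul]⟩
    simp only [Finset.mem_filter, mem_Inv]
    have key : ∀ w ∈ A, orderOf (a * w) = 2 := by
      intro w hw
      apply orderOf_two_of
      · have h3 := r.inverts w hw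
        rw [ha'] at h3
        calc a * w * (a * w) = (a * w * a) * w := by group
          _ = 1 := by rw [h3]; group
      · intro e
        have h4 : w = a := by
          have : w = a⁻¹ := eq_inv_of_mul_eq_one_right e
          rw [this, ha']
        exact r.no_invol h hw (by rw [h4]; exact r.inv_a)
    refine ⟨key z hz, ?_⟩
    rw [mul_assoc]
    exact key _ (A.mul_mem hz hy)

/-- elements conjugating a nonidentity element of `A` into `A` normalize `A`. -/
theorem mem_normalizer (r : RealSub K a A) {y e : G} (hy : y ∈ A) (hy1 : y ≠ 1)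
    (he : e * y * e⁻¹ ∈ A) : e ∈ Subgroup.normalizer (A : Set G) := by
  have hy1' : e * y * e⁻¹ ≠ 1 := by
    intro e2
    apply hy1
    have := congrArg (fun z => e⁻¹ * z * e) e2
    simpa [mul_assoc] using this
  have key : ∀ z, z ∈ A ↔ e * z * e⁻¹ ∈ A := by
    intro z
    have q1 : z ∈ A ↔ z * y = y * z := by rw [← r.cen y hy hy1, mem_cen]
    have q2 : e * z * e⁻¹ ∈ A ↔ e * z * e⁻¹ * (e * y * e⁻¹) = e * y * e⁻¹ * (e * z * e⁻¹) := by
      rw [← r.cen _ he hy1', mem_cen]
    rw [q1, q2]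
    constructor
    · intro hz
      calc e * z * e⁻¹ * (e * y * e⁻¹) = e * (z * y) * e⁻¹ := by group
        _ = e * (y * z) * e⁻¹ := by rw [hz]
        _ = _ := by group
    · intro hz
      have := congrArg (fun w => e⁻¹ * w * e) hz
      have e1 : e⁻¹ * (e * z * e⁻¹ * (e * y * e⁻¹)) * e = z * y := by group
      have e2 : e⁻¹ * (e * y * e⁻¹ * (e * z * e⁻¹)) * e = y * z := by group
      rw [e1, e2] at this
      exact this
  rw [Subgroup.mem_normalizer_iff]
  exact key

theorem inf_K (r : RealSub K a A) : ∀ y ∈ A, y ∈ K → y = 1 := by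
  intro y hy hyK
  by_contra hy1
  have := r.W y hy hy1
  rw [mem_Ws] at this
  exact this.2 ⟨hy1, 1, by simpa using hyK⟩

theorem eq_one_of_comm_invol (h : BSW t s K) (r : RealSub K a A) {y b : G} (hy : y ∈ A)
    (hb : orderOf b = 2) (hyb : y * b = b * y) : y = 1 := by
  by_contra hy1
  have := r.W y hy hy1
  rw [mem_Ws] at this
  exact this.2 (h.KT_comm (h.KT_invol hb) hyb hy1)

/-- the normalizer of `A` when `A` is inverted by `t`. -/
theorem normalizer_decomp (h : BSW t s K) (r : RealSub K t A) (hA : A ≠ ⊥) :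
    ∀ e ∈ Subgroup.normalizer (A : Set G), ∃ w ∈ A, ∃ k ∈ K,
      k ∈ Subgroup.normalizer (A : Set G) ∧ e = w * k := by
  intro e he
  obtain ⟨y, hy, hy1⟩ := (Subgroup.ne_bot_iff_exists_ne_one.1 hA : ∃ y : A, y ≠ 1) |>.elim
    (fun y hy => (⟨y.1, y.2, fun e => hy (Subtype.ext e)⟩ : ∃ y, y ∈ A ∧ y ≠ 1))
  have ht' : t⁻¹ = t := inv_of_orderOf_two h.ht
  have hN := Subgroup.mem_normalizer_iff.1 he
  have hN' : ∀ z, z ∈ A → e⁻¹ * z * e ∈ A := by
    intro z hz
    rw [hN]
    have : e * (e⁻¹ * z * e) * e⁻¹ = z := by group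
    rw [this]; exact hz
  -- `b = e t e⁻¹` inverts `A`
  have hb : ∀ z ∈ A, (e * t * e⁻¹) * z * (e * t * e⁻¹)⁻¹ = z⁻¹ := by
    intro z hz
    have h1 := r.inverts _ (hN' z hz)
    calc (e * t * e⁻¹) * z * (e * t * e⁻¹)⁻¹ = e * (t * (e⁻¹ * z * e) * t⁻¹) * e⁻¹ := by group
      _ = e * (e⁻¹ * z * e)⁻¹ * e⁻¹ := by rw [h1]
      _ = z⁻¹ := by group
  obtain ⟨z, hz⟩ : ∃ z, z = t * (e * t * e⁻¹) := ⟨_, rfl⟩
  have hzA : z ∈ A := by
    rw [← r.cen y hy hy1, mem_cen]
    have h1 : z * y * z⁻¹ = y := by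
      rw [hz]
      calc t * (e * t * e⁻¹) * y * (t * (e * t * e⁻¹))⁻¹
          = t * ((e * t * e⁻¹) * y * (e * t * e⁻¹)⁻¹) * t⁻¹ := by group
        _ = t * y⁻¹ * t⁻¹ := by rw [hb y hy]
        _ = y := by rw [r.inverts _ (A.inv_mem hy), inv_inv]
    have := congrArg (· * z) h1
    simpa using this
  have hbz : e * t * e⁻¹ = t * z := by
    rw [hz, ← mul_assoc, h.tt, one_mul]
  obtain ⟨k0, hk0⟩ := r.odd_card h
  have hzpow : z ^ (2 * k0 + 1) = 1 := by
    rw [← hk0]
    have := pow_card_eq_one' (x := (⟨z, hzA⟩ : A))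
    exact congrArg Subtype.val this
  obtain ⟨w, hw⟩ : ∃ w, w = z ^ k0 := ⟨_, rfl⟩
  have hwA : w ∈ A := by rw [hw]; exact A.pow_mem hzA _
  have hww : w * w * z = 1 := by
    rw [hw, ← pow_add, ← pow_succ, ← hzpow]
    congr 1; ring
  have hwt : w * t * w⁻¹ = t * z := by
    have h1 := r.inverts _ (A.inv_mem hwA)
    rw [inv_inv] at h1
    -- t w⁻¹ t⁻¹ = w
    have h2 : w * t = t * w⁻¹ := by
      have := congrArg (· * t) h1
      simpa using this.symm
    have h3 : z = w⁻¹ * w⁻¹ := by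
      have : z = (w * w)⁻¹ := eq_inv_of_mul_eq_one_right hww
      rw [this]; group
    rw [h2, h3]; group
  have hk : (w⁻¹ * e) * t = t * (w⁻¹ * e) := by
    have h1 : e * t * e⁻¹ = w * t * w⁻¹ := by rw [hbz, hwt]
    have h2 := congrArg (fun x => w⁻¹ * x * e) h1
    have e1 : w⁻¹ * (e * t * e⁻¹) * e = w⁻¹ * e * t := by group
    have e2 : w⁻¹ * (w * t * w⁻¹) * e = t * (w⁻¹ * e) := by group
    rw [e1, e2] at h2
    exact h2
  have hkN : w⁻¹ * e ∈ Subgroup.normalizer (A : Set G) :=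
    Subgroup.mul_mem _ (Subgroup.inv_mem _ (Subgroup.le_normalizer hwA)) he
  refine ⟨w, hwA, w⁻¹ * e, ?_, hkN, by group⟩
  by_contra hkK
  have hk2 := h.invol_of_not_mem hk hkK
  have hkN' := Subgroup.mem_normalizer_iff.1 hkN
  have hinv := inverts_of_fpf A (w⁻¹ * e) (mul_self_of_orderOf_two hk2)
    (fun x hx => (hkN' x).1 hx) (fun x hx hfix => by
      apply r.eq_one_of_comm_invol h hx hk2
      exact (mul_inv_eq_iff_eq_mul.1 hfix).symm)
  have h5 : t * (w⁻¹ * e) ∈ A := by
    rw [← r.cen y hy hy1, mem_cen]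
    have h1 : t * (w⁻¹ * e) * y * (t * (w⁻¹ * e))⁻¹ = y := by
      calc t * (w⁻¹ * e) * y * (t * (w⁻¹ * e))⁻¹
          = t * ((w⁻¹ * e) * y * (w⁻¹ * e)⁻¹) * t⁻¹ := by group
        _ = t * y⁻¹ * t⁻¹ := by rw [hinv y hy]
        _ = y := by rw [r.inverts _ (A.inv_mem hy), inv_inv]
    exact mul_inv_eq_iff_eq_mul.1 h1
  have h6 : t * (w⁻¹ * e) = 1 := by
    apply r.eq_one_of_comm_invol h h5 h.ht
    rw [mul_assoc, hk]
  apply hkK
  have h7 : w⁻¹ * e = t := by
    have : w⁻¹ * e = t⁻¹ := eq_inv_of_mul_eq_one_right h6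
    rw [this, ht']
  rw [h7]; exact h.htK

theorem normalizer_eq (h : BSW t s K) (r : RealSub K t A) (hA : A ≠ ⊥) :
    Subgroup.normalizer (A : Set G) = A ⊔ (Subgroup.normalizer (A : Set G) ⊓ K) := by
  apply le_antisymm
  · intro e he
    obtain ⟨w, hw, k, hk, hkN, rfl⟩ := r.normalizer_decomp h hA e he
    exact Subgroup.mul_mem _ (Subgroup.mem_sup_left hw)
      (Subgroup.mem_sup_right (Subgroup.mem_inf.2 ⟨hkN, hk⟩))
  · exact sup_le Subgroup.le_normalizer inf_le_left

theorem card_normalizer (h : BSW t s K) (r : RealSub K t A) (hA : A ≠ ⊥) :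
    Nat.card (Subgroup.normalizer (A : Set G))
      = Nat.card A * Nat.card (Subgroup.normalizer (A : Set G) ⊓ K : Subgroup G) := by
  conv_lhs => rw [r.normalizer_eq h hA]
  rw [sup_comm, Cfsg.Agent.Lib.Helper1.card_sup_of_disjoint inf_le_left, mul_comm]
  rw [disjoint_iff, Subgroup.eq_bot_iff_forall]
  intro x hx
  rw [Subgroup.mem_inf, Subgroup.mem_inf] at hx
  exact r.inf_K x hx.2 hx.1.2

end RealSub

end BSW

end Cfsg.Agent.Lib.Helper75
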