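import Mathlib
import Cfsg.Agent.Lib.Helper75.BSW8

/-!
# The Brauer-Suzuki-Wall configuration: the case `δ = 1` (helper75)
-/

set_option autoImplicit false

namespace Cfsg.Agent.Lib.Helper75

open Cfsg Cfsg.Agent.Lib.Helper3 Cfsg.Agent.Lib.Helper15

namespace BSW

/-- The conclusion of the Brauer-Suzuki-Wall theorem. -/
def Concl (G : Type*) [Group G] : Prop :=
  ∃ Q D : Subgroup G, 2 * Nat.card G = Nat.card ↥Q * (Nat.card ↥Q + 1) * (Nat.card ↥Q - 1) ∧
      (∀ x ∈ Q, x ≠ 1 → Subgroup.centralizer ({x} : Set G) = Q) ∧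
      IsMulCommutative ↥D ∧ 2 * Nat.card ↥D + 1 = Nat.card ↥Q ∧ Q ⊓ D = ⊥ ∧
      Subgroup.normalizer (Q : Set G) = Q ⊔ D ∧
      ∀ X : Subgroup G, X ≤ D → X ≠ ⊥ →
        Subgroup.normalizer (X : Set G) = Subgroup.normalizer (D : Set G) ∧
        ∃ u : G, orderOf u = 2 ∧ u ∉ D ∧ (∀ d ∈ D, u * d * u⁻¹ = d⁻¹) ∧
          Subgroup.normalizer (D : Set G) = D ⊔ Subgroup.zpowers u

theorem even_card_of_inv {A : Type*} [Group A] (S : Finset A) (hS : ∀ y ∈ S, y⁻¹ ∈ S)
    (hS2 : ∀ y ∈ S, y⁻¹ ≠ y) : Even S.card := by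
  have h1 : (∑ _y ∈ S, (1 : ZMod 2)) = 0 :=
    Finset.sum_involution (fun y _ => y⁻¹) (fun y _ => by decide) (fun y hy _ => hS2 y hy)
      (fun y hy => hS y hy) (fun y _ => inv_inv y)
  rw [Finset.sum_const, nsmul_eq_mul, mul_one] at h1
  exact (ZMod.natCast_eq_zero_iff_even).1 h1

variable {G : Type*} [Group G] [Fintype G] {t s : G} {K : Subgroup G} {X : G → ℂ} {δ : ℤ}

theorem Ws_conj {g : G} (c : G) : c * g * c⁻¹ ∈ Ws K ↔ g ∈ Ws K := by
  rw [mem_Ws, mem_Ws, KT_conj]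
  have : c * g * c⁻¹ ≠ 1 ↔ g ≠ 1 := by
    rw [not_iff_not]
    constructor
    · intro e
      have := congrArg (fun y => c⁻¹ * y * c) e
      simpa [mul_assoc] using this
    · rintro rfl; simp
  rw [this]

theorem CD.Us_conj (c : CD t K X δ) {g : G} (d : G) : d * g * d⁻¹ ∈ Us K X ↔ g ∈ Us K X := by
  rw [mem_Us, mem_Us, Ws_conj, irr_cf c.irr]

theorem CD.Vs_conj (c : CD t K X δ) {g : G} (d : G) : d * g * d⁻¹ ∈ Vs K X ↔ g ∈ Vs K X := by
  rw [mem_Vs, mem_Vs, Ws_conj, irr_cf c.irr]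

theorem Ws_sq_ne (h : BSW t s K) {g : G} (hg : g ∈ Ws K) : g * g ≠ 1 := fun e =>
  (mem_Ws.1 hg).2 (h.KT_invol (orderOf_two_of e (mem_Ws.1 hg).1))

open Classical in
theorem CD.sum_real (h : BSW t s K) (c : CD t K X δ) {a : G} {A : Subgroup G}
    (r : RealSub K a A) :
    ∃ a0 v : ℕ, Even v ∧ v + 1 ≤ Nat.card A ∧
      (2 * Nat.card K + δ : ℤ) - δ * v = a0 * Nat.card A ∧
      (v = 0 → ∀ y ∈ A, y ≠ 1 → X y = 0) ∧
      ((∀ y ∈ A, y ≠ 1 → X y ≠ 0) → v + 1 = Nat.card A) := by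
  have := Fintype.ofFinite A
  obtain ⟨a0, ha0⟩ := sum_sub_dvd (irr_char c.irr) A
  obtain ⟨S, hS⟩ : ∃ S : Finset A, S = Finset.univ.filter (fun y : A => y ≠ 1 ∧ X (y : G) ≠ 0) :=
    ⟨_, rfl⟩
  have memS : ∀ y : A, y ∈ S ↔ y ≠ 1 ∧ X (y : G) ≠ 0 := by
    intro y; rw [hS]; simp
  have hsub : S ⊆ Finset.univ.erase 1 := by
    intro y hy
    rw [Finset.mem_erase]
    exact ⟨((memS y).1 hy).1, Finset.mem_univ _⟩
  have hcardE : ((Finset.univ : Finset A).erase 1).card + 1 = Nat.card A := by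
    rw [Finset.card_erase_of_mem (Finset.mem_univ _), Finset.card_univ, Nat.card_eq_fintype_card]
    have : 0 < Fintype.card A := Fintype.card_pos
    omega
  refine ⟨a0, S.card, ?_, ?_, ?_, ?_, ?_⟩
  · apply even_card_of_inv
    · intro y hy
      rw [memS] at hy ⊢
      refine ⟨inv_ne_one.2 hy.1, ?_⟩
      rw [Subgroup.coe_inv, ← r.inverts y y.2, irr_cf c.irr]
      exact hy.2
    · intro y hy e
      rw [memS] at hy
      apply r.sq_ne h y.2 (fun e' => hy.1 (Subtype.ext e'))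
      have : y * y = 1 := by
        nth_rewrite 1 [← e]
        exact inv_mul_cancel y
      exact congrArg Subtype.val this
  · have := Finset.card_le_card hsub
    omega
  · have h1 : ∑ y : A, X y = X 1 + ∑ y ∈ S, X (y : G) := by
      rw [← Finset.add_sum_erase Finset.univ _ (Finset.mem_univ (1 : A))]
      congr 1
      symm
      apply Finset.sum_subset hsub
      intro y hy hyS
      rw [memS] at hyS
      by_contra h0
      exact hyS ⟨Finset.ne_of_mem_erase hy, h0⟩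
    have h2 : ∑ y ∈ S, X (y : G) = -(δ : ℂ) * S.card := by
      have : ∀ y ∈ S, X (y : G) = -(δ : ℂ) := by
        intro y hy
        rw [memS] at hy
        exact ((c.val_W h).1 y (r.W y y.2 (fun e' => hy.1 (Subtype.ext e')))).resolve_left hy.2
      rw [Finset.sum_congr rfl this, Finset.sum_const, nsmul_eq_mul, mul_comm]
    rw [h1, h2, c.deg] at ha0
    have h3 : (((2 * Nat.card K + δ : ℤ) - δ * S.card : ℤ) : ℂ) = ((a0 * Nat.card A : ℤ) : ℂ) := by
      push_cast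
      push_cast at ha0
      linear_combination ha0
    exact_mod_cast h3
  · intro h0 y hy hy1
    rw [Finset.card_eq_zero] at h0
    by_contra hX
    have : (⟨y, hy⟩ : A) ∈ S := by
      rw [memS]
      exact ⟨fun e => hy1 (congrArg Subtype.val e), hX⟩
    rw [h0] at this
    simp at this
  · intro hall
    have : S = Finset.univ.erase 1 := by
      apply Finset.Subset.antisymm hsub
      intro y hy
      rw [memS]
      have hy1 := Finset.ne_of_mem_erase hy
      exact ⟨hy1, hall y y.2 (fun e => hy1 (Subtype.ext e))⟩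
    rw [this, hcardE]

theorem CD.real_le (h : BSW t s K) (c : CD t K X 1) {a : G} {A : Subgroup G}
    (r : RealSub K a A) : Nat.card A ≤ 2 * Nat.card K + 1 ∧
      (Nat.card A = 2 * Nat.card K + 1 → ∀ y ∈ A, y ≠ 1 → X y = 0) := by
  obtain ⟨a0, v, hv, hvA, he, h0, -⟩ := c.sum_real h r
  have ha0 : 1 ≤ a0 := by
    rcases Nat.eq_zero_or_pos a0 with e | e
    · exfalso
      rw [e] at he
      obtain ⟨w, hw⟩ := hv
      push_cast at he
      omega
    · exact e
  have h1 : (Nat.card A : ℤ) ≤ a0 * Nat.card A := by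
    have : (1 : ℤ) ≤ a0 := by exact_mod_cast ha0
    nlinarith [Nat.zero_le (Nat.card A)]
  constructor
  · omega
  · intro e
    apply h0
    omega

theorem CD.bet_Us_le (h : BSW t s K) (c : CD t K X 1) {u : G} (hu : u ∈ Us K X) :
    bet u ≤ 2 * Nat.card K + 1 := by
  rcases Nat.eq_zero_or_pos (bet u) with e | e
  · omega
  · obtain ⟨a, ha, hau⟩ := (bet_pos_iff (Ws_sq_ne h (mem_Us.1 hu).1)).1 e
    have r := h.real_sub (mem_Us.1 hu).1 ha hau
    rw [r.bet_eq h (mem_cen.2 rfl) (mem_Ws.1 (mem_Us.1 hu).1).1]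
    exact (c.real_le h r).1

theorem CD.bet_Us_eq (h : BSW t s K) (c : CD t K X 1) {u : G} (hu : u ∈ Us K X) :
    bet u = 2 * Nat.card K + 1 := by
  have h1 := c.sum_bet_Us h
  have h2 := c.card_Us h
  have h3 := c.inv
  have h4 : ∑ g ∈ Us K X, bet g = ∑ _g ∈ Us K X, (2 * Nat.card K + 1) := by
    rw [Finset.sum_const, smul_eq_mul]
    zify
    push_cast at h1
    rw [h1, h2, h3]
    ring
  exact (Finset.sum_eq_sum_iff_of_le (fun g hg => c.bet_Us_le h hg)).1 h4 u hu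

theorem CD.exists_Q (h : BSW t s K) (c : CD t K X 1) :
    ∃ Q : Subgroup G, RealSub K t Q ∧ Nat.card Q = 2 * Nat.card K + 1 ∧
      ∀ y ∈ Q, y ≠ 1 → y ∈ Us K X := by
  have hne : (Us K X).Nonempty := by
    rw [← Finset.card_pos]
    have h2 := c.card_Us h
    have : (0 : ℤ) < (Us K X).card := by
      rw [h2]
      have : (0 : ℤ) ≤ Nat.card K := Nat.cast_nonneg _
      have h3 : (0 : ℤ) < Nat.card K := by exact_mod_cast Nat.card_pos
      nlinarith
    exact_mod_cast this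
  obtain ⟨u₀, hu₀⟩ := hne
  have hb := c.bet_Us_eq h hu₀
  obtain ⟨a, ha, hau⟩ := (bet_pos_iff (Ws_sq_ne h (mem_Us.1 hu₀).1)).1 (by omega)
  obtain ⟨d, hd⟩ := isConj_iff.1 (h.conj a t ha h.ht)
  have hu : d * u₀ * d⁻¹ ∈ Us K X := (c.Us_conj d).2 hu₀
  have htu : t * (d * u₀ * d⁻¹) * t⁻¹ = (d * u₀ * d⁻¹)⁻¹ := by
    rw [← hd]
    calc d * a * d⁻¹ * (d * u₀ * d⁻¹) * (d * a * d⁻¹)⁻¹ = d * (a * u₀ * a⁻¹) * d⁻¹ := by group
      _ = d * u₀⁻¹ * d⁻¹ := by rw [hau]
      _ = _ := by group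
  have r := h.real_sub (mem_Us.1 hu).1 h.ht htu
  have hq : Nat.card (Subgroup.centralizer ({d * u₀ * d⁻¹} : Set G)) = 2 * Nat.card K + 1 := by
    rw [← r.bet_eq h (mem_cen.2 rfl) (mem_Ws.1 (mem_Us.1 hu).1).1]
    exact c.bet_Us_eq h hu
  refine ⟨_, r, hq, ?_⟩
  intro y hy hy1
  rw [mem_Us]
  exact ⟨r.W y hy hy1, (c.real_le h r).2 hq y hy hy1⟩

theorem CD.K_le_normalizer (h : BSW t s K) (c : CD t K X 1) {Q : Subgroup G} (r : RealSub K t Q)
    (hq : Nat.card Q = 2 * Nat.card K + 1) (hU : ∀ y ∈ Q, y ≠ 1 → y ∈ Us K X) :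
    K ≤ Subgroup.normalizer (Q : Set G) := by
  classical
  have hQ : Q ≠ ⊥ := by
    intro e
    rw [e, Subgroup.card_bot] at hq
    have : 0 < Nat.card K := Nat.card_pos
    omega
  have h1 := sum_iot (Ks Q) (fun _ => (1 : ℕ)) (fun _ _ => rfl)
  simp only [mul_one, Nat.cast_id, Finset.sum_const, smul_eq_mul] at h1
  have h2 : ∑ g, iot (Ks Q) g = ∑ g ∈ Us K X, iot (Ks Q) g := by
    symm
    apply Finset.sum_subset (Finset.subset_univ _)
    intro g _ hg
    apply iot_eq_zero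
    rintro ⟨c₀, hc₀⟩
    rw [mem_Ks] at hc₀
    exact hg ((c.Us_conj c₀).1 (hU _ hc₀.1 hc₀.2))
  have h3 : ∑ g ∈ Us K X, iot (Ks Q) g
      ≤ ∑ _g ∈ Us K X, Nat.card (Subgroup.normalizer (Q : Set G)) := by
    apply Finset.sum_le_sum
    intro g _
    apply iot_le
    intro y hy e he
    rw [mem_Ks] at hy he
    exact r.mem_normalizer hy.1 hy.2 he.1
  rw [Finset.sum_const, smul_eq_mul, ← h2, h1, r.card_normalizer h hQ, h.card_G, hq] at h3
  have h4 := card_Ks (K := Q)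
  have h5 : (Ks Q).card = 2 * Nat.card K := by omega
  have h6 : (Us K X).card = 4 * Nat.card K * (Nat.card K + 1) := by
    have := c.card_Us h
    zify
    rw [this]; ring
  have h7 : (Inv G).card = (2 * Nat.card K + 1) * (Nat.card K + 1) := by
    have := c.inv
    zify
    rw [this]
  rw [h5, h6, h7] at h3
  have hm : 0 < Nat.card K := Nat.card_pos
  have h8 : Nat.card K ≤ Nat.card (Subgroup.normalizer (Q : Set G) ⊓ K : Subgroup G) := by
    have e1 : 2 * Nat.card K * ((2 * Nat.card K + 1) * (Nat.card K + 1)) * (2 * Nat.card K)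
        = (4 * Nat.card K * (Nat.card K + 1) * (2 * Nat.card K + 1)) * Nat.card K := by ring
    have e2 : 4 * Nat.card K * (Nat.card K + 1) * ((2 * Nat.card K + 1) *
        Nat.card (Subgroup.normalizer (Q : Set G) ⊓ K : Subgroup G))
        = (4 * Nat.card K * (Nat.card K + 1) * (2 * Nat.card K + 1)) *
          Nat.card (Subgroup.normalizer (Q : Set G) ⊓ K : Subgroup G) := by ring
    rw [e1, e2] at h3
    exact Nat.le_of_mul_le_mul_left h3 (by positivity)
  have h9 : Subgroup.normalizer (Q : Set G) ⊓ K = K :=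
    Subgroup.eq_of_le_of_card_ge inf_le_right h8
  exact inf_eq_right.1 h9

omit [Fintype G] in
theorem normalizer_sub_K (h : BSW t s K) {Y : Subgroup G} (hY : Y ≤ K) (hY1 : Y ≠ ⊥) :
    Subgroup.normalizer (Y : Set G) = Subgroup.centralizer ({t} : Set G) := by
  have key : ∀ g, g * t = t * g → ∀ y ∈ Y, g * y * g⁻¹ ∈ Y := by
    intro g hg y hy
    by_cases hgK : g ∈ K
    · rw [h.comm g hgK y (hY hy), mul_inv_cancel_right]; exact hy
    · rw [h.inverts hg hgK y (hY hy)]; exact Y.inv_mem hy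
  ext g
  rw [Subgroup.mem_normalizer_iff, mem_cen]
  constructor
  · intro hg
    obtain ⟨y, hy, hy1⟩ := (Subgroup.ne_bot_iff_exists_ne_one.1 hY1 : ∃ y : Y, y ≠ 1) |>.elim
      (fun y hy => (⟨y.1, y.2, fun e => hy (Subtype.ext e)⟩ : ∃ y, y ∈ Y ∧ y ≠ 1))
    exact h.hTI g y (hY hy) (hY ((hg y).1 hy)) hy1
  · intro hg y
    refine ⟨key g hg y, fun hy => ?_⟩
    have hg' : g⁻¹ * t = t * g⁻¹ := by
      have := congrArg (fun z => g⁻¹ * z * g⁻¹) hg
      simpa [mul_assoc] using this.symm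
    have := key g⁻¹ hg' _ hy
    have e : g⁻¹ * (g * y * g⁻¹) * g⁻¹⁻¹ = y := by group
    rwa [e] at this

omit [Fintype G] in
theorem centralizer_t (h : BSW t s K) :
    Subgroup.centralizer ({t} : Set G) = K ⊔ Subgroup.zpowers s := by
  apply le_antisymm
  · intro g hg
    rw [mem_cen] at hg
    rcases h.hH g hg with h1 | h1
    · exact Subgroup.mem_sup_left h1
    · have e : g = (g * s) * s⁻¹ := by group
      rw [e]
      exact Subgroup.mul_mem _ (Subgroup.mem_sup_left h1)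
        (Subgroup.mem_sup_right (Subgroup.inv_mem _ (Subgroup.mem_zpowers s)))
  · apply sup_le
    · intro k hk
      rw [mem_cen]; exact h.cen k hk
    · rw [Subgroup.zpowers_le, mem_cen]; exact h.hst

theorem CD.concl_pos (h : BSW t s K) (c : CD t K X 1) : Concl G := by
  obtain ⟨Q, r, hq, hU⟩ := c.exists_Q h
  have hKN := c.K_le_normalizer h r hq hU
  have hQ : Q ≠ ⊥ := by
    intro e
    rw [e, Subgroup.card_bot] at hq
    have : 0 < Nat.card K := Nat.card_pos
    omega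
  have hK : K ≠ ⊥ := by
    intro e
    have := h.htK
    rw [e, Subgroup.mem_bot] at this
    exact h.t_ne this
  refine ⟨Q, K, ?_, r.cen, ⟨⟨fun x y => Subtype.ext (h.comm x x.2 y y.2)⟩⟩, by omega, ?_, ?_, ?_⟩
  · rw [hq, Nat.card_eq_fintype_card, h.card_G]
    have h7 : (Inv G).card = (2 * Nat.card K + 1) * (Nat.card K + 1) := by
      have := c.inv
      zify
      rw [this]
    rw [h7, Nat.add_sub_cancel]
    ring
  · rw [Subgroup.eq_bot_iff_forall]
    intro x hx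
    rw [Subgroup.mem_inf] at hx
    exact r.inf_K x hx.1 hx.2
  · conv_lhs => rw [r.normalizer_eq h hQ]
    rw [inf_eq_right.2 hKN]
  · intro Y hY hY1
    refine ⟨by rw [h.normalizer_sub_K hY hY1, h.normalizer_sub_K le_rfl hK], s, h.hs, h.hsK,
      h.hinv, ?_⟩
    rw [h.normalizer_sub_K le_rfl hK, h.centralizer_t]

end BSW

end Cfsg.Agent.Lib.Helper75
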