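import Mathlib
import Cfsg.Agent.Lib.Helper75.BSW9

/-!
# The Brauer-Suzuki-Wall configuration: the case `δ = -1`, centralizers (helper75)
-/

set_option autoImplicit false

namespace Cfsg.Agent.Lib.Helper75

open Cfsg Cfsg.Agent.Lib.Helper3 Cfsg.Agent.Lib.Helper15

namespace BSW

variable {G : Type*} [Group G] [Fintype G] {t s : G} {K : Subgroup G} {X : G → ℂ}

theorem two_le_card (h : BSW t s K) : 2 ≤ Nat.card K :=
  Nat.le_of_dvd Nat.card_pos h.even_card

theorem CD.bet_Us_zero (h : BSW t s K) (c : CD t K X (-1)) {u : G} (hu : u ∈ Us K X) :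
    bet u = 0 := by
  have h1 := c.sum_bet_Us h
  have h2 : ∑ g ∈ Us K X, bet g = 0 := by
    zify
    push_cast at h1
    rw [h1]; ring
  exact (Finset.sum_eq_zero_iff.1 h2) u hu

theorem CD.not_real (h : BSW t s K) (c : CD t K X (-1)) {u a : G} (hu : u ∈ Us K X)
    (ha : orderOf a = 2) : a * u * a⁻¹ ≠ u⁻¹ := by
  intro e
  have := (bet_pos_iff (Ws_sq_ne h (mem_Us.1 hu).1)).2 ⟨a, ha, e⟩
  rw [c.bet_Us_zero h hu] at this
  omega

theorem CD.real_Vs (h : BSW t s K) (c : CD t K X (-1)) {a : G} {A : Subgroup G}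
    (r : RealSub K a A) {y : G} (hy : y ∈ A) (hy1 : y ≠ 1) : y ∈ Vs K X := by
  rw [mem_Vs]
  exact ⟨r.W y hy hy1, fun e =>
    c.not_real h (mem_Us.2 ⟨r.W y hy hy1, e⟩) r.inv_a (r.inverts y hy)⟩

theorem CD.real_dvd (h : BSW t s K) (c : CD t K X (-1)) {a : G} {A : Subgroup G}
    (r : RealSub K a A) : Nat.card A ∣ Nat.card K - 1 := by
  obtain ⟨a0, v, -, -, he, -, h1⟩ := c.sum_real h r
  have hv := h1 (fun y hy hy1 => (mem_Vs.1 (c.real_Vs h r hy hy1)).2)
  have hm := h.two_le_card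
  have h2 : Nat.card A ∣ 2 * (Nat.card K - 1) := by
    have h3 : (Nat.card A : ℤ) ∣ ((2 * (Nat.card K - 1) : ℕ) : ℤ) := by
      refine ⟨a0 - 1, ?_⟩
      have e1 : ((2 * (Nat.card K - 1) : ℕ) : ℤ) = 2 * (Nat.card K : ℤ) - 2 := by
        push_cast [Nat.cast_sub (by omega : 1 ≤ Nat.card K)]
        ring
      have e2 : (v : ℤ) + 1 = Nat.card A := by exact_mod_cast hv
      rw [e1]
      linear_combination he - e2
    exact_mod_cast h3
  exact (Nat.Coprime.dvd_of_dvd_mul_left (Nat.Coprime.symm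
    (Nat.coprime_two_left.2 (r.odd_card h))) h2)

theorem CD.bet_Vs_le (h : BSW t s K) (c : CD t K X (-1)) {g : G} (hg : g ∈ Vs K X) :
    bet g ≤ Nat.card K - 1 := by
  rcases Nat.eq_zero_or_pos (bet g) with e | e
  · omega
  · obtain ⟨a, ha, hau⟩ := (bet_pos_iff (Ws_sq_ne h (mem_Vs.1 hg).1)).1 e
    have r := h.real_sub (mem_Vs.1 hg).1 ha hau
    rw [r.bet_eq h (mem_cen.2 rfl) (mem_Ws.1 (mem_Vs.1 hg).1).1]
    have hm := h.two_le_card
    exact Nat.le_of_dvd (by omega) (c.real_dvd h r)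

theorem CD.bet_Vs_eq (h : BSW t s K) (c : CD t K X (-1)) {g : G} (hg : g ∈ Vs K X) :
    bet g = Nat.card K - 1 := by
  have h1 := c.sum_bet_Vs h
  have h2 := c.card_Vs h
  have h3 := c.inv
  have hm := h.two_le_card
  have h4 : ∑ g ∈ Vs K X, bet g = ∑ _g ∈ Vs K X, (Nat.card K - 1) := by
    rw [Finset.sum_const, smul_eq_mul]
    zify
    push_cast at h1
    rw [h1, h2, h3]
    push_cast [Nat.cast_sub (by omega : 1 ≤ Nat.card K)]
    ring
  exact (Finset.sum_eq_sum_iff_of_le (fun g hg => c.bet_Vs_le h hg)).1 h4 g hg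

theorem CD.real_of_Vs (h : BSW t s K) (c : CD t K X (-1)) {g : G} (hg : g ∈ Vs K X) :
    ∃ a, orderOf a = 2 ∧ a * g * a⁻¹ = g⁻¹ ∧
      Nat.card (Subgroup.centralizer ({g} : Set G)) = Nat.card K - 1 := by
  have hb := c.bet_Vs_eq h hg
  have hm := h.two_le_card
  obtain ⟨a, ha, hau⟩ := (bet_pos_iff (Ws_sq_ne h (mem_Vs.1 hg).1)).1 (by omega)
  have r := h.real_sub (mem_Vs.1 hg).1 ha hau
  exact ⟨a, ha, hau, by rw [← r.bet_eq h (mem_cen.2 rfl) (mem_Ws.1 (mem_Vs.1 hg).1).1, hb]⟩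

theorem CD.cen_Us (h : BSW t s K) (c : CD t K X (-1)) {x y : G} (hx : x ∈ Us K X)
    (hy : y * x = x * y) (hy1 : y ≠ 1) : y ∈ Us K X := by
  have hxW := (mem_Us.1 hx).1
  have hyW : y ∈ Ws K := by
    rw [mem_Ws]
    exact ⟨hy1, fun hk => (mem_Ws.1 hxW).2 (h.KT_comm hk hy.symm (mem_Ws.1 hxW).1)⟩
  rw [mem_Us]
  refine ⟨hyW, ?_⟩
  by_contra hX
  obtain ⟨a, ha, hay, -⟩ := c.real_of_Vs h (mem_Vs.2 ⟨hyW, hX⟩)
  have r := h.real_sub hyW ha hay
  exact c.not_real h hx ha (r.inverts x (mem_cen.2 hy.symm))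

theorem CD.card_cen_dvd (h : BSW t s K) (c : CD t K X (-1)) {x : G} (hx : x ∈ Us K X) :
    Nat.card (Subgroup.centralizer ({x} : Set G)) ∣ 2 * Nat.card K - 1 := by
  classical
  have := Fintype.ofFinite (Subgroup.centralizer ({x} : Set G))
  obtain ⟨a0, ha0⟩ := sum_sub_dvd (irr_char c.irr) (Subgroup.centralizer ({x} : Set G))
  have h1 : ∑ y : Subgroup.centralizer ({x} : Set G), X y = X 1 := by
    rw [← Finset.add_sum_erase Finset.univ _ (Finset.mem_univ
      (1 : Subgroup.centralizer ({x} : Set G)))]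
    rw [Finset.sum_eq_zero, add_zero]; rfl
    intro y hy
    have hy1 := Finset.ne_of_mem_erase hy
    exact (mem_Us.1 (c.cen_Us h hx (mem_cen.1 y.2) (fun e => hy1 (Subtype.ext e)))).2
  rw [h1, c.deg] at ha0
  have hm := h.two_le_card
  refine ⟨a0, ?_⟩
  have h2 : ((2 * Nat.card K - 1 : ℕ) : ℂ)
      = ((Nat.card (Subgroup.centralizer ({x} : Set G)) * a0 : ℕ) : ℂ) := by
    push_cast [Nat.cast_sub (by omega : 1 ≤ 2 * Nat.card K)]
    push_cast at ha0
    linear_combination ha0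
  exact_mod_cast h2

theorem CD.not_conj_inv (h : BSW t s K) (c : CD t K X (-1)) {x g : G} (hx : x ∈ Us K X) :
    g * x * g⁻¹ ≠ x⁻¹ := by
  intro e
  have hm := h.two_le_card
  have hodd : Odd (Nat.card (Subgroup.centralizer ({x} : Set G))) := by
    apply Odd.of_dvd_nat _ (c.card_cen_dvd h hx)
    exact ⟨Nat.card K - 1, by omega⟩
  obtain ⟨k, hk⟩ := hodd
  have hgg : g * g ∈ Subgroup.centralizer ({x} : Set G) := by
    rw [mem_cen]
    have h1 : g * g * x * (g * g)⁻¹ = x := by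
      calc g * g * x * (g * g)⁻¹ = g * (g * x * g⁻¹) * g⁻¹ := by group
        _ = g * x⁻¹ * g⁻¹ := by rw [e]
        _ = (g * x * g⁻¹)⁻¹ := by group
        _ = x := by rw [e, inv_inv]
    exact mul_inv_eq_iff_eq_mul.1 h1
  have hpow : (g * g) ^ (2 * k + 1) = 1 := by
    rw [← hk]
    have := pow_card_eq_one' (x := (⟨g * g, hgg⟩ : Subgroup.centralizer ({x} : Set G)))
    exact congrArg Subtype.val this
  obtain ⟨z, hz⟩ : ∃ z, z = (g * g) ^ k := ⟨_, rfl⟩
  have hzc : z * x = x * z := by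
    rw [hz]; exact mem_cen.1 (Subgroup.pow_mem _ hgg k)
  have hzg : z * g = g * z := by
    rw [hz]
    exact ((Commute.refl g).mul_left (Commute.refl g)).pow_left k |>.eq
  have hb : (z * g) * x * (z * g)⁻¹ = x⁻¹ := by
    calc (z * g) * x * (z * g)⁻¹ = z * (g * x * g⁻¹) * z⁻¹ := by group
      _ = z * x⁻¹ * z⁻¹ := by rw [e]
      _ = (z * x * z⁻¹)⁻¹ := by group
      _ = x⁻¹ := by rw [hzc, mul_inv_cancel_right]
  have hbb : (z * g) * (z * g) = 1 := by
    calc (z * g) * (z * g) = z * (g * z) * g := by group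
      _ = z * (z * g) * g := by rw [hzg]
      _ = z * z * (g * g) := by group
      _ = (g * g) ^ (2 * k + 1) := by rw [hz, ← pow_add, ← pow_succ]; congr 1; ring
      _ = 1 := hpow
  have hb1 : z * g ≠ 1 := by
    intro e1
    rw [e1] at hb
    apply Ws_sq_ne h (mem_Us.1 hx).1
    have : x = x⁻¹ := by simpa using hb
    calc x * x = x * x⁻¹ := by rw [← this]
      _ = 1 := mul_inv_cancel x
  exact c.not_real h hx (orderOf_two_of hbb hb1) hb

theorem iot_conj (T : Finset G) (g c : G) : iot T (c * g * c⁻¹) = iot T g := by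
  classical
  unfold iot
  apply Finset.card_bij (fun d _ => d * c)
  · intro d hd
    simp only [Finset.mem_filter, Finset.mem_univ, true_and] at hd ⊢
    have : d * c * g * (d * c)⁻¹ = d * (c * g * c⁻¹) * d⁻¹ := by group
    rw [this]; exact hd
  · intro d _ d' _ e
    exact mul_right_cancel e
  · intro d hd
    simp only [Finset.mem_filter, Finset.mem_univ, true_and] at hd
    refine ⟨d * c⁻¹, ?_, by group⟩
    simp only [Finset.mem_filter, Finset.mem_univ, true_and]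
    have : d * c⁻¹ * (c * g * c⁻¹) * (d * c⁻¹)⁻¹ = d * g * d⁻¹ := by group
    rw [this]; exact hd

theorem iot_inv (T : Finset G) (hT : ∀ y, y ∈ T → y⁻¹ ∈ T) (g : G) : iot T g⁻¹ = iot T g := by
  classical
  unfold iot
  congr 1
  ext d
  simp only [Finset.mem_filter, Finset.mem_univ, true_and]
  have e : d * g⁻¹ * d⁻¹ = (d * g * d⁻¹)⁻¹ := by group
  rw [e]
  constructor
  · intro h1
    have := hT _ h1
    rwa [inv_inv] at this
  · exact hT _

theorem CD.card_G_neg (h : BSW t s K) (c : CD t K X (-1)) :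
    (Fintype.card G : ℤ) = 2 * Nat.card K * ((2 * Nat.card K - 1) * (Nat.card K - 1)) := by
  rw [h.card_G]
  push_cast
  rw [c.inv]
  ring

theorem CD.card_cen_Us (h : BSW t s K) (c : CD t K X (-1)) {u : G} (hu : u ∈ Us K X) :
    Nat.card (Subgroup.centralizer ({u} : Set G)) = 2 * Nat.card K - 1 ∧
      ∀ g ∈ Us K X, ∃ d, d * g * d⁻¹ = u ∨ d * g * d⁻¹ = u⁻¹ := by
  classical
  have hm := h.two_le_card
  have hne : u ≠ u⁻¹ := by
    intro e
    apply Ws_sq_ne h (mem_Us.1 hu).1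
    calc u * u = u * u⁻¹ := by rw [← e]
      _ = 1 := mul_inv_cancel u
  obtain ⟨T, hT⟩ : ∃ T : Finset G, T = {u, u⁻¹} := ⟨_, rfl⟩
  have memT : ∀ y, y ∈ T ↔ y = u ∨ y = u⁻¹ := by
    intro y; rw [hT]; simp
  have hTc : T.card = 2 := by rw [hT]; exact Finset.card_pair hne
  have huinv : u⁻¹ ∈ Us K X := c.cen_Us h hu (by group) (inv_ne_one.2 (mem_Ws.1 (mem_Us.1 hu).1).1)
  have h1 := sum_iot T (fun _ => (1 : ℕ)) (fun _ _ => rfl)
  simp only [mul_one, Nat.cast_id, Finset.sum_const, smul_eq_mul] at h1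
  have h2 : ∑ g, iot T g = ∑ g ∈ Us K X, iot T g := by
    symm
    apply Finset.sum_subset (Finset.subset_univ _)
    intro g _ hg
    apply iot_eq_zero
    rintro ⟨c₀, hc₀⟩
    rw [memT] at hc₀
    apply hg
    rw [← c.Us_conj c₀]
    rcases hc₀ with e | e <;> rw [e]
    · exact hu
    · exact huinv
  have hle1 : ∀ g, iot T g ≤ Nat.card (Subgroup.centralizer ({u} : Set G)) := by
    intro g
    apply iot_le
    intro y hy e he
    rw [memT] at hy he
    rw [mem_cen]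
    rcases hy with rfl | rfl
    · rcases he with he | he
      · exact mul_inv_eq_iff_eq_mul.1 he
      · exact absurd he (c.not_conj_inv h hu)
    · have e1 : e * u⁻¹ * e⁻¹ = (e * u * e⁻¹)⁻¹ := by group
      rw [e1] at he
      rcases he with he | he
      · exfalso
        apply c.not_conj_inv h hu (g := e)
        exact inv_eq_iff_eq_inv.1 he
      · exact mul_inv_eq_iff_eq_mul.1 (inv_injective he)
  have hle2 : Nat.card (Subgroup.centralizer ({u} : Set G)) ≤ 2 * Nat.card K - 1 :=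
    Nat.le_of_dvd (by omega) (c.card_cen_dvd h hu)
  have h4 : ∑ g ∈ Us K X, iot T g = ∑ _g ∈ Us K X, (2 * Nat.card K - 1) := by
    rw [← h2, h1, hTc, Finset.sum_const, smul_eq_mul]
    zify
    rw [c.card_G_neg h, c.card_Us h]
    push_cast [Nat.cast_sub (by omega : 1 ≤ 2 * Nat.card K)]
    ring
  have h5 := (Finset.sum_eq_sum_iff_of_le (fun g _ => (hle1 g).trans hle2)).1 h4
  constructor
  · have := h5 u hu
    have := hle1 u
    omega
  · intro g hg
    have h6 := h5 g hg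
    by_contra hcon
    have : iot T g = 0 := by
      apply iot_eq_zero
      rintro ⟨c₀, hc₀⟩
      exact hcon ⟨c₀, (memT _).1 hc₀⟩
    omega

/-- the number of conjugators taking an element of `U` into `Q = C(u)`. -/
theorem CD.iot_Q (h : BSW t s K) (c : CD t K X (-1)) {u : G} (hu : u ∈ Us K X) {g : G}
    (hg : g ∈ Us K X) :
    iot (Ks (Subgroup.centralizer ({u} : Set G))) g = (Inv G).card := by
  classical
  have hm := h.two_le_card
  obtain ⟨hq, hconj⟩ := c.card_cen_Us h hu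
  obtain ⟨Q, hQ⟩ : ∃ Q, Q = Subgroup.centralizer ({u} : Set G) := ⟨_, rfl⟩
  rw [← hQ] at hq ⊢
  have hconst : ∀ g ∈ Us K X, iot (Ks Q) g = iot (Ks Q) u := by
    intro g hg
    obtain ⟨d, hd⟩ := hconj g hg
    rw [← iot_conj (Ks Q) g d]
    rcases hd with e | e
    · rw [e]
    · rw [e]
      apply iot_inv
      intro y hy
      rw [mem_Ks] at hy ⊢
      exact ⟨Q.inv_mem hy.1, inv_ne_one.2 hy.2⟩
  have h1 := sum_iot (Ks Q) (fun _ => (1 : ℕ)) (fun _ _ => rfl)
  simp only [mul_one, Nat.cast_id, Finset.sum_const, smul_eq_mul] at h1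
  have h2 : ∑ g, iot (Ks Q) g = ∑ g ∈ Us K X, iot (Ks Q) g := by
    symm
    apply Finset.sum_subset (Finset.subset_univ _)
    intro g _ hg
    apply iot_eq_zero
    rintro ⟨c₀, hc₀⟩
    rw [mem_Ks, hQ, mem_cen] at hc₀
    exact hg ((c.Us_conj c₀).1 (c.cen_Us h hu hc₀.1 hc₀.2))
  rw [h2, Finset.sum_congr rfl hconst, Finset.sum_const, smul_eq_mul] at h1
  rw [hconst g hg]
  have h4 := card_Ks (K := Q)
  have h5 : ((Ks Q).card : ℤ) = 2 * Nat.card K - 2 := by
    have : (Ks Q).card = 2 * Nat.card K - 2 := by omega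
    rw [this]
    push_cast [Nat.cast_sub (by omega : 2 ≤ 2 * Nat.card K)]
    ring
  have h6 : ((Us K X).card : ℤ) * (iot (Ks Q) u : ℤ) = (Fintype.card G : ℤ) * ((Ks Q).card : ℤ) := by
    exact_mod_cast h1
  rw [c.card_G_neg h, c.card_Us h, h5] at h6
  have h7 : ((iot (Ks Q) u : ℤ)) = (Inv G).card := by
    rw [c.inv]
    have hmZ : (2 : ℤ) ≤ Nat.card K := by exact_mod_cast hm
    have hne : (4 * (Nat.card K : ℤ) * (Nat.card K - 1)) ≠ 0 := by
      have : (0 : ℤ) < 4 * (Nat.card K : ℤ) * (Nat.card K - 1) := by nlinarith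
      exact this.ne'
    apply mul_left_cancel₀ hne
    linear_combination h6
  exact_mod_cast h7

end BSW

end Cfsg.Agent.Lib.Helper75
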