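import Mathlib
import Cfsg.Agent.Lib.Helper75.BSW10

/-!
# The Brauer-Suzuki-Wall configuration: the case `δ = -1`, the subgroup `Q` (helper75)
-/

set_option autoImplicit false

namespace Cfsg.Agent.Lib.Helper75

open Cfsg Cfsg.Agent.Lib.Helper3 Cfsg.Agent.Lib.Helper15

namespace BSW

variable {G : Type*} [Group G] [Fintype G] {t s : G} {K : Subgroup G} {X : G → ℂ}

/-- the data of the subgroup `Q = C(u)`. -/
structure QD (K : Subgroup G) (X : G → ℂ) (Q : Subgroup G) : Prop where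
  card : Nat.card Q = 2 * Nat.card K - 1
  sub : ∀ y ∈ Q, y ≠ 1 → y ∈ Us K X
  iot : ∀ g ∈ Us K X, iot (Ks Q) g = (Inv G).card
  conj : ∀ g ∈ Us K X, ∃ d, d * g * d⁻¹ ∈ Q ∧ ∀ z, z * g = g * z ↔ d * z * d⁻¹ ∈ Q

theorem CD.exists_QD (h : BSW t s K) (c : CD t K X (-1)) : ∃ Q, QD K X Q := by
  have hm := h.two_le_card
  have hne : (Us K X).Nonempty := by
    rw [← Finset.card_pos]
    have h2 := c.card_Us h
    have : (0 : ℤ) < (Us K X).card := by
      rw [h2]
      have h3 : (2 : ℤ) ≤ Nat.card K := by exact_mod_cast hm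
      nlinarith
    exact_mod_cast this
  obtain ⟨u, hu⟩ := hne
  obtain ⟨hq, hconj⟩ := c.card_cen_Us h hu
  refine ⟨Subgroup.centralizer ({u} : Set G), hq, ?_, fun g hg => c.iot_Q h hu hg, ?_⟩
  · intro y hy hy1
    exact c.cen_Us h hu (mem_cen.1 hy) hy1
  · intro g hg
    obtain ⟨d, hd⟩ := hconj g hg
    have hcu : ∀ w, w * (d * g * d⁻¹) = (d * g * d⁻¹) * w ↔ w * u = u * w := by
      intro w
      rcases hd with e | e
      · rw [e]
      · rw [e]
        constructor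
        · intro e1
          have := congrArg (fun z => u * z * u) e1
          simp only [mul_assoc, inv_mul_cancel, mul_one, mul_inv_cancel_left] at this
          simpa [mul_assoc] using this.symm
        · intro e1
          have := congrArg (fun z => u⁻¹ * z * u⁻¹) e1
          simp only [mul_assoc, mul_inv_cancel, mul_one, inv_mul_cancel_left] at this
          simpa [mul_assoc] using this.symm
    refine ⟨d, ?_, ?_⟩
    · rw [mem_cen, ← hcu]
    · intro z
      rw [mem_cen, ← hcu]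
      constructor
      · intro e
        calc d * z * d⁻¹ * (d * g * d⁻¹) = d * (z * g) * d⁻¹ := by group
          _ = d * (g * z) * d⁻¹ := by rw [e]
          _ = _ := by group
      · intro e
        have := congrArg (fun w => d⁻¹ * w * d) e
        have e1 : d⁻¹ * (d * z * d⁻¹ * (d * g * d⁻¹)) * d = z * g := by group
        have e2 : d⁻¹ * (d * g * d⁻¹ * (d * z * d⁻¹)) * d = g * z := by group
        rw [e1, e2] at this
        exact this

open Classical in
/-- the elements `g` with `Q ∩ g⁻¹ Q g ≠ 1`. -/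
noncomputable def Bad (Q : Subgroup G) : Finset G :=
  Finset.univ.filter fun g => ∃ x ∈ Q, x ≠ 1 ∧ g * x * g⁻¹ ∈ Q

open Classical in
/-- the elements of a subgroup as a finset. -/
noncomputable def Qf (Q : Subgroup G) : Finset G := Finset.univ.filter fun g => g ∈ Q

open Classical in
/-- the products of an involution with an element of `Q`. -/
noncomputable def IQ (Q : Subgroup G) : Finset G :=
  ((Inv G) ×ˢ Qf Q).image fun p => p.1 * p.2

theorem mem_Bad {Q : Subgroup G} {g : G} : g ∈ Bad Q ↔ ∃ x ∈ Q, x ≠ 1 ∧ g * x * g⁻¹ ∈ Q := by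
  classical
  simp [Bad]

theorem mem_Qf {Q : Subgroup G} {g : G} : g ∈ Qf Q ↔ g ∈ Q := by
  classical
  simp [Qf]

theorem card_Qf (Q : Subgroup G) : (Qf Q).card = Nat.card Q := by
  classical
  rw [Nat.card_eq_fintype_card, Fintype.card_subtype]
  rfl

theorem mem_IQ {Q : Subgroup G} {g : G} :
    g ∈ IQ Q ↔ ∃ b x, orderOf b = 2 ∧ x ∈ Q ∧ b * x = g := by
  classical
  unfold IQ
  rw [Finset.mem_image]
  constructor
  · rintro ⟨⟨b, x⟩, hp, e⟩
    rw [Finset.mem_product, mem_Inv, mem_Qf] at hp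
    exact ⟨b, x, hp.1, hp.2, e⟩
  · rintro ⟨b, x, hb, hx, e⟩
    exact ⟨(b, x), by rw [Finset.mem_product, mem_Inv, mem_Qf]; exact ⟨hb, hx⟩, e⟩

namespace QD

variable {Q : Subgroup G}

theorem eq_one_of_real (h : BSW t s K) (c : CD t K X (-1)) (qd : QD K X Q) {w b : G}
    (hw : w ∈ Q) (hb : orderOf b = 2) (e : b * w * b⁻¹ = w⁻¹) : w = 1 := by
  by_contra hw1
  exact c.not_real h (qd.sub w hw hw1) hb e

theorem card_IQ (h : BSW t s K) (c : CD t K X (-1)) (qd : QD K X Q) :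
    (IQ Q).card = (Inv G).card * Nat.card Q := by
  classical
  unfold IQ
  rw [Finset.card_image_of_injOn, Finset.card_product, card_Qf]
  rintro ⟨b₁, x₁⟩ h1 ⟨b₂, x₂⟩ h2 e
  simp only [Finset.coe_product, Set.mem_prod, Finset.mem_coe, mem_Inv, mem_Qf] at h1 h2
  simp only at e
  have hb1 : b₁⁻¹ = b₁ := inv_of_orderOf_two h1.1
  have hb2 : b₂⁻¹ = b₂ := inv_of_orderOf_two h2.1
  have hw : x₂ * x₁⁻¹ = b₂ * b₁ := by
    have : x₂ = b₂⁻¹ * (b₁ * x₁) := by rw [e]; group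
    rw [this, hb2]; group
  have h3 : x₂ * x₁⁻¹ = 1 := by
    apply qd.eq_one_of_real h c (Q.mul_mem h2.2 (Q.inv_mem h1.2)) h2.1
    rw [hw, mul_inv_rev, hb1, hb2]
    calc b₂ * (b₂ * b₁) * b₂ = (b₂ * b₂) * b₁ * b₂ := by group
      _ = b₁ * b₂ := by rw [mul_self_of_orderOf_two h2.1, one_mul]
  have h4 : x₂ = x₁ := mul_inv_eq_one.1 h3
  rw [h4] at e
  rw [mul_right_cancel e, h4]

theorem not_Bad_of_IQ (h : BSW t s K) (c : CD t K X (-1)) (qd : QD K X Q) {g : G}
    (hg : g ∈ IQ Q) : g ∉ Bad Q := by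
  rw [mem_IQ] at hg
  obtain ⟨b, x₀, hb, hx₀, rfl⟩ := hg
  rw [mem_Bad]
  rintro ⟨y, hy, hy1, hgy⟩
  have hb' : b⁻¹ = b := inv_of_orderOf_two hb
  have hbb := mul_self_of_orderOf_two hb
  obtain ⟨y', hy'⟩ : ∃ y', y' = x₀ * y * x₀⁻¹ := ⟨_, rfl⟩
  have hy'Q : y' ∈ Q := by rw [hy']; exact Q.mul_mem (Q.mul_mem hx₀ hy) (Q.inv_mem hx₀)
  have hy'1 : y' ≠ 1 := by
    intro e
    apply hy1
    rw [hy'] at e
    have := congrArg (fun z => x₀⁻¹ * z * x₀) e
    simpa [mul_assoc] using this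
  have hby : b * y' * b⁻¹ ∈ Q := by
    have : b * y' * b⁻¹ = b * x₀ * y * (b * x₀)⁻¹ := by rw [hy']; group
    rw [this]; exact hgy
  have hw : y'⁻¹ * (b * y' * b⁻¹) = 1 := by
    apply qd.eq_one_of_real h c (Q.mul_mem (Q.inv_mem hy'Q) hby) hb
    rw [hb']
    calc b * (y'⁻¹ * (b * y' * b)) * b = b * y'⁻¹ * b * y' * (b * b) := by group
      _ = b * y'⁻¹ * b * y' := by rw [hbb, mul_one]
      _ = (y'⁻¹ * (b * y' * b))⁻¹ := by
        rw [mul_inv_rev, mul_inv_rev, mul_inv_rev, hb', inv_inv]; group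
  have hcomm : y' * b = b * y' := by
    have h1 : b * y' * b⁻¹ = y' := by
      have := congrArg (fun z => y' * z) hw
      simpa using this
    exact (mul_inv_eq_iff_eq_mul.1 h1).symm
  exact (mem_Ws.1 (mem_Us.1 (qd.sub y' hy'Q hy'1)).1).2 (h.KT_comm (h.KT_invol hb) hcomm hy'1)

theorem card_arith (h : BSW t s K) (qd : QD K X Q) :
    Fintype.card G = (Inv G).card * Nat.card Q + (Inv G).card := by
  have hm := h.two_le_card
  rw [h.card_G, qd.card]
  obtain ⟨m', hm'⟩ : ∃ m', Nat.card K = m' + 1 := ⟨Nat.card K - 1, by omega⟩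
  rw [hm']
  have : 2 * (m' + 1) - 1 = 2 * m' + 1 := by omega
  rw [this]
  ring

theorem card_Bad_le (h : BSW t s K) (c : CD t K X (-1)) (qd : QD K X Q) :
    (Bad Q).card ≤ (Inv G).card := by
  classical
  have h1 : Disjoint (IQ Q) (Bad Q) := by
    rw [Finset.disjoint_left]
    intro g hg
    exact qd.not_Bad_of_IQ h c hg
  have h2 := Finset.card_le_univ (IQ Q ∪ Bad Q)
  rw [Finset.card_union_of_disjoint h1, qd.card_IQ h c, qd.card_arith h] at h2
  omega

open Classical in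
theorem sum_iot_Bad (Q : Subgroup G) : ∑ x ∈ Ks Q, Helper75.iot (Ks Q) x
    = ∑ g ∈ Bad Q, ((Ks Q).filter (fun x => g * x * g⁻¹ ∈ Ks Q)).card := by
  classical
  unfold Helper75.iot
  simp only [Finset.card_filter]
  rw [Finset.sum_comm]
  symm
  apply Finset.sum_subset (Finset.subset_univ _)
  intro g _ hg
  apply Finset.sum_eq_zero
  intro x hx
  rw [if_neg]
  intro hgx
  apply hg
  rw [mem_Ks] at hx hgx
  rw [mem_Bad]
  exact ⟨x, hx.1, hx.2, hgx.1⟩

theorem Bad_spec (h : BSW t s K) (c : CD t K X (-1)) (qd : QD K X Q) :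
    (Bad Q).card = (Inv G).card ∧ ∀ g ∈ Bad Q, ∀ x ∈ Q, g * x * g⁻¹ ∈ Q := by
  classical
  have hm := h.two_le_card
  have h1 : ∑ x ∈ Ks Q, Helper75.iot (Ks Q) x = (Ks Q).card * (Inv G).card := by
    rw [Finset.sum_congr rfl (fun x hx => qd.iot x (qd.sub x (mem_Ks.1 hx).1 (mem_Ks.1 hx).2)),
      Finset.sum_const, smul_eq_mul]
  rw [sum_iot_Bad] at h1
  have hle : ∀ g ∈ Bad Q, ((Ks Q).filter (fun x => g * x * g⁻¹ ∈ Ks Q)).card ≤ (Ks Q).card :=
    fun g _ => Finset.card_filter_le _ _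
  have h2 := Finset.sum_le_sum hle
  rw [h1, Finset.sum_const, smul_eq_mul] at h2
  have h3 := qd.card_Bad_le h c
  have h4 := card_Ks (K := Q)
  have hpos : 0 < (Ks Q).card := by
    have := qd.card
    omega
  have h5 : (Inv G).card ≤ (Bad Q).card := by
    rw [mul_comm] at h2
    exact Nat.le_of_mul_le_mul_right h2 hpos
  have h6 : (Bad Q).card = (Inv G).card := le_antisymm h3 h5
  refine ⟨h6, ?_⟩
  have h7 : ∑ g ∈ Bad Q, ((Ks Q).filter (fun x => g * x * g⁻¹ ∈ Ks Q)).card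
      = ∑ _g ∈ Bad Q, (Ks Q).card := by
    rw [h1, Finset.sum_const, smul_eq_mul, h6, mul_comm]
  have h8 := (Finset.sum_eq_sum_iff_of_le hle).1 h7
  intro g hg x hx
  by_cases hx1 : x = 1
  · rw [hx1]; simp [Q.one_mem]
  · have := (Finset.card_filter_eq_iff.1 (h8 g hg)) x (mem_Ks.2 ⟨hx, hx1⟩)
    exact (mem_Ks.1 this).1

theorem Bad_inv {g : G} (hg : g ∈ Bad Q) : g⁻¹ ∈ Bad Q := by
  rw [mem_Bad] at hg ⊢
  obtain ⟨x, hx, hx1, hgx⟩ := hg
  refine ⟨g * x * g⁻¹, hgx, ?_, ?_⟩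
  · intro e
    apply hx1
    have := congrArg (fun z => g⁻¹ * z * g) e
    simpa [mul_assoc] using this
  · have : g⁻¹ * (g * x * g⁻¹) * g⁻¹⁻¹ = x := by group
    rw [this]; exact hx

theorem ne_bot (h : BSW t s K) (qd : QD K X Q) : ∃ x ∈ Q, x ≠ 1 := by
  have hm := h.two_le_card
  have h4 := card_Ks (K := Q)
  have hpos : 0 < (Ks Q).card := by
    have := qd.card
    omega
  obtain ⟨x, hx⟩ := Finset.card_pos.1 hpos
  exact ⟨x, (mem_Ks.1 hx).1, (mem_Ks.1 hx).2⟩

theorem mem_normalizer_iff (h : BSW t s K) (c : CD t K X (-1)) (qd : QD K X Q) {g : G} :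
    g ∈ Subgroup.normalizer (Q : Set G) ↔ g ∈ Bad Q := by
  constructor
  · intro hg
    obtain ⟨x, hx, hx1⟩ := qd.ne_bot h
    rw [mem_Bad]
    exact ⟨x, hx, hx1, (Subgroup.mem_normalizer_iff.1 hg x).1 hx⟩
  · intro hg
    rw [Subgroup.mem_normalizer_iff]
    intro x
    refine ⟨(qd.Bad_spec h c).2 g hg x, fun hx => ?_⟩
    have := (qd.Bad_spec h c).2 g⁻¹ (Bad_inv hg) _ hx
    have e : g⁻¹ * (g * x * g⁻¹) * g⁻¹⁻¹ = x := by group
    rwa [e] at this

theorem card_normalizer (h : BSW t s K) (c : CD t K X (-1)) (qd : QD K X Q) :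
    Nat.card (Subgroup.normalizer (Q : Set G)) = (Inv G).card := by
  classical
  rw [← (qd.Bad_spec h c).1, ← card_Qf]
  congr 1
  ext g
  rw [mem_Qf, qd.mem_normalizer_iff h c]

theorem cen (h : BSW t s K) (c : CD t K X (-1)) (qd : QD K X Q) :
    ∀ x ∈ Q, x ≠ 1 → Subgroup.centralizer ({x} : Set G) = Q := by
  intro x hx hx1
  obtain ⟨d, hd, hz⟩ := qd.conj x (qd.sub x hx hx1)
  have hdN : d ∈ Subgroup.normalizer (Q : Set G) := by
    rw [qd.mem_normalizer_iff h c, mem_Bad]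
    exact ⟨x, hx, hx1, hd⟩
  ext z
  rw [mem_cen, hz]
  exact (Subgroup.mem_normalizer_iff.1 hdN z).symm

/-- every element outside `N(Q)` is the product of an involution and an element of `Q`. -/
theorem mem_IQ_of_not_mem (h : BSW t s K) (c : CD t K X (-1)) (qd : QD K X Q) {g : G}
    (hg : g ∉ Subgroup.normalizer (Q : Set G)) : g ∈ IQ Q := by
  classical
  have h1 : Disjoint (IQ Q) (Bad Q) := by
    rw [Finset.disjoint_left]
    intro g hg
    exact qd.not_Bad_of_IQ h c hg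
  have h2 : IQ Q ∪ Bad Q = Finset.univ := by
    apply Finset.eq_univ_of_card
    rw [Finset.card_union_of_disjoint h1, qd.card_IQ h c, qd.card_arith h, (qd.Bad_spec h c).1]
  have h3 : g ∈ IQ Q ∪ Bad Q := by rw [h2]; exact Finset.mem_univ g
  rcases Finset.mem_union.1 h3 with h4 | h4
  · exact h4
  · exact absurd ((qd.mem_normalizer_iff h c).2 h4) hg

theorem invol_not_mem (h : BSW t s K) (c : CD t K X (-1)) (qd : QD K X Q) {b : G}
    (hb : orderOf b = 2) : b ∉ Subgroup.normalizer (Q : Set G) := by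
  rw [qd.mem_normalizer_iff h c]
  apply qd.not_Bad_of_IQ h c
  rw [mem_IQ]
  exact ⟨b, 1, hb, Q.one_mem, mul_one b⟩

end QD

end BSW

end Cfsg.Agent.Lib.Helper75
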