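import Mathlib
import Cfsg.Agent.Lib.Helper75.BSW11
import Cfsg.Agent.Lib.Helper41.Dickson.Orbits

/-!
# The Brauer-Suzuki-Wall configuration: the case `δ = -1`, the subgroup `D` (helper75)
-/

set_option autoImplicit false

namespace Cfsg.Agent.Lib.Helper75

open Cfsg Cfsg.Agent.Lib.Helper3 Cfsg.Agent.Lib.Helper15

namespace BSW

theorem pow_mem_of_card {G : Type*} [Group G] [Finite G] {Q : Subgroup G} {k : ℕ}
    (hk : Nat.card (Subgroup.normalizer (Q : Set G)) = Nat.card Q * k) {y : G}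
    (hy : y ∈ Subgroup.normalizer (Q : Set G)) : y ^ k ∈ Q := by
  have hn : (Q.subgroupOf (Subgroup.normalizer (Q : Set G))).Normal := inferInstance
  have h1 := Subgroup.pow_index_mem (Q.subgroupOf (Subgroup.normalizer (Q : Set G))) ⟨y, hy⟩
  have h2 := Subgroup.card_mul_index (Q.subgroupOf (Subgroup.normalizer (Q : Set G)))
  rw [Nat.card_congr (Subgroup.subgroupOfEquivOfLe Subgroup.le_normalizer).toEquiv, hk] at h2
  have h3 := Nat.eq_of_mul_eq_mul_left Nat.card_pos h2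
  rw [h3, Subgroup.mem_subgroupOf] at h1
  exact h1

theorem mem_normalizer_of {G : Type*} [Group G] {Y : Subgroup G} {g : G}
    (h1 : ∀ y ∈ Y, g * y * g⁻¹ ∈ Y) (h2 : ∀ y ∈ Y, g⁻¹ * y * g ∈ Y) :
    g ∈ Subgroup.normalizer (Y : Set G) := by
  rw [Subgroup.mem_normalizer_iff]
  intro y
  refine ⟨h1 y, fun hy => ?_⟩
  have := h2 _ hy
  have e : g⁻¹ * (g * y * g⁻¹) * g = y := by group
  rwa [e] at this

theorem comm_of_inverts {G : Type*} [Group G] {D : Subgroup G} {a : G}
    (hinv : ∀ y ∈ D, a * y * a⁻¹ = y⁻¹) : ∀ x ∈ D, ∀ y ∈ D, x * y = y * x := by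
  intro x hx y hy
  have h1 := hinv (x * y) (Subgroup.mul_mem _ hx hy)
  have h2 : a * (x * y) * a⁻¹ = (a * x * a⁻¹) * (a * y * a⁻¹) := by group
  rw [h2, hinv x hx, hinv y hy, mul_inv_rev] at h1
  have h3 := congrArg (fun z => z⁻¹) h1
  simpa using h3.symm

theorem card_ne_one_sub {G : Type*} [Group G] [Finite G] (N : Subgroup G) :
    Nat.card {n : G // n ∈ N ∧ n ≠ 1} = Nat.card N - 1 := by
  classical
  have e : {n : G // n ∈ N ∧ n ≠ 1} ≃ {n : N // n ≠ 1} :=
    { toFun := fun n => ⟨⟨n.1, n.2.1⟩, fun hcon => n.2.2 (congrArg Subtype.val hcon)⟩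
      invFun := fun n => ⟨n.1.1, n.1.2, fun hcon => n.2 (Subtype.ext hcon)⟩
      left_inv := fun _ => rfl
      right_inv := fun _ => rfl }
  rw [Nat.card_congr e]
  haveI := Fintype.ofFinite N
  rw [Nat.card_eq_fintype_card, Nat.card_eq_fintype_card, Fintype.card_subtype_compl]
  simp

theorem card_dvd_sub_one_of_free {G : Type*} [Group G] [Finite G] (L D : Subgroup G)
    (hL : L ≤ Subgroup.normalizer (D : Set G))
    (hfree : ∀ k ∈ L, ∀ d ∈ D, d ≠ 1 → k * d * k⁻¹ = d → k = 1) :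
    Nat.card L ∣ Nat.card D - 1 := by
  letI : MulAction L {n : G // n ∈ D ∧ n ≠ 1} :=
    { smul := fun c u => ⟨c.1 * u.1 * c.1⁻¹, (Subgroup.mem_normalizer_iff.1 (hL c.2) u.1).1 u.2.1, by
        intro hcon
        apply u.2.2
        have : u.1 = c.1⁻¹ * (c.1 * u.1 * c.1⁻¹) * c.1 := by group
        rw [this, hcon]; group⟩
      one_smul := fun u => by
        apply Subtype.ext
        show (1 : G) * u.1 * (1 : G)⁻¹ = u.1
        simp
      mul_smul := fun c d u => by
        apply Subtype.ext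
        show (c.1 * d.1) * u.1 * (c.1 * d.1)⁻¹ = c.1 * (d.1 * u.1 * d.1⁻¹) * c.1⁻¹
        group }
  rw [← card_ne_one_sub]
  apply Cfsg.Agent.Lib.Helper41.Dickson.card_dvd_of_free
  intro k n hkn
  have h1 : k.1 * n.1 * k.1⁻¹ = n.1 := congrArg Subtype.val hkn
  exact Subtype.ext (hfree k.1 k.2 n.1 n.2.1 n.2.2 h1)

variable {G : Type*} [Group G] [Fintype G] {t s : G} {K : Subgroup G} {X : G → ℂ}

/-- `D = N(Q) ∩ t N(Q) t⁻¹`. -/
def DD (t : G) (Q : Subgroup G) : Subgroup G :=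
  Subgroup.normalizer (Q : Set G) ⊓
    (Subgroup.normalizer (Q : Set G)).comap (MulAut.conj t).toMonoidHom

omit [Fintype G] in
theorem mem_DD {Q : Subgroup G} {y : G} : y ∈ DD t Q ↔
    y ∈ Subgroup.normalizer (Q : Set G) ∧ t * y * t⁻¹ ∈ Subgroup.normalizer (Q : Set G) := by
  unfold DD
  rw [Subgroup.mem_inf, Subgroup.mem_comap]
  rfl

namespace QD

variable {Q : Subgroup G}

theorem card_normalizer' (h : BSW t s K) (c : CD t K X (-1)) (qd : QD K X Q) :
    Nat.card (Subgroup.normalizer (Q : Set G)) = Nat.card Q * (Nat.card K - 1) := by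
  have hm := h.two_le_card
  rw [qd.card_normalizer h c, qd.card]
  zify
  rw [c.inv]
  push_cast [Nat.cast_sub (by omega : 1 ≤ 2 * Nat.card K), Nat.cast_sub (by omega : 1 ≤ Nat.card K)]
  ring

theorem mem_of_Us (h : BSW t s K) (c : CD t K X (-1)) (qd : QD K X Q) {y : G}
    (hyN : y ∈ Subgroup.normalizer (Q : Set G)) (hyU : y ∈ Us K X) : y ∈ Q := by
  have hm := h.two_le_card
  have h1 := pow_mem_of_card (qd.card_normalizer' h c) hyN
  have h2 : y ^ (2 * Nat.card K - 1) = 1 := by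
    rw [← (c.card_cen_Us h hyU).1]
    have := pow_card_eq_one' (x := (⟨y, mem_cen.2 rfl⟩ : Subgroup.centralizer ({y} : Set G)))
    exact congrArg Subtype.val this
  have h3 : 2 * Nat.card K - 1 = (Nat.card K - 1) + (Nat.card K - 1) + 1 := by omega
  rw [h3, pow_succ, pow_add] at h2
  have h4 : y = (y ^ (Nat.card K - 1) * y ^ (Nat.card K - 1))⁻¹ := eq_inv_of_mul_eq_one_right h2
  rw [h4]
  exact Q.inv_mem (Q.mul_mem h1 h1)

theorem inf_DD (h : BSW t s K) (c : CD t K X (-1)) (qd : QD K X Q) {y : G} (hy : y ∈ Q)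
    (hyD : y ∈ DD t Q) : y = 1 := by
  by_contra hy1
  rw [mem_DD] at hyD
  have h1 := qd.mem_of_Us h c hyD.2 ((c.Us_conj t).2 (qd.sub y hy hy1))
  apply qd.invol_not_mem h c h.ht
  rw [qd.mem_normalizer_iff h c, mem_Bad]
  exact ⟨y, hy, hy1, h1⟩

theorem exists_decomp (h : BSW t s K) (c : CD t K X (-1)) (qd : QD K X Q) {y : G}
    (hy : y ∈ Subgroup.normalizer (Q : Set G)) :
    ∃ d x, d ∈ Subgroup.normalizer (Q : Set G) ∧ t * d * t⁻¹ = d⁻¹ ∧ x ∈ Q ∧ d * x = y := by
  have h1 : t * y ∉ Subgroup.normalizer (Q : Set G) := by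
    intro e
    apply qd.invol_not_mem h c h.ht
    have := Subgroup.mul_mem _ e (Subgroup.inv_mem _ hy)
    rwa [mul_inv_cancel_right] at this
  have h2 := qd.mem_IQ_of_not_mem h c h1
  rw [mem_IQ] at h2
  obtain ⟨b, x, hb, hx, e⟩ := h2
  have ht' : t⁻¹ = t := inv_of_orderOf_two h.ht
  have hb' : b⁻¹ = b := inv_of_orderOf_two hb
  have hd : y * x⁻¹ = t * b := by
    have : y = t⁻¹ * (b * x) := by rw [e]; group
    rw [this, ht']; group
  refine ⟨y * x⁻¹, x, Subgroup.mul_mem _ hy (Subgroup.inv_mem _ (Subgroup.le_normalizer hx)),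
    ?_, hx, by group⟩
  rw [hd, mul_inv_rev, ht', hb']
  calc t * (t * b) * t = (t * t) * b * t := by group
    _ = b * t := by rw [h.tt, one_mul]

theorem DD_spec (h : BSW t s K) (c : CD t K X (-1)) (qd : QD K X Q) :
    Nat.card (DD t Q) = Nat.card K - 1 ∧ (∀ y ∈ DD t Q, t * y * t⁻¹ = y⁻¹) ∧
      Q ⊓ DD t Q = ⊥ ∧ Subgroup.normalizer (Q : Set G) = Q ⊔ DD t Q := by
  classical
  have hm := h.two_le_card
  have hqpos : 0 < Nat.card Q := Nat.card_pos
  have hbot : Q ⊓ DD t Q = ⊥ := by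
    rw [Subgroup.eq_bot_iff_forall]
    intro x hx
    rw [Subgroup.mem_inf] at hx
    exact qd.inf_DD h c hx.1 hx.2
  have hDN : DD t Q ≤ Subgroup.normalizer (Q : Set G) := fun y hy => (mem_DD.1 hy).1
  have hsup : Nat.card (DD t Q ⊔ Q : Subgroup G) = Nat.card (DD t Q) * Nat.card Q :=
    Cfsg.Agent.Lib.Helper1.card_sup_of_disjoint hDN (by rw [disjoint_iff, inf_comm]; exact hbot)
  have hle : DD t Q ⊔ Q ≤ Subgroup.normalizer (Q : Set G) := sup_le hDN Subgroup.le_normalizer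
  have h1 : Nat.card (DD t Q) * Nat.card Q ≤ Nat.card (Subgroup.normalizer (Q : Set G)) := by
    rw [← hsup]; exact Subgroup.card_le_of_le hle
  obtain ⟨D', hD'⟩ : ∃ D' : Finset G, D' = Finset.univ.filter
    (fun y => y ∈ Subgroup.normalizer (Q : Set G) ∧ t * y * t⁻¹ = y⁻¹) := ⟨_, rfl⟩
  have memD' : ∀ y, y ∈ D' ↔ y ∈ Subgroup.normalizer (Q : Set G) ∧ t * y * t⁻¹ = y⁻¹ := by
    intro y; rw [hD']; simp
  have h2 : Nat.card (Subgroup.normalizer (Q : Set G)) ≤ D'.card * Nat.card Q := by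
    rw [← card_Qf, ← card_Qf, ← Finset.card_product]
    refine le_trans (Finset.card_le_card ?_)
      (Finset.card_image_le (s := D' ×ˢ Qf Q) (f := fun p => p.1 * p.2))
    intro y hy
    rw [mem_Qf] at hy
    obtain ⟨d, x, hd, hdt, hx, e⟩ := qd.exists_decomp h c hy
    rw [Finset.mem_image]
    exact ⟨(d, x), by rw [Finset.mem_product, memD', mem_Qf]; exact ⟨⟨hd, hdt⟩, hx⟩, e⟩
  have hsub : D' ⊆ Qf (DD t Q) := by
    intro y hy
    rw [memD'] at hy
    rw [mem_Qf, mem_DD]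
    exact ⟨hy.1, by rw [hy.2]; exact Subgroup.inv_mem _ hy.1⟩
  have h3 : (Qf (DD t Q)).card ≤ D'.card := by
    rw [card_Qf]
    exact Nat.le_of_mul_le_mul_right (h1.trans h2) hqpos
  have h4 : D' = Qf (DD t Q) := Finset.eq_of_subset_of_card_le hsub h3
  have h5 : Nat.card (DD t Q) * Nat.card Q = Nat.card (Subgroup.normalizer (Q : Set G)) := by
    apply le_antisymm h1
    rw [h4, card_Qf] at h2
    exact h2
  refine ⟨?_, ?_, hbot, ?_⟩
  · rw [qd.card_normalizer' h c, mul_comm] at h5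
    exact Nat.eq_of_mul_eq_mul_left hqpos h5
  · intro y hy
    have : y ∈ D' := by rw [h4, mem_Qf]; exact hy
    exact ((memD' y).1 this).2
  · rw [sup_comm]
    symm
    apply Subgroup.eq_of_le_of_card_ge hle
    rw [hsup, h5]

theorem DD_real (h : BSW t s K) (c : CD t K X (-1)) (qd : QD K X Q) (hD : DD t Q ≠ ⊥) :
    RealSub K t (DD t Q) := by
  have hm := h.two_le_card
  obtain ⟨hcard, hinv, -, -⟩ := qd.DD_spec h c
  obtain ⟨d, hd, hd1⟩ := (Subgroup.ne_bot_iff_exists_ne_one.1 hD : ∃ y : DD t Q, y ≠ 1) |>.elim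
    (fun y hy => (⟨y.1, y.2, fun e => hy (Subtype.ext e)⟩ : ∃ y, y ∈ DD t Q ∧ y ≠ 1))
  have hpow : d ^ (Nat.card K - 1) = 1 := by
    rw [← hcard]
    have := pow_card_eq_one' (x := (⟨d, hd⟩ : DD t Q))
    exact congrArg Subtype.val this
  have hdW : d ∈ Ws K := by
    rw [mem_Ws]
    refine ⟨hd1, ?_⟩
    rintro ⟨-, e, he⟩
    apply hd1
    have h1 : (e * d * e⁻¹) ^ Nat.card K = 1 := by
      have := pow_card_eq_one' (x := (⟨e * d * e⁻¹, he⟩ : K))
      exact congrArg Subtype.val this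
    rw [conj_pow] at h1
    have h2 : d ^ Nat.card K = 1 := by
      have := congrArg (fun z => e⁻¹ * z * e) h1
      simpa [mul_assoc] using this
    have h3 : Nat.card K = (Nat.card K - 1) + 1 := by omega
    rw [h3, pow_succ, hpow, one_mul] at h2
    exact h2
  have r := h.real_sub hdW h.ht (hinv d hd)
  have hV := c.real_Vs h r (mem_cen.2 rfl) hd1
  obtain ⟨-, -, -, hc⟩ := c.real_of_Vs h hV
  have hle : DD t Q ≤ Subgroup.centralizer ({d} : Set G) := by
    intro y hy
    rw [mem_cen]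
    exact comm_of_inverts hinv y hy d hd
  have heq : DD t Q = Subgroup.centralizer ({d} : Set G) :=
    Subgroup.eq_of_le_of_card_ge hle (by rw [hc, hcard])
  rw [heq]
  exact r

end QD

theorem RealSub.normalizer_eq_of_card (h : BSW t s K) {D : Subgroup G} (r : RealSub K t D)
    (hD : D ≠ ⊥) (hcard : Nat.card D = Nat.card K - 1) :
    Subgroup.normalizer (D : Set G) = D ⊔ Subgroup.zpowers t := by
  have hm := h.two_le_card
  have ht' : t⁻¹ = t := inv_of_orderOf_two h.ht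
  have h1 : Nat.card (Subgroup.normalizer (D : Set G) ⊓ K : Subgroup G) ∣ Nat.card D - 1 := by
    apply card_dvd_sub_one_of_free _ _ inf_le_left
    intro k hk d hd hd1 e
    by_contra hk1
    have := r.W d hd hd1
    rw [mem_Ws] at this
    apply this.2
    apply h.KT_comm (z := k) ⟨hk1, 1, by simpa using (Subgroup.mem_inf.1 hk).2⟩ _ hd1
    exact (mul_inv_eq_iff_eq_mul.1 e).symm
  have h2 : Nat.card (Subgroup.normalizer (D : Set G) ⊓ K : Subgroup G) ∣ Nat.card K :=
    Subgroup.card_dvd_of_le inf_le_right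
  have h3 : Nat.card (Subgroup.normalizer (D : Set G) ⊓ K : Subgroup G) ∣ 2 := by
    have hD2 : 1 < Nat.card D := by
      rw [Subgroup.one_lt_card_iff_ne_bot]; exact hD
    have := Nat.dvd_sub h2 h1
    have e : Nat.card K - (Nat.card D - 1) = 2 := by omega
    rwa [e] at this
  have htN : t ∈ Subgroup.normalizer (D : Set G) := by
    apply mem_normalizer_of
    · intro y hy
      rw [r.inverts y hy]; exact D.inv_mem hy
    · intro y hy
      have := r.inverts y hy
      rw [ht'] at this ⊢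
      rw [this]; exact D.inv_mem hy
  have h4 : Subgroup.zpowers t = Subgroup.normalizer (D : Set G) ⊓ K := by
    apply Subgroup.eq_of_le_of_card_ge
    · rw [Subgroup.zpowers_le, Subgroup.mem_inf]
      exact ⟨htN, h.htK⟩
    · rw [Nat.card_zpowers, h.ht]
      exact Nat.le_of_dvd (by norm_num) h3
  conv_lhs => rw [r.normalizer_eq h hD]
  rw [← h4]

theorem CD.concl_neg (h : BSW t s K) (c : CD t K X (-1)) : Concl G := by
  have hm := h.two_le_card
  have ht' : t⁻¹ = t := inv_of_orderOf_two h.ht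
  obtain ⟨Q, qd⟩ := c.exists_QD h
  obtain ⟨hcard, hinv, hbot, hN⟩ := qd.DD_spec h c
  refine ⟨Q, DD t Q, ?_, qd.cen h c,
    ⟨⟨fun x y => Subtype.ext (comm_of_inverts hinv x x.2 y y.2)⟩⟩, ?_, hbot, hN, ?_⟩
  · rw [Nat.card_eq_fintype_card, h.card_G, qd.card]
    have h7 : (Inv G).card = (2 * Nat.card K - 1) * (Nat.card K - 1) := by
      zify
      rw [c.inv]
      push_cast [Nat.cast_sub (by omega : 1 ≤ 2 * Nat.card K),
        Nat.cast_sub (by omega : 1 ≤ Nat.card K)]
      ring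
    rw [h7]
    obtain ⟨m', hm'⟩ : ∃ m', Nat.card K = m' + 1 := ⟨Nat.card K - 1, by omega⟩
    rw [hm']
    have e1 : 2 * (m' + 1) - 1 = 2 * m' + 1 := by omega
    have e2 : m' + 1 - 1 = m' := by omega
    have e3 : 2 * m' + 1 - 1 = 2 * m' := by omega
    rw [e1, e2, e3]
    ring
  · rw [hcard, qd.card]
    omega
  · intro Y hY hY1
    have hD : DD t Q ≠ ⊥ := by
      intro e
      rw [e] at hY
      exact hY1 (le_bot_iff.1 hY)
    have r := qd.DD_real h c hD
    have hND := r.normalizer_eq_of_card h hD hcard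
    refine ⟨?_, t, h.ht, fun e => r.no_invol h e h.ht, hinv, hND⟩
    apply le_antisymm
    · intro g hg
      obtain ⟨y, hy, hy1⟩ := (Subgroup.ne_bot_iff_exists_ne_one.1 hY1 : ∃ y : Y, y ≠ 1) |>.elim
        (fun y hy => (⟨y.1, y.2, fun e => hy (Subtype.ext e)⟩ : ∃ y, y ∈ Y ∧ y ≠ 1))
      exact r.mem_normalizer (hY hy) hy1 (hY ((Subgroup.mem_normalizer_iff.1 hg y).1 hy))
    · rw [hND]
      apply sup_le
      · intro w hw
        apply mem_normalizer_of
        · intro y hy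
          rw [r.comm w hw y (hY hy), mul_inv_cancel_right]; exact hy
        · intro y hy
          rw [mul_assoc, r.comm y (hY hy) w hw, inv_mul_cancel_left]; exact hy
      · rw [Subgroup.zpowers_le]
        apply mem_normalizer_of
        · intro y hy
          rw [hinv y (hY hy)]; exact Y.inv_mem hy
        · intro y hy
          have := hinv y (hY hy)
          rw [ht'] at this ⊢
          rw [this]; exact Y.inv_mem hy

/-- The Brauer-Suzuki-Wall theorem when `|K| ≥ 4`. -/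
theorem concl_of_four_le (h : BSW t s K) (hm : 4 ≤ Nat.card K) : Concl G := by
  obtain ⟨X, δ, c⟩ := h.exists_CD hm
  rcases c.sgn with rfl | rfl
  · exact c.concl_pos h
  · exact c.concl_neg h

end BSW

end Cfsg.Agent.Lib.Helper75
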