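import Mathlib
import Cfsg.Agent.Lib.Helper75.BSW12

/-!
# The Brauer-Suzuki-Wall conclusion for the alternating group of degree five (helper75)
-/

set_option autoImplicit false

namespace Cfsg.Agent.Lib.Helper75

open Cfsg

namespace BSW

theorem mem_zpowers_invol {G : Type*} [Group G] [Finite G] {b d : G} (hb : orderOf b = 2) :
    d ∈ Subgroup.zpowers b ↔ d = 1 ∨ d = b := by
  classical
  constructor
  · intro hd
    rw [← mem_powers_iff_mem_zpowers, mem_powers_iff_mem_range_orderOf, hb] at hd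
    simp only [Finset.mem_image, Finset.mem_range] at hd
    obtain ⟨j, hj, rfl⟩ := hd
    interval_cases j
    · left; simp
    · right; simp
  · rintro (rfl | rfl)
    · exact Subgroup.one_mem _
    · exact Subgroup.mem_zpowers _

theorem concl_of_facts {G : Type*} [Group G] [Finite G] (hG : Nat.card G = 60) (x b u : G)
    (hx5 : x ^ 5 = 1) (hx1 : x ≠ 1) (hbb : b * b = 1) (hb1 : b ≠ 1) (hbx : b * x * b⁻¹ = x⁻¹)
    (huu : u * u = 1) (hu1 : u ≠ 1) (hub : u ≠ b) (hubc : u * b = b * u)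
    (hCb : ∀ g, g * b = b * g → g = 1 ∨ g = b ∨ g = u ∨ g = b * u)
    (hN : ∀ g, (∃ j : Fin 5, g * x * g⁻¹ = x ^ j.1) → ∃ j : Fin 5, g = x ^ j.1 ∨ g = x ^ j.1 * b)
    (hC : ∀ y, ∀ i : Fin 4, y * x ^ (i.1 + 1) = x ^ (i.1 + 1) * y → ∃ j : Fin 5, y = x ^ j.1) :
    Concl G := by
  classical
  haveI : Fact (Nat.Prime 5) := ⟨by norm_num⟩
  have hxo : orderOf x = 5 := orderOf_eq_prime hx5 hx1
  have hbo : orderOf b = 2 := orderOf_two_of hbb hb1
  have huo : orderOf u = 2 := orderOf_two_of huu hu1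
  have hb' : b⁻¹ = b := inv_of_orderOf_two hbo
  have hu' : u⁻¹ = u := inv_of_orderOf_two huo
  have hQc : Nat.card (Subgroup.zpowers x) = 5 := by rw [Nat.card_zpowers, hxo]
  have hDc : Nat.card (Subgroup.zpowers b) = 2 := by rw [Nat.card_zpowers, hbo]
  have memQ : ∀ y, y ∈ Subgroup.zpowers x → ∃ j, j < 5 ∧ y = x ^ j := by
    intro y hy
    rw [← mem_powers_iff_mem_zpowers, mem_powers_iff_mem_range_orderOf, hxo] at hy
    simp only [Finset.mem_image, Finset.mem_range] at hy
    obtain ⟨j, hj, rfl⟩ := hy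
    exact ⟨j, hj, rfl⟩
  have hbN : ∀ y ∈ Subgroup.zpowers x, b * y * b⁻¹ ∈ Subgroup.zpowers x := by
    intro y hy
    obtain ⟨j, -, rfl⟩ := memQ y hy
    rw [← conj_pow, hbx]
    exact Subgroup.pow_mem _ (Subgroup.inv_mem _ (Subgroup.mem_zpowers x)) _
  have huD : ∀ d ∈ Subgroup.zpowers b, u * d * u⁻¹ = d⁻¹ := by
    intro d hd
    rcases (mem_zpowers_invol hbo).1 hd with rfl | rfl
    · simp
    · rw [hubc, mul_inv_cancel_right, hb']
  refine ⟨Subgroup.zpowers x, Subgroup.zpowers b, ?_, ?_, ?_, ?_, ?_, ?_, ?_⟩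
  · rw [hG, hQc]
  · intro y hy hy1
    obtain ⟨j, hj, rfl⟩ := memQ y hy
    have hj0 : j ≠ 0 := by
      rintro rfl
      simp at hy1
    obtain ⟨i, rfl⟩ : ∃ i, j = i + 1 := ⟨j - 1, by omega⟩
    apply le_antisymm
    · intro z hz
      rw [mem_cen] at hz
      obtain ⟨k, rfl⟩ := hC z ⟨i, by omega⟩ hz
      exact Subgroup.pow_mem _ (Subgroup.mem_zpowers x) _
    · intro z hz
      obtain ⟨k, -, rfl⟩ := memQ z hz
      rw [mem_cen, ← pow_add, ← pow_add, add_comm]
  · refine ⟨⟨fun a c => Subtype.ext ?_⟩⟩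
    obtain ⟨k, hk⟩ := Subgroup.mem_zpowers_iff.1 a.2
    obtain ⟨l, hl⟩ := Subgroup.mem_zpowers_iff.1 c.2
    show (a : G) * c = c * a
    rw [← hk, ← hl, ← zpow_add, ← zpow_add, add_comm]
  · rw [hQc, hDc]
  · rw [← disjoint_iff]
    apply Subgroup.disjoint_of_coprime_natCard
    rw [hQc, hDc]; norm_num
  · apply le_antisymm
    · intro g hg
      have h1 := (Subgroup.mem_normalizer_iff.1 hg x).1 (Subgroup.mem_zpowers x)
      obtain ⟨j, hj, e⟩ := memQ _ h1
      obtain ⟨k, hk⟩ := hN g ⟨⟨j, hj⟩, e⟩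
      rcases hk with rfl | rfl
      · exact Subgroup.mem_sup_left (Subgroup.pow_mem _ (Subgroup.mem_zpowers x) _)
      · exact Subgroup.mul_mem _ (Subgroup.mem_sup_left (Subgroup.pow_mem _
          (Subgroup.mem_zpowers x) _)) (Subgroup.mem_sup_right (Subgroup.mem_zpowers b))
    · apply sup_le Subgroup.le_normalizer
      rw [Subgroup.zpowers_le]
      apply mem_normalizer_of hbN
      intro y hy
      have := hbN y hy
      rw [hb'] at this ⊢
      exact this
  · intro Y hY hY1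
    have hYD : Y = Subgroup.zpowers b := by
      apply le_antisymm hY
      rw [Subgroup.zpowers_le]
      obtain ⟨y, hy, hy1⟩ := (Subgroup.ne_bot_iff_exists_ne_one.1 hY1 : ∃ y : Y, y ≠ 1) |>.elim
        (fun y hy => (⟨y.1, y.2, fun e => hy (Subtype.ext e)⟩ : ∃ y, y ∈ Y ∧ y ≠ 1))
      rcases (mem_zpowers_invol hbo).1 (hY hy) with e | e
      · exact absurd e hy1
      · rw [← e]; exact hy
    refine ⟨by rw [hYD], u, huo, ?_, huD, ?_⟩
    · intro e
      rcases (mem_zpowers_invol hbo).1 e with e | e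
      · exact hu1 e
      · exact hub e
    · apply le_antisymm
      · intro g hg
        have h1 := (Subgroup.mem_normalizer_iff.1 hg b).1 (Subgroup.mem_zpowers b)
        have h2 : g * b = b * g := by
          rcases (mem_zpowers_invol hbo).1 h1 with e | e
          · exfalso
            apply hb1
            have := congrArg (fun z => g⁻¹ * z * g) e
            simpa [mul_assoc] using this
          · exact mul_inv_eq_iff_eq_mul.1 e
        rcases hCb g h2 with rfl | rfl | rfl | rfl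
        · exact Subgroup.one_mem _
        · exact Subgroup.mem_sup_left (Subgroup.mem_zpowers _)
        · exact Subgroup.mem_sup_right (Subgroup.mem_zpowers _)
        · exact Subgroup.mul_mem _ (Subgroup.mem_sup_left (Subgroup.mem_zpowers _))
            (Subgroup.mem_sup_right (Subgroup.mem_zpowers _))
      · apply sup_le Subgroup.le_normalizer
        rw [Subgroup.zpowers_le]
        apply mem_normalizer_of
        · intro y hy
          rw [huD y hy]; exact Subgroup.inv_mem _ hy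
        · intro y hy
          have := huD y hy
          rw [hu'] at this ⊢
          rw [this]; exact Subgroup.inv_mem _ hy

open Equiv.Perm in
/-- a five-cycle. -/
def x5 : alternatingGroup (Fin 5) :=
  ⟨c[0,1,2,3,4], Equiv.Perm.mem_alternatingGroup.2 (by decide)⟩

open Equiv.Perm in
/-- an involution inverting `x5`. -/
def b5 : alternatingGroup (Fin 5) :=
  ⟨c[1,4] * c[2,3], Equiv.Perm.mem_alternatingGroup.2 (by decide)⟩

open Equiv.Perm in
/-- an involution commuting with `b5`. -/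
def u5 : alternatingGroup (Fin 5) :=
  ⟨c[1,2] * c[3,4], Equiv.Perm.mem_alternatingGroup.2 (by decide)⟩

theorem A5f1 : x5 ^ 5 = 1 ∧ x5 ≠ 1 ∧ b5 * b5 = 1 ∧ b5 ≠ 1 ∧ b5 * x5 * b5⁻¹ = x5⁻¹ := by
  decide +kernel

theorem A5f2 : u5 * u5 = 1 ∧ u5 ≠ 1 ∧ u5 ≠ b5 ∧ u5 * b5 = b5 * u5 := by decide +kernel

theorem A5f3 : ∀ g, g * b5 = b5 * g → g = 1 ∨ g = b5 ∨ g = u5 ∨ g = b5 * u5 := by
  decide +kernel

theorem A5f4 : ∀ g, (∃ j : Fin 5, g * x5 * g⁻¹ = x5 ^ j.1) →
    ∃ j : Fin 5, g = x5 ^ j.1 ∨ g = x5 ^ j.1 * b5 := by decide +kernel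

theorem A5f5 : ∀ y, ∀ i : Fin 4, y * x5 ^ (i.1 + 1) = x5 ^ (i.1 + 1) * y →
    ∃ j : Fin 5, y = x5 ^ j.1 := by decide +kernel

theorem A5f6 : Fintype.card (alternatingGroup (Fin 5)) = 60 := by decide +kernel

theorem concl_A5 {G : Type*} [Group G] [Finite G] (e : G ≃* alternatingGroup (Fin 5)) :
    Concl G := by
  have hG : Nat.card G = 60 := by
    rw [Nat.card_congr e.toEquiv, Nat.card_eq_fintype_card, A5f6]
  obtain ⟨a1, a2, a3, a4, a5⟩ := A5f1
  obtain ⟨c1, c2, c3, c4⟩ := A5f2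
  have inj := e.symm.injective
  apply concl_of_facts hG (e.symm x5) (e.symm b5) (e.symm u5)
  · rw [← map_pow, a1, map_one]
  · intro h; exact a2 (inj (by rw [h, map_one]))
  · rw [← map_mul, a3, map_one]
  · intro h; exact a4 (inj (by rw [h, map_one]))
  · rw [← map_inv, ← map_mul, ← map_mul, a5, map_inv]
  · rw [← map_mul, c1, map_one]
  · intro h; exact c2 (inj (by rw [h, map_one]))
  · intro h; exact c3 (inj h)
  · rw [← map_mul, c4, map_mul]
  · intro g hg
    have h1 : e g * b5 = b5 * e g := by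
      have := congrArg e hg
      simpa using this
    rcases A5f3 (e g) h1 with h2 | h2 | h2 | h2
    · left; rw [← e.symm_apply_apply g, h2, map_one]
    · right; left; rw [← e.symm_apply_apply g, h2]
    · right; right; left; rw [← e.symm_apply_apply g, h2]
    · right; right; right; rw [← e.symm_apply_apply g, h2, map_mul]
  · rintro g ⟨j, hj⟩
    have h1 : e g * x5 * (e g)⁻¹ = x5 ^ j.1 := by
      have := congrArg e hj
      simpa using this
    obtain ⟨k, hk⟩ := A5f4 (e g) ⟨j, h1⟩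
    refine ⟨k, ?_⟩
    rcases hk with h2 | h2
    · left; rw [← e.symm_apply_apply g, h2, map_pow]
    · right; rw [← e.symm_apply_apply g, h2, map_mul, map_pow]
  · intro y i hy
    have h1 : e y * x5 ^ (i.1 + 1) = x5 ^ (i.1 + 1) * e y := by
      have := congrArg e hy
      simpa using this
    obtain ⟨k, hk⟩ := A5f5 (e y) i h1
    exact ⟨k, by rw [← e.symm_apply_apply y, hk, map_pow]⟩

end BSW

end Cfsg.Agent.Lib.Helper75
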