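import Mathlib
import Cfsg.Agent.Lib.Helper75.BSW13
import Cfsg.Agent.S3277

/-!
# The Brauer-Suzuki-Wall configuration: the case `|K| = 2` (helper75)
-/

set_option autoImplicit false

namespace Cfsg.Agent.Lib.Helper75

open Cfsg

namespace BSW

variable {G : Type*} [Group G] [Fintype G] {t s : G} {K : Subgroup G}

theorem sq_of_cen_t (h : BSW t s K) (hm : Nat.card K = 2) {g : G} (hg : g * t = t * g) :
    g * g = 1 := by
  by_cases hgK : g ∈ K
  · have := pow_card_eq_one' (x := (⟨g, hgK⟩ : K))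
    rw [hm] at this
    have h2 := congrArg Subtype.val this
    rw [← pow_two]
    exact h2
  · exact mul_self_of_orderOf_two (h.invol_of_not_mem hg hgK)

theorem sq_of_cen (h : BSW t s K) (hm : Nat.card K = 2) {b g : G} (hb : orderOf b = 2)
    (hg : g * b = b * g) : g * g = 1 := by
  obtain ⟨c, hc⟩ := isConj_iff.1 (h.conj b t hb h.ht)
  have h1 : (c * g * c⁻¹) * t = t * (c * g * c⁻¹) := by
    rw [← hc]
    calc c * g * c⁻¹ * (c * b * c⁻¹) = c * (g * b) * c⁻¹ := by group
      _ = c * (b * g) * c⁻¹ := by rw [hg]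
      _ = _ := by group
  have h2 := h.sq_of_cen_t hm h1
  have h3 : c * g * c⁻¹ * (c * g * c⁻¹) = c * (g * g) * c⁻¹ := by group
  rw [h3] at h2
  have := congrArg (fun z => c⁻¹ * z * c) h2
  simpa [mul_assoc] using this

theorem comm_of_sq {G : Type*} [Group G] {E : Subgroup G} (hE : ∀ g ∈ E, g * g = 1) :
    ∀ x ∈ E, ∀ y ∈ E, x * y = y * x := by
  intro x hx y hy
  have h1 := hE _ (E.mul_mem hx hy)
  have hx' : x⁻¹ = x := inv_eq_of_mul_eq_one_left (hE x hx)
  have hy' : y⁻¹ = y := inv_eq_of_mul_eq_one_left (hE y hy)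
  have h2 : x * y = (x * y)⁻¹ := (inv_eq_of_mul_eq_one_left h1).symm
  rw [h2, mul_inv_rev, hx', hy']

theorem concl_twelve (h : BSW t s K) (hm : Nat.card K = 2)
    (hE : (Subgroup.centralizer ({t} : Set G)).Normal) : Concl G := by
  classical
  have hEc : Nat.card (Subgroup.centralizer ({t} : Set G)) = 4 := by rw [h.card_cen, hm]
  have hinvE : ∀ b, orderOf b = 2 → b ∈ Subgroup.centralizer ({t} : Set G) := by
    intro b hb
    obtain ⟨c, hc⟩ := isConj_iff.1 (h.conj t b h.ht hb)
    rw [← hc]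
    exact hE.conj_mem t (mem_cen.2 rfl) c
  have hn : (Inv G).card = 3 := by
    have h1 : Inv G ⊆ Ks (Subgroup.centralizer ({t} : Set G)) := by
      intro b hb
      rw [mem_Inv] at hb
      rw [mem_Ks]
      exact ⟨hinvE b hb, ne_one_of_orderOf_two hb⟩
    have h2 := Finset.card_le_card h1
    have h3 := card_Ks (K := Subgroup.centralizer ({t} : Set G))
    have h4 : 1 < (Inv G).card := by
      rw [Finset.one_lt_card]
      refine ⟨t, mem_Inv.2 h.ht, s, mem_Inv.2 h.hs, ?_⟩
      intro e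
      apply h.hsK
      rw [← e]; exact h.htK
    obtain ⟨k, hk⟩ := h.odd_inv
    omega
  have hG : Nat.card G = 12 := by
    rw [Nat.card_eq_fintype_card, h.card_G, hm, hn]
  haveI : Fact (Nat.Prime 3) := ⟨by norm_num⟩
  obtain ⟨x, hx⟩ := exists_prime_orderOf_dvd_card' (G := G) 3 (by rw [hG]; norm_num)
  have hQc : Nat.card (Subgroup.zpowers x) = 3 := by rw [Nat.card_zpowers, hx]
  have hcube : ∀ y ∈ Subgroup.zpowers x, y * y * y = 1 := by
    intro y hy
    have := pow_card_eq_one' (x := (⟨y, hy⟩ : Subgroup.zpowers x))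
    rw [hQc] at this
    have h2 := congrArg Subtype.val this
    rw [← pow_two, ← pow_succ]
    exact h2
  have key : ∀ y ∈ Subgroup.zpowers x, ∀ b, orderOf b = 2 → y * b = b * y → y = 1 := by
    intro y hy b hb e
    have h1 := h.sq_of_cen hm hb e
    have h2 := hcube y hy
    rw [h1, one_mul] at h2
    exact h2
  have eqQ : ∀ H : Subgroup G, Subgroup.zpowers x ≤ H → (∀ b ∈ H, orderOf b ≠ 2) →
      H = Subgroup.zpowers x := by
    intro H hQH hno
    have h1 : Nat.card H ∣ 12 := by rw [← hG]; exact Subgroup.card_subgroup_dvd_card H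
    have h2 : 3 ∣ Nat.card H := by rw [← hQc]; exact Subgroup.card_dvd_of_le hQH
    have h3 : ¬ 2 ∣ Nat.card H := by
      intro h3
      obtain ⟨b, hb⟩ := exists_prime_orderOf_dvd_card' 2 h3
      apply hno b b.2
      rw [Subgroup.orderOf_coe]; exact hb
    have h4 : Nat.card H ≤ 12 := Nat.le_of_dvd (by norm_num) h1
    have h5 : Nat.card H = 3 := by
      have h6 : 0 < Nat.card H := Nat.card_pos
      interval_cases (Nat.card H) <;> omega
    symm
    exact Subgroup.eq_of_le_of_card_ge hQH (by rw [h5, hQc])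
  have hx1 : x ≠ 1 := by
    rintro rfl
    rw [orderOf_one] at hx
    omega
  refine ⟨Subgroup.zpowers x, ⊥, ?_, ?_, ?_, ?_, inf_bot_eq _, ?_, ?_⟩
  · rw [hG, hQc]
  · intro y hy hy1
    apply eqQ
    · intro z hz
      rw [mem_cen]
      obtain ⟨k, hk⟩ := Subgroup.mem_zpowers_iff.1 hy
      obtain ⟨l, hl⟩ := Subgroup.mem_zpowers_iff.1 hz
      rw [← hk, ← hl, ← zpow_add, ← zpow_add, add_comm]
    · intro b hb hb2
      exact hy1 (key y hy b hb2 (mem_cen.1 hb).symm)
  · refine ⟨⟨fun a c => Subtype.ext ?_⟩⟩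
    show (a : G) * c = c * a
    rw [Subgroup.mem_bot.1 a.2, Subgroup.mem_bot.1 c.2]
  · rw [Subgroup.card_bot, hQc]
  · rw [sup_bot_eq]
    apply eqQ _ Subgroup.le_normalizer
    intro b hb hb2
    have h1 := (Subgroup.mem_normalizer_iff.1 hb x).1 (Subgroup.mem_zpowers x)
    have hw1 : b * x * b⁻¹ * x⁻¹ ∈ Subgroup.zpowers x :=
      Subgroup.mul_mem _ h1 (Subgroup.inv_mem _ (Subgroup.mem_zpowers x))
    have hw2 : b * x * b⁻¹ * x⁻¹ ∈ Subgroup.centralizer ({t} : Set G) := by
      have e : b * x * b⁻¹ * x⁻¹ = b * (x * b⁻¹ * x⁻¹) := by group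
      rw [e]
      exact Subgroup.mul_mem _ (hinvE b hb2)
        (hE.conj_mem _ (Subgroup.inv_mem _ (hinvE b hb2)) x)
    have hw3 : b * x * b⁻¹ * x⁻¹ = 1 := by
      have h2 := hcube _ hw1
      rw [h.sq_of_cen_t hm (mem_cen.1 hw2), one_mul] at h2
      exact h2
    apply hx1
    apply key x (Subgroup.mem_zpowers x) b hb2
    have h3 : b * x * b⁻¹ = x := mul_inv_eq_one.1 hw3
    exact (mul_inv_eq_iff_eq_mul.1 h3).symm
  · intro Y hY hY1
    exact absurd (le_bot_iff.1 hY) hY1

theorem concl_of_two (h : BSW t s K) (hm : Nat.card K = 2) : Concl G := by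
  classical
  by_cases hE : (Subgroup.centralizer ({t} : Set G)).Normal
  · exact h.concl_twelve hm hE
  · have hH : Nat.card (Subgroup.centralizer ({t} : Set G)) = 4 := by rw [h.card_cen, hm]
    have hpg : IsPGroup 2 (Subgroup.centralizer ({t} : Set G)) :=
      IsPGroup.of_card (n := 2) (by rw [hH]; norm_num)
    obtain ⟨P, hP⟩ := hpg.exists_le_sylow
    have hPH : (P : Subgroup G) = Subgroup.centralizer ({t} : Set G) := by
      symm
      apply Subgroup.eq_of_le_of_card_ge hP
      rw [hH]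
      have := h.sylow_card_dvd P
      rw [hm] at this
      exact Nat.le_of_dvd (by norm_num) this
    have hP4 : Nat.card P = 4 := by
      have : Nat.card (P : Subgroup G) = 4 := by rw [hPH, hH]
      exact this
    have hP2 : ∀ g ∈ P, g ^ 2 = 1 := by
      intro g hg
      have hg' : g ∈ (P : Subgroup G) := hg
      rw [hPH, mem_cen] at hg'
      rw [pow_two]
      exact h.sq_of_cen_t hm hg'
    obtain ⟨e⟩ := Cfsg.Agent.S3277.aux_A5 P hP4 hP2 (by
      intro hc
      obtain ⟨g, hg⟩ := hc.exists_generator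
      have h1 : orderOf g = 4 := by
        rw [orderOf_eq_card_of_forall_mem_zpowers hg]
        exact hP4
      have h2 : g ^ 2 = 1 := Subtype.ext (hP2 g g.2)
      have h3 := orderOf_dvd_of_pow_eq_one h2
      rw [h1] at h3
      norm_num at h3) (by rw [hPH]; exact hE) (by
      intro b hb
      have hsq : ∀ g ∈ Subgroup.centralizer ({b} : Set G), g * g = 1 :=
        fun g hg => h.sq_of_cen hm hb (mem_cen.1 hg)
      refine ⟨⟨⟨fun x y => Subtype.ext (comm_of_sq hsq x x.2 y y.2)⟩⟩, ?_⟩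
      intro g hg
      rw [pow_two]
      exact hsq g hg)
    exact concl_A5 e

/-- The Brauer-Suzuki-Wall theorem. -/
theorem concl (h : BSW t s K) : Concl G := by
  have h1 := h.even_card
  have h2 := h.two_le_card
  by_cases hm : 4 ≤ Nat.card K
  · exact h.concl_of_four_le hm
  · apply h.concl_of_two
    omega

end BSW

end Cfsg.Agent.Lib.Helper75
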