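import Mathlib
import Cfsg.Agent.Lib.Helper75.BSW14

/-!
# The Brauer-Suzuki-Wall configuration: a sharper conclusion (helper75)
-/

set_option autoImplicit false

namespace Cfsg.Agent.Lib.Helper75

open Cfsg

namespace BSW

/-- The data produced by the Brauer-Suzuki-Wall theorem, with the trivial intersection property
of `D`. -/
structure ZD {G : Type*} [Group G] (Q D : Subgroup G) (u : G) : Prop where
  card : 2 * Nat.card G = Nat.card Q * (Nat.card Q + 1) * (Nat.card Q - 1)
  cen : ∀ x ∈ Q, x ≠ 1 → Subgroup.centralizer ({x} : Set G) = Q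
  cardD : 2 * Nat.card D + 1 = Nat.card Q
  inf : Q ⊓ D = ⊥
  nor : Subgroup.normalizer (Q : Set G) = Q ⊔ D
  ti : ∀ d ∈ D, d ≠ 1 → ∀ g, g * d * g⁻¹ ∈ D → g ∈ Subgroup.normalizer (D : Set G)
  ne : D ≠ ⊥
  ord_u : orderOf u = 2
  u_not : u ∉ D
  inv_u : ∀ d ∈ D, u * d * u⁻¹ = d⁻¹
  norD : Subgroup.normalizer (D : Set G) = D ⊔ Subgroup.zpowers u

variable {G : Type*} [Group G] [Fintype G] {t s : G} {K : Subgroup G} {X : G → ℂ}

theorem CD.zd_pos (h : BSW t s K) (c : CD t K X 1) : ∃ Q D u, ZD (G := G) Q D u := by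
  obtain ⟨Q, r, hq, hU⟩ := c.exists_Q h
  have hKN := c.K_le_normalizer h r hq hU
  have hQ : Q ≠ ⊥ := by
    intro e
    rw [e, Subgroup.card_bot] at hq
    have : 0 < Nat.card K := Nat.card_pos
    omega
  have hK : K ≠ ⊥ := by
    intro e
    have := h.htK
    rw [e, Subgroup.mem_bot] at this
    exact h.t_ne this
  refine ⟨Q, K, s, ?_, r.cen, by omega, ?_, ?_, ?_, hK, h.hs, h.hsK, h.hinv, ?_⟩
  · rw [hq, Nat.card_eq_fintype_card, h.card_G]
    have h7 : (Inv G).card = (2 * Nat.card K + 1) * (Nat.card K + 1) := by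
      have := c.inv
      zify
      rw [this]
    rw [h7, Nat.add_sub_cancel]
    ring
  · rw [Subgroup.eq_bot_iff_forall]
    intro x hx
    rw [Subgroup.mem_inf] at hx
    exact r.inf_K x hx.1 hx.2
  · conv_lhs => rw [r.normalizer_eq h hQ]
    rw [inf_eq_right.2 hKN]
  · intro d hd hd1 g hg
    rw [h.normalizer_sub_K le_rfl hK, mem_cen]
    exact h.hTI g d hd hg hd1
  · rw [h.normalizer_sub_K le_rfl hK, h.centralizer_t]

theorem CD.zd_neg (h : BSW t s K) (c : CD t K X (-1)) (hm4 : 4 ≤ Nat.card K) :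
    ∃ Q D u, ZD (G := G) Q D u := by
  have hm := h.two_le_card
  obtain ⟨Q, qd⟩ := c.exists_QD h
  obtain ⟨hcard, hinv, hbot, hN⟩ := qd.DD_spec h c
  have hD : DD t Q ≠ ⊥ := by
    intro e
    rw [e, Subgroup.card_bot] at hcard
    omega
  have r := qd.DD_real h c hD
  have hND := r.normalizer_eq_of_card h hD hcard
  refine ⟨Q, DD t Q, t, ?_, qd.cen h c, ?_, hbot, hN, ?_, hD, h.ht,
    fun e => r.no_invol h e h.ht, hinv, hND⟩
  · rw [Nat.card_eq_fintype_card, h.card_G, qd.card]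
    have h7 : (Inv G).card = (2 * Nat.card K - 1) * (Nat.card K - 1) := by
      zify
      rw [c.inv]
      push_cast [Nat.cast_sub (by omega : 1 ≤ 2 * Nat.card K),
        Nat.cast_sub (by omega : 1 ≤ Nat.card K)]
      ring
    rw [h7]
    obtain ⟨m', hm'⟩ : ∃ m', Nat.card K = m' + 1 := ⟨Nat.card K - 1, by omega⟩
    rw [hm']
    have e1 : 2 * (m' + 1) - 1 = 2 * m' + 1 := by omega
    have e2 : m' + 1 - 1 = m' := by omega
    have e3 : 2 * m' + 1 - 1 = 2 * m' := by omega
    rw [e1, e2, e3]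
    ring
  · rw [hcard, qd.card]
    omega
  · intro d hd hd1 g hg
    exact r.mem_normalizer hd hd1 hg

/-- the conclusion `Concl` for a group isomorphic to `A₅` has the sharper form. -/
theorem zd_of_concl_two {G : Type*} [Group G] [Finite G] {Q D : Subgroup G} (hD2 : Nat.card D = 2)
    (h1 : 2 * Nat.card G = Nat.card Q * (Nat.card Q + 1) * (Nat.card Q - 1))
    (h2 : ∀ x ∈ Q, x ≠ 1 → Subgroup.centralizer ({x} : Set G) = Q)
    (h3 : 2 * Nat.card D + 1 = Nat.card Q) (h4 : Q ⊓ D = ⊥)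
    (h5 : Subgroup.normalizer (Q : Set G) = Q ⊔ D)
    (h6 : ∀ X : Subgroup G, X ≤ D → X ≠ ⊥ →
        Subgroup.normalizer (X : Set G) = Subgroup.normalizer (D : Set G) ∧
        ∃ u : G, orderOf u = 2 ∧ u ∉ D ∧ (∀ d ∈ D, u * d * u⁻¹ = d⁻¹) ∧
          Subgroup.normalizer (D : Set G) = D ⊔ Subgroup.zpowers u) :
    ∃ u, ZD Q D u := by
  have hD : D ≠ ⊥ := by
    intro e
    rw [e, Subgroup.card_bot] at hD2
    omega
  obtain ⟨-, u, hu, huD, hinv, hN⟩ := h6 D le_rfl hD
  refine ⟨u, h1, h2, h3, h4, h5, ?_, hD, hu, huD, hinv, hN⟩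
  intro d hd hd1 g hg
  -- `D = {1, d}`
  have hdd : ∀ y ∈ D, y = 1 ∨ y = d := by
    intro y hy
    have hz : Subgroup.zpowers d = D := by
      apply Subgroup.eq_of_le_of_card_ge
      · rw [Subgroup.zpowers_le]; exact hd
      · rw [hD2, Nat.card_zpowers]
        have h7 : orderOf d ≠ 1 := fun e => hd1 (orderOf_eq_one_iff.1 e)
        have h8 := orderOf_pos d
        omega
    have ho : orderOf d = 2 := by rw [← Nat.card_zpowers, hz, hD2]
    rw [← hz] at hy
    exact (mem_zpowers_invol ho).1 hy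
  have hg1 : g * d * g⁻¹ = d := by
    rcases hdd _ hg with e | e
    · exfalso
      apply hd1
      have := congrArg (fun z => g⁻¹ * z * g) e
      simpa [mul_assoc] using this
    · exact e
  have hg2 : g⁻¹ * d * g = d := by
    nth_rewrite 1 [← hg1]
    group
  apply mem_normalizer_of
  · intro y hy
    rcases hdd y hy with rfl | rfl
    · simp [D.one_mem]
    · rw [hg1]; exact hd
  · intro y hy
    rcases hdd y hy with rfl | rfl
    · simp [D.one_mem]
    · rw [hg2]; exact hd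

theorem zd_of_two (h : BSW t s K) (hm : Nat.card K = 2)
    (hE : ¬ (Subgroup.centralizer ({t} : Set G)).Normal) : ∃ Q D u, ZD (G := G) Q D u := by
  classical
  have hH : Nat.card (Subgroup.centralizer ({t} : Set G)) = 4 := by rw [h.card_cen, hm]
  have hpg : IsPGroup 2 (Subgroup.centralizer ({t} : Set G)) :=
    IsPGroup.of_card (n := 2) (by rw [hH]; norm_num)
  obtain ⟨P, hP⟩ := hpg.exists_le_sylow
  have hPH : (P : Subgroup G) = Subgroup.centralizer ({t} : Set G) := by
    symm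
    apply Subgroup.eq_of_le_of_card_ge hP
    rw [hH]
    have := h.sylow_card_dvd P
    rw [hm] at this
    exact Nat.le_of_dvd (by norm_num) this
  have hP4 : Nat.card P = 4 := by
    have : Nat.card (P : Subgroup G) = 4 := by rw [hPH, hH]
    exact this
  have hP2 : ∀ g ∈ P, g ^ 2 = 1 := by
    intro g hg
    have hg' : g ∈ (P : Subgroup G) := hg
    rw [hPH, mem_cen] at hg'
    rw [pow_two]
    exact h.sq_of_cen_t hm hg'
  obtain ⟨e⟩ := Cfsg.Agent.S3277.aux_A5 P hP4 hP2 (by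
    intro hc
    obtain ⟨g, hg⟩ := hc.exists_generator
    have h1 : orderOf g = 4 := by
      rw [orderOf_eq_card_of_forall_mem_zpowers hg]
      exact hP4
    have h2 : g ^ 2 = 1 := Subtype.ext (hP2 g g.2)
    have h3 := orderOf_dvd_of_pow_eq_one h2
    rw [h1] at h3
    norm_num at h3) (by rw [hPH]; exact hE) (by
    intro b hb
    have hsq : ∀ g ∈ Subgroup.centralizer ({b} : Set G), g * g = 1 :=
      fun g hg => h.sq_of_cen hm hb (mem_cen.1 hg)
    refine ⟨⟨⟨fun x y => Subtype.ext (comm_of_sq hsq x x.2 y y.2)⟩⟩, ?_⟩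
    intro g hg
    rw [pow_two]
    exact hsq g hg)
  have hG : Nat.card G = 60 := by
    rw [Nat.card_congr e.toEquiv, Nat.card_eq_fintype_card, A5f6]
  obtain ⟨Q, D, h1, h2, -, h3, h4, h5, h6⟩ := concl_A5 e
  have hD2 : Nat.card D = 2 := by
    rw [hG, ← h3] at h1
    have e1 : 2 * Nat.card D + 1 - 1 = 2 * Nat.card D := by omega
    rw [e1] at h1
    -- 120 = (2d+1)(2d+2)(2d)
    have hle : Nat.card D ≤ 3 := by
      by_contra hcon
      push Not at hcon
      have : 9 * 10 * 8 ≤ (2 * Nat.card D + 1) * (2 * Nat.card D + 1 + 1) * (2 * Nat.card D) := by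
        apply Nat.mul_le_mul (Nat.mul_le_mul _ _) <;> omega
      omega
    interval_cases (Nat.card D) <;> omega
  obtain ⟨u, hu⟩ := zd_of_concl_two hD2 h1 h2 h3 h4 h5 h6
  exact ⟨Q, D, u, hu⟩

theorem exists_zd (h : BSW t s K) (hE : ¬ (Subgroup.centralizer ({t} : Set G)).Normal) :
    ∃ Q D u, ZD (G := G) Q D u := by
  have h1 := h.even_card
  have h2 := h.two_le_card
  by_cases hm : 4 ≤ Nat.card K
  · obtain ⟨X, δ, c⟩ := h.exists_CD hm
    rcases c.sgn with rfl | rfl
    · exact c.zd_pos h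
    · exact c.zd_neg h hm
  · apply h.zd_of_two _ hE
    omega

end BSW

end Cfsg.Agent.Lib.Helper75
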