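import Mathlib
import Cfsg.Agent.Lib.Helper75.BSW15

/-!
# From the Brauer-Suzuki-Wall data to a Zassenhaus group: group theory (helper75)
-/

set_option autoImplicit false

namespace Cfsg.Agent.Lib.Helper75

open Cfsg

namespace BSW

theorem exists_mul_of_mem_sup {G : Type*} [Group G] {N H : Subgroup G}
    (hH : H ≤ Subgroup.normalizer (N : Set G)) {x : G} (hx : x ∈ N ⊔ H) :
    ∃ a ∈ N, ∃ b ∈ H, x = a * b := by
  let L : Subgroup G :=
    { carrier := {g | ∃ a ∈ N, ∃ b ∈ H, g = a * b}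
      one_mem' := ⟨1, N.one_mem, 1, H.one_mem, by simp⟩
      mul_mem' := by
        rintro _ _ ⟨a, ha, b, hb, rfl⟩ ⟨a', ha', b', hb', rfl⟩
        exact ⟨a * (b * a' * b⁻¹),
          N.mul_mem ha ((Subgroup.mem_normalizer_iff.1 (hH hb) a').1 ha'), b * b',
          H.mul_mem hb hb', by group⟩
      inv_mem' := by
        rintro _ ⟨a, ha, b, hb, rfl⟩
        exact ⟨b⁻¹ * a⁻¹ * b⁻¹⁻¹,
          (Subgroup.mem_normalizer_iff.1 (hH (H.inv_mem hb)) a⁻¹).1 (N.inv_mem ha), b⁻¹,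
          H.inv_mem hb, by group⟩ }
  have hL : N ⊔ H ≤ L :=
    sup_le (fun a ha => ⟨a, ha, 1, H.one_mem, by simp⟩) (fun b hb => ⟨1, N.one_mem, b, hb, by simp⟩)
  exact hL hx

namespace ZD

variable {G : Type*} [Group G] [Finite G] {Q D : Subgroup G} {u : G}

omit [Finite G] in
theorem D_le (z : ZD Q D u) : D ≤ Subgroup.normalizer (Q : Set G) := by
  rw [z.nor]; exact le_sup_right

omit [Finite G] in
theorem card_B (z : ZD Q D u) :
    Nat.card (Subgroup.normalizer (Q : Set G)) = Nat.card Q * Nat.card D := by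
  conv_lhs => rw [z.nor, sup_comm]
  rw [Cfsg.Agent.Lib.Helper1.card_sup_of_disjoint z.D_le
    (disjoint_iff.2 (by rw [inf_comm]; exact z.inf)), mul_comm]

theorem index_B (z : ZD Q D u) : (Subgroup.normalizer (Q : Set G)).index = Nat.card Q + 1 := by
  have h1 := (Subgroup.normalizer (Q : Set G)).card_mul_index
  have h2 := z.card
  have h3 := z.cardD
  rw [← h1, z.card_B] at h2
  have e1 : Nat.card Q - 1 = 2 * Nat.card D := by omega
  rw [e1] at h2
  have hq : 0 < Nat.card Q := Nat.card_pos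
  have hd : 0 < Nat.card D := Nat.card_pos
  have e2 : 2 * (Nat.card Q * Nat.card D * (Subgroup.normalizer (Q : Set G)).index)
      = (2 * Nat.card Q * Nat.card D) * (Subgroup.normalizer (Q : Set G)).index := by ring
  have e3 : Nat.card Q * (Nat.card Q + 1) * (2 * Nat.card D)
      = (2 * Nat.card Q * Nat.card D) * (Nat.card Q + 1) := by ring
  rw [e2, e3] at h2
  exact Nat.eq_of_mul_eq_mul_left (by positivity) h2

theorem mem_Q_of_pow (z : ZD Q D u) {y : G} (hy : y ∈ Subgroup.normalizer (Q : Set G))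
    (hq : y ^ Nat.card Q = 1) : y ∈ Q := by
  have h1 := pow_mem_of_card z.card_B hy
  rw [← z.cardD, two_mul, pow_succ, pow_add] at hq
  have h4 : y = (y ^ Nat.card D * y ^ Nat.card D)⁻¹ := eq_inv_of_mul_eq_one_right hq
  rw [h4]
  exact Q.inv_mem (Q.mul_mem h1 h1)

theorem pow_card_Q {x : G} (hx : x ∈ Q) : x ^ Nat.card Q = 1 := by
  have := pow_card_eq_one' (x := (⟨x, hx⟩ : Q))
  exact congrArg Subtype.val this

theorem mem_B_of_conj (z : ZD Q D u) {x g : G} (hx : x ∈ Q) (hx1 : x ≠ 1)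
    (hg : g * x * g⁻¹ ∈ Subgroup.normalizer (Q : Set G)) :
    g ∈ Subgroup.normalizer (Q : Set G) := by
  have hy : g * x * g⁻¹ ∈ Q := by
    apply z.mem_Q_of_pow hg
    rw [conj_pow, pow_card_Q hx]
    group
  have hy1 : g * x * g⁻¹ ≠ 1 := by
    intro e2
    apply hx1
    have := congrArg (fun z => g⁻¹ * z * g) e2
    simpa [mul_assoc] using this
  rw [Subgroup.mem_normalizer_iff]
  intro w
  have q1 : w ∈ Q ↔ w * x = x * w := by rw [← z.cen x hx hx1, mem_cen]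
  have q2 : g * w * g⁻¹ ∈ Q ↔ g * w * g⁻¹ * (g * x * g⁻¹) = g * x * g⁻¹ * (g * w * g⁻¹) := by
    rw [← z.cen _ hy hy1, mem_cen]
  rw [q1, q2]
  constructor
  · intro hz
    calc g * w * g⁻¹ * (g * x * g⁻¹) = g * (w * x) * g⁻¹ := by group
      _ = g * (x * w) * g⁻¹ := by rw [hz]
      _ = _ := by group
  · intro hz
    have := congrArg (fun w => g⁻¹ * w * g) hz
    have e1 : g⁻¹ * (g * w * g⁻¹ * (g * x * g⁻¹)) * g = w * x := by group
    have e2 : g⁻¹ * (g * x * g⁻¹ * (g * w * g⁻¹)) * g = x * w := by group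
    rw [e1, e2] at this
    exact this

theorem exists_conj_D (z : ZD Q D u) {y : G} (hy : y ∈ Subgroup.normalizer (Q : Set G))
    (hyQ : y ∉ Q) : ∃ x ∈ Q, ∃ d ∈ D, d ≠ 1 ∧ y = x⁻¹ * d * x := by
  rw [z.nor] at hy
  obtain ⟨x₀, hx₀, d, hd, rfl⟩ := exists_mul_of_mem_sup z.D_le hy
  have hd1 : d ≠ 1 := by
    rintro rfl
    apply hyQ
    rw [mul_one]; exact hx₀
  have hdN := Subgroup.mem_normalizer_iff.1 (z.D_le hd)
  let φ : Q → Q := fun x => ⟨x.1⁻¹ * (d * x.1 * d⁻¹), Q.mul_mem (Q.inv_mem x.2) ((hdN x.1).1 x.2)⟩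
  have hinj : Function.Injective φ := by
    intro x x' e
    have e1 : x.1⁻¹ * (d * x.1 * d⁻¹) = x'.1⁻¹ * (d * x'.1 * d⁻¹) := congrArg Subtype.val e
    by_contra hne
    have hw1 : x'.1 * x.1⁻¹ ≠ 1 := by
      intro e2
      apply hne
      apply Subtype.ext
      exact (mul_inv_eq_one.1 e2).symm
    have hwQ : x'.1 * x.1⁻¹ ∈ Q := Q.mul_mem x'.2 (Q.inv_mem x.2)
    have hcomm : d * (x'.1 * x.1⁻¹) = (x'.1 * x.1⁻¹) * d := by
      have e3 := congrArg (fun w => x'.1 * w * d * x.1⁻¹) e1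
      have l1 : x'.1 * (x.1⁻¹ * (d * x.1 * d⁻¹)) * d * x.1⁻¹ = (x'.1 * x.1⁻¹) * d := by group
      have l2 : x'.1 * (x'.1⁻¹ * (d * x'.1 * d⁻¹)) * d * x.1⁻¹ = d * (x'.1 * x.1⁻¹) := by group
      rw [l1, l2] at e3
      exact e3.symm
    have hdQ : d ∈ Q := by
      rw [← z.cen _ hwQ hw1, mem_cen]
      exact hcomm
    apply hd1
    have : d ∈ Q ⊓ D := Subgroup.mem_inf.2 ⟨hdQ, hd⟩
    rw [z.inf, Subgroup.mem_bot] at this
    exact this
  obtain ⟨x, hx⟩ := (Finite.injective_iff_surjective.1 hinj) ⟨x₀, hx₀⟩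
  have hx' : x.1⁻¹ * (d * x.1 * d⁻¹) = x₀ := congrArg Subtype.val hx
  refine ⟨x.1, x.2, d, hd, hd1, ?_⟩
  rw [← hx']
  group

theorem pow_card_D {d : G} (hd : d ∈ D) : d ^ Nat.card D = 1 := by
  have := pow_card_eq_one' (x := (⟨d, hd⟩ : D))
  exact congrArg Subtype.val this

theorem fixed_of_D (z : ZD Q D u) {d g : G} (hd : d ∈ D) (hd1 : d ≠ 1)
    (hg : g⁻¹ * d * g ∈ Subgroup.normalizer (Q : Set G)) :
    g ∈ Subgroup.normalizer (Q : Set G) ∨ u⁻¹ * g ∈ Subgroup.normalizer (Q : Set G) := by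
  have hu' : u⁻¹ = u := inv_of_orderOf_two z.ord_u
  have hyQ : g⁻¹ * d * g ∉ Q := by
    intro hy
    apply hd1
    have h1 := pow_card_Q hy
    have e : g⁻¹ * d * g = g⁻¹ * d * g⁻¹⁻¹ := by group
    rw [e, conj_pow] at h1
    have h2 : d ^ Nat.card Q = 1 := by
      have := congrArg (fun w => g * w * g⁻¹) h1
      simpa [mul_assoc] using this
    rw [← z.cardD, two_mul, pow_succ, pow_add, pow_card_D hd, one_mul, one_mul] at h2
    exact h2
  obtain ⟨x, hx, d', hd', hd'1, e⟩ := z.exists_conj_D hg hyQ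
  have h1 : (g * x⁻¹)⁻¹ * d * (g * x⁻¹)⁻¹⁻¹ ∈ D := by
    have : (g * x⁻¹)⁻¹ * d * (g * x⁻¹)⁻¹⁻¹ = x * (g⁻¹ * d * g) * x⁻¹ := by group
    rw [this, e]
    have : x * (x⁻¹ * d' * x) * x⁻¹ = d' := by group
    rw [this]; exact hd'
  have h2 := z.ti d hd hd1 _ h1
  have h3 : g * x⁻¹ ∈ Subgroup.normalizer (D : Set G) := by
    have := Subgroup.inv_mem _ h2
    rwa [inv_inv] at this
  have hzu : Subgroup.zpowers u ≤ Subgroup.normalizer (D : Set G) := by
    rw [z.norD]; exact le_sup_right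
  rw [z.norD] at h3
  obtain ⟨d₀, hd₀, w, hw, e2⟩ := exists_mul_of_mem_sup hzu h3
  have hg' : g = d₀ * w * x := by rw [← e2]; group
  have hxB : x ∈ Subgroup.normalizer (Q : Set G) := Subgroup.le_normalizer hx
  rcases (mem_zpowers_invol z.ord_u).1 hw with rfl | rfl
  · left
    rw [hg', mul_one]
    exact Subgroup.mul_mem _ (z.D_le hd₀) hxB
  · right
    have e3 : w⁻¹ * g = (w * d₀ * w⁻¹) * x := by
      rw [hg', hu']
      calc w * (d₀ * w * x) = w * d₀ * w * x := by group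
        _ = _ := rfl
    rw [e3, z.inv_u d₀ hd₀]
    exact Subgroup.mul_mem _ (z.D_le (D.inv_mem hd₀)) hxB

theorem u_not_mem (z : ZD Q D u) : u ∉ Subgroup.normalizer (Q : Set G) := by
  intro hu
  have hzu : Subgroup.zpowers u ≤ Subgroup.normalizer (D : Set G) := by
    rw [z.norD]; exact le_sup_right
  have hdis : Disjoint (Subgroup.zpowers u) D := by
    rw [Subgroup.disjoint_def]
    intro x hx hxD
    rcases (mem_zpowers_invol z.ord_u).1 hx with e | e
    · exact e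
    · rw [e] at hxD
      exact absurd hxD z.u_not
  have h1 := Cfsg.Agent.Lib.Helper1.card_sup_of_disjoint hzu hdis
  rw [Nat.card_zpowers, z.ord_u] at h1
  have h2 : Subgroup.zpowers u ⊔ D ≤ Subgroup.normalizer (Q : Set G) :=
    sup_le (by rw [Subgroup.zpowers_le]; exact hu) z.D_le
  have h3 := Subgroup.card_dvd_of_le h2
  rw [h1, z.card_B] at h3
  have hd : 0 < Nat.card D := Nat.card_pos
  have h4 : 2 ∣ Nat.card Q := Nat.dvd_of_mul_dvd_mul_right hd h3
  have := z.cardD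
  omega

theorem comm_Q (z : ZD Q D u) : ∀ x ∈ Q, ∀ y ∈ Q, x * y = y * x := by
  intro x hx y hy
  by_cases hy1 : y = 1
  · rw [hy1]; simp
  · have := z.cen y hy hy1
    rw [← this, mem_cen] at hx
    exact hx

end ZD

end BSW

end Cfsg.Agent.Lib.Helper75
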