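import Mathlib
import Cfsg.Agent.Lib.Helper75.BSW16

/-!
# TI-subgroups inverted by an involution (Bender's counting lemma), part 1: basic facts
-/

set_option autoImplicit false
set_option linter.unusedSectionVars false
set_option linter.unusedVariables false

namespace Cfsg.Agent.Lib.Helper75.Bend

open Cfsg.Agent.Lib.Helper75 Cfsg.Agent.Lib.Helper75.BSW

/-- elementwise form of the hypotheses: `M ≠ 1` is a TI-subgroup, `z` an involution of `N(M)`,
`N(M) = M C_{N(M)}(z)`, and `C(x)` has odd order for `x ∈ M#`. -/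
structure TIC {G : Type*} [Group G] (M : Subgroup G) (z : G) : Prop where
  ne : M ≠ ⊥
  ti : ∀ g x, x ∈ M → x ≠ 1 → g * x * g⁻¹ ∈ M → g ∈ Subgroup.normalizer (M : Set G)
  hz : orderOf z = 2
  zN : z ∈ Subgroup.normalizer (M : Set G)
  fac : ∀ n ∈ Subgroup.normalizer (M : Set G), ∃ m ∈ M, ∃ c ∈ Subgroup.normalizer (M : Set G),
    c * z = z * c ∧ n = m * c
  odd : ∀ x ∈ M, x ≠ 1 → Odd (Nat.card (Subgroup.centralizer ({x} : Set G)))

variable {G : Type*} [Group G] {M : Subgroup G} {z : G}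

theorem conj_mem {n x : G} (hn : n ∈ Subgroup.normalizer (M : Set G)) (hx : x ∈ M) :
    n * x * n⁻¹ ∈ M := (Subgroup.mem_normalizer_iff.1 hn x).1 hx

theorem conj_mem' {n x : G} (hn : n ∈ Subgroup.normalizer (M : Set G)) (hx : x ∈ M) :
    n⁻¹ * x * n ∈ M := by
  have := conj_mem (Subgroup.inv_mem _ hn) hx
  rwa [inv_inv] at this

theorem le_N : M ≤ Subgroup.normalizer (M : Set G) := Subgroup.le_normalizer

namespace TIC

variable [Finite G]

theorem exists_ne (h : TIC M z) : ∃ x ∈ M, x ≠ 1 := by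
  by_contra hcon
  push Not at hcon
  exact h.ne ((Subgroup.eq_bot_iff_forall _).2 hcon)

theorem odd_order (h : TIC M z) {x c : G} (hx : x ∈ M) (hx1 : x ≠ 1) (hc : c * x = x * c) :
    Odd (orderOf c) := by
  have hmem : c ∈ Subgroup.centralizer ({x} : Set G) := by
    rw [Subgroup.mem_centralizer_singleton_iff]
    exact hc
  have h1 : orderOf (⟨c, hmem⟩ : Subgroup.centralizer ({x} : Set G)) ∣ _ := orderOf_dvd_natCard _
  rw [Subgroup.orderOf_mk] at h1
  exact Odd.of_dvd_nat (h.odd x hx hx1) h1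

theorem not_comm (h : TIC M z) {x y : G} (hx : x ∈ M) (hx1 : x ≠ 1) (hy : orderOf y = 2) :
    y * x ≠ x * y := by
  intro hc
  have := h.odd_order hx hx1 hc
  rw [hy] at this
  exact absurd this (by decide)

theorem odd_card (h : TIC M z) : Odd (Nat.card M) := by
  by_contra hcon
  rw [Nat.not_odd_iff_even] at hcon
  obtain ⟨x, hx⟩ := exists_prime_orderOf_dvd_card' 2 hcon.two_dvd
  have hx2 : orderOf (x : G) = 2 := by rw [Subgroup.orderOf_coe]; exact hx
  exact h.not_comm x.2 (ne_one_of_orderOf_two hx2) hx2 rfl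

theorem odd_orderOf (h : TIC M z) {x : G} (hx : x ∈ M) : Odd (orderOf x) := by
  have h1 : orderOf (⟨x, hx⟩ : M) ∣ _ := orderOf_dvd_natCard _
  rw [Subgroup.orderOf_mk] at h1
  exact Odd.of_dvd_nat h.odd_card h1

theorem eq_one_of_odd {c : G} (ho : Odd (orderOf c)) (h2 : c * c = 1) : c = 1 := by
  have h1 : orderOf c ∣ 2 := orderOf_dvd_of_pow_eq_one (by rw [sq]; exact h2)
  have h3 : orderOf c = 1 := by
    rcases (Nat.dvd_prime Nat.prime_two).1 h1 with e | e
    · exact e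
    · rw [e] at ho
      exact absurd ho (by decide)
  exact orderOf_eq_one_iff.1 h3

theorem sq_eq_one (h : TIC M z) {x : G} (hx : x ∈ M) (h2 : x * x = 1) : x = 1 :=
  eq_one_of_odd (h.odd_orderOf hx) h2

theorem exists_sqrt (h : TIC M z) {x : G} (hx : x ∈ M) : ∃ m ∈ M, m * m = x := by
  obtain ⟨k, hk⟩ := h.odd_orderOf hx
  refine ⟨x ^ (k + 1), M.pow_mem hx _, ?_⟩
  rw [← pow_add]
  have : k + 1 + (k + 1) = orderOf x + 1 := by omega
  rw [this, pow_add, pow_orderOf_eq_one, one_mul, pow_one]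

theorem inv_of_invol (h : TIC M z) {y : G} (hyN : y ∈ Subgroup.normalizer (M : Set G))
    (hy : orderOf y = 2) : ∀ x ∈ M, y * x * y⁻¹ = x⁻¹ := by
  have hyy : y * y = 1 := mul_self_of_orderOf_two hy
  have hyi : y⁻¹ = y := inv_of_orderOf_two hy
  let f : M → M := fun m => ⟨m.1⁻¹ * (y * m.1 * y⁻¹), M.mul_mem (M.inv_mem m.2) (conj_mem hyN m.2)⟩
  have hinj : Function.Injective f := by
    intro m m' hmm
    have h1 : m.1⁻¹ * (y * m.1 * y⁻¹) = m'.1⁻¹ * (y * m'.1 * y⁻¹) := congrArg Subtype.val hmm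
    have h2 : y * (m'.1 * m.1⁻¹) = (m'.1 * m.1⁻¹) * y := by
      have e1 : y * m'.1 * y⁻¹ = m'.1 * (m.1⁻¹ * (y * m.1 * y⁻¹)) := by rw [h1]; group
      calc y * (m'.1 * m.1⁻¹) = (y * m'.1 * y⁻¹) * (y * m.1 * y⁻¹)⁻¹ * y := by group
        _ = (m'.1 * m.1⁻¹) * y := by rw [e1]; group
    by_contra hne
    have h3 : m'.1 * m.1⁻¹ ≠ 1 := by
      intro e
      apply hne
      apply Subtype.ext
      exact (mul_inv_eq_one.1 e).symm
    exact h.not_comm (M.mul_mem m'.2 (M.inv_mem m.2)) h3 hy h2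
  have hsurj : Function.Surjective f := Finite.surjective_of_injective hinj
  intro x hx
  obtain ⟨m, hm⟩ := hsurj ⟨x, hx⟩
  have hm' : m.1⁻¹ * (y * m.1 * y⁻¹) = x := congrArg Subtype.val hm
  rw [← hm', hyi]
  have e1 : y * (m.1⁻¹ * (y * m.1 * y)) * y = y * m.1⁻¹ * y * m.1 * (y * y) := by group
  have e2 : (m.1⁻¹ * (y * m.1 * y))⁻¹ = y⁻¹ * m.1⁻¹ * y⁻¹ * m.1 := by group
  rw [e1, e2, hyy, hyi, mul_one]

theorem inv_z (h : TIC M z) : ∀ x ∈ M, z * x * z⁻¹ = x⁻¹ := h.inv_of_invol h.zN h.hz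

theorem comm (h : TIC M z) : ∀ x ∈ M, ∀ y ∈ M, x * y = y * x := comm_of_inverts h.inv_z

theorem z_inv (h : TIC M z) : z⁻¹ = z := inv_of_orderOf_two h.hz

theorem z_mul (h : TIC M z) : z * z = 1 := mul_self_of_orderOf_two h.hz

theorem z_not_mem (h : TIC M z) : z ∉ M := by
  intro hz
  have := h.odd_orderOf hz
  rw [h.hz] at this
  exact absurd this (by decide)

theorem z_mul_eq (h : TIC M z) {x : G} (hx : x ∈ M) : z * x = x⁻¹ * z := by
  have := h.inv_z x hx
  calc z * x = (z * x * z⁻¹) * z := by group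
    _ = x⁻¹ * z := by rw [this]

theorem orderOf_mul_z (h : TIC M z) {m : G} (hm : m ∈ M) : orderOf (m * z) = 2 := by
  apply orderOf_two_of
  · calc m * z * (m * z) = m * (z * m) * z := by group
      _ = m * (m⁻¹ * z) * z := by rw [h.z_mul_eq hm]
      _ = z * z := by group
      _ = 1 := h.z_mul
  · intro e
    apply h.z_not_mem
    have : z = m⁻¹ := by
      rw [eq_inv_iff_mul_eq_one]
      have e2 : z * m = m⁻¹ * (m * z) * m := by group
      rw [e2, e]
      group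
    rw [this]
    exact M.inv_mem hm

theorem invol_eq (h : TIC M z) {y : G} (hyN : y ∈ Subgroup.normalizer (M : Set G))
    (hy : orderOf y = 2) : ∃ m ∈ M, y = m * z := by
  have hyi : y⁻¹ = y := inv_of_orderOf_two hy
  obtain ⟨m, hm, c, hcN, hcz, hw⟩ := h.fac (y * z) (Subgroup.mul_mem _ hyN h.zN)
  -- `y z` centralizes `M`
  have hcen : ∀ x ∈ M, (y * z) * x = x * (y * z) := by
    intro x hx
    have h1 := h.inv_z x hx
    have h2 := h.inv_of_invol hyN hy x⁻¹ (M.inv_mem hx)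
    rw [inv_inv] at h2
    calc y * z * x = y * (z * x * z⁻¹) * y⁻¹ * (y * z) := by group
      _ = x * (y * z) := by rw [h1, h2]
  have hc_eq : c = m⁻¹ * (y * z) := by rw [hw]; group
  have hccen : ∀ x ∈ M, c * x = x * c := by
    intro x hx
    rw [hc_eq, mul_assoc, hcen x hx, ← mul_assoc, h.comm _ (M.inv_mem hm) x hx, mul_assoc]
  have hzw : z * (y * z) * z⁻¹ = (y * z)⁻¹ := by
    rw [mul_inv_rev, hyi, h.z_inv]
    have := h.z_mul
    calc z * (y * z) * z = z * y * (z * z) := by group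
      _ = z * y := by rw [this, mul_one]
  have hcc : c * c = 1 := by
    rw [hw] at hzw
    have e1 : z * (m * c) * z⁻¹ = (z * m * z⁻¹) * (z * c * z⁻¹) := by group
    have e2 : z * c * z⁻¹ = c := by rw [← hcz]; group
    rw [e1, e2, h.inv_z m hm, mul_inv_rev] at hzw
    have e3 : c⁻¹ * m⁻¹ = m⁻¹ * c⁻¹ := by
      have := hccen m hm
      have e4 : c⁻¹ * m⁻¹ = (m * c)⁻¹ := by group
      rw [e4, ← this]
      group
    rw [e3] at hzw
    have e5 : c = c⁻¹ := mul_left_cancel hzw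
    calc c * c = c * c⁻¹ := by rw [← e5]
      _ = 1 := mul_inv_cancel c
  obtain ⟨x, hx, hx1⟩ := h.exists_ne
  have hc1 : c = 1 := eq_one_of_odd (h.odd_order hx hx1 (hccen x hx)) hcc
  refine ⟨m, hm, ?_⟩
  rw [hc1, mul_one] at hw
  calc y = (y * z) * z⁻¹ := by group
    _ = m * z := by rw [hw, h.z_inv]

theorem conj_z (h : TIC M z) {m : G} (hm : m ∈ M) : m * z * m⁻¹ = (m * m) * z := by
  have := h.z_mul_eq (M.inv_mem hm)
  rw [inv_inv] at this
  rw [mul_assoc m z, this]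
  group

theorem invol_conj (h : TIC M z) {y : G} (hyN : y ∈ Subgroup.normalizer (M : Set G))
    (hy : orderOf y = 2) : ∃ m ∈ M, y = m * z * m⁻¹ := by
  obtain ⟨m, hm, rfl⟩ := h.invol_eq hyN hy
  obtain ⟨k, hk, rfl⟩ := h.exists_sqrt hm
  exact ⟨k, hk, (h.conj_z hk).symm⟩

theorem comm_mod_z (h : TIC M z) {n : G} (hn : n ∈ Subgroup.normalizer (M : Set G)) :
    z * n * z⁻¹ * n⁻¹ ∈ M := by
  obtain ⟨m, hm, c, hcN, hcz, rfl⟩ := h.fac n hn
  have e2 : z * c * z⁻¹ = c := by rw [← hcz]; group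
  have e1 : z * (m * c) * z⁻¹ * (m * c)⁻¹ = (z * m * z⁻¹) * (z * c * z⁻¹) * c⁻¹ * m⁻¹ := by group
  rw [e1, e2, h.inv_z m hm]
  have : m⁻¹ * c * c⁻¹ * m⁻¹ = m⁻¹ * m⁻¹ := by group
  rw [this]
  exact M.mul_mem (M.inv_mem hm) (M.inv_mem hm)

/-- any involution of `N(M)` can play the role of `z` -/
theorem of_invol (h : TIC M z) {y : G} (hyN : y ∈ Subgroup.normalizer (M : Set G))
    (hy : orderOf y = 2) : TIC M y := by
  obtain ⟨k, hk, rfl⟩ := h.invol_conj hyN hy
  refine ⟨h.ne, h.ti, hy, hyN, ?_, h.odd⟩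
  intro n hn
  have hkN := le_N hk
  obtain ⟨m, hm, c, hcN, hcz, hmc⟩ := h.fac (k⁻¹ * n * k)
    (Subgroup.mul_mem _ (Subgroup.mul_mem _ (Subgroup.inv_mem _ hkN) hn) hkN)
  refine ⟨k * m * k⁻¹, conj_mem hkN hm, k * c * k⁻¹,
    Subgroup.mul_mem _ (Subgroup.mul_mem _ hkN hcN) (Subgroup.inv_mem _ hkN), ?_, ?_⟩
  · calc k * c * k⁻¹ * (k * z * k⁻¹) = k * (c * z) * k⁻¹ := by group
      _ = k * (z * c) * k⁻¹ := by rw [hcz]
      _ = k * z * k⁻¹ * (k * c * k⁻¹) := by group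
  · calc n = k * (k⁻¹ * n * k) * k⁻¹ := by group
      _ = k * (m * c) * k⁻¹ := by rw [hmc]
      _ = k * m * k⁻¹ * (k * c * k⁻¹) := by group

theorem comm_mod (h : TIC M z) {y n : G} (hyN : y ∈ Subgroup.normalizer (M : Set G))
    (hy : orderOf y = 2) (hn : n ∈ Subgroup.normalizer (M : Set G)) :
    y * n * y⁻¹ * n⁻¹ ∈ M := (h.of_invol hyN hy).comm_mod_z hn

/-- two involutions in the same coset `M g` outside `N(M)` are equal -/
theorem invol_unique (h : TIC M z) {u v : G} (hu : orderOf u = 2) (hv : orderOf v = 2)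
    (huN : u ∉ Subgroup.normalizer (M : Set G)) (huv : u * v⁻¹ ∈ M) : u = v := by
  by_contra hne
  apply huN
  have h1 : u * v⁻¹ ≠ 1 := fun e => hne (mul_inv_eq_one.1 e)
  apply h.ti u (u * v⁻¹) huv h1
  have hui : u⁻¹ = u := inv_of_orderOf_two hu
  have hvi : v⁻¹ = v := inv_of_orderOf_two hv
  have huu := mul_self_of_orderOf_two hu
  have : u * (u * v⁻¹) * u⁻¹ = (u * v⁻¹)⁻¹ := by
    rw [mul_inv_rev, inv_inv, hui, hvi, ← mul_assoc, huu, one_mul]
  rw [this]
  exact M.inv_mem huv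

/-- an element of `M` commuting with an involution of `N(M)` is trivial -/
theorem eq_one_of_comm (h : TIC M z) {x y : G} (hx : x ∈ M) (hy : orderOf y = 2)
    (hc : y * x = x * y) : x = 1 := by
  by_contra hx1
  exact h.not_comm hx hx1 hy hc

end TIC

end Cfsg.Agent.Lib.Helper75.Bend
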