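import Mathlib
import Cfsg.Agent.Lib.Helper75.TIC1

/-!
# TI-subgroups inverted by an involution (Bender's counting lemma), part 2:
consequences of "every coset of `M` outside `N(M)` contains an involution"
-/

set_option autoImplicit false
set_option linter.unusedSectionVars false
set_option linter.unusedVariables false

namespace Cfsg.Agent.Lib.Helper75.Bend

open Cfsg.Agent.Lib.Helper75 Cfsg.Agent.Lib.Helper75.BSW

/-- `TIC` together with: every coset `M g`, `g ∉ N(M)`, contains an involution. -/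
structure TIS {G : Type*} [Group G] (M : Subgroup G) (z : G) : Prop where
  tic : TIC M z
  star : ∀ g, g ∉ Subgroup.normalizer (M : Set G) → ∃ m ∈ M, orderOf (m * g) = 2

variable {G : Type*} [Group G] [Finite G] {M : Subgroup G} {z : G}

namespace TIS

theorem of_invol (h : TIS M z) {y : G} (hyN : y ∈ Subgroup.normalizer (M : Set G))
    (hy : orderOf y = 2) : TIS M y := ⟨h.tic.of_invol hyN hy, h.star⟩

theorem exists_inverted (h : TIS M z) {u c : G} (hu : orderOf u = 2)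
    (huN : u ∉ Subgroup.normalizer (M : Set G)) (hc : c ∈ Subgroup.normalizer (M : Set G)) :
    ∃ m ∈ M, u * (m * c) * u⁻¹ = (m * c)⁻¹ := by
  have hcu : c * u ∉ Subgroup.normalizer (M : Set G) := by
    intro hcon
    apply huN
    have : u = c⁻¹ * (c * u) := by group
    rw [this]
    exact Subgroup.mul_mem _ (Subgroup.inv_mem _ hc) hcon
  obtain ⟨m, hm, hv⟩ := h.star _ hcu
  refine ⟨m, hm, ?_⟩
  have hui : u⁻¹ = u := inv_of_orderOf_two hu
  have huu := mul_self_of_orderOf_two hu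
  have hvv := mul_self_of_orderOf_two hv
  -- `v = m c u`, `v v = 1`
  have e1 : (m * c) * (u * (m * c) * u) = 1 := by
    calc (m * c) * (u * (m * c) * u) = (m * (c * u)) * (m * (c * u)) := by group
      _ = 1 := hvv
  rw [hui]
  exact eq_inv_of_mul_eq_one_right e1

theorem eq_one_of_conj_mem (h : TIS M z) {u x : G} (hu : orderOf u = 2)
    (huN : u ∉ Subgroup.normalizer (M : Set G)) (hx : x ∈ M)
    (hxu : u * x * u⁻¹ ∈ Subgroup.normalizer (M : Set G)) : x = 1 := by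
  obtain ⟨m, hm, hz1⟩ := h.exists_inverted hu huN h.tic.zN
  have ho : orderOf (m * z) = 2 := h.tic.orderOf_mul_z hm
  have hN1 : m * z ∈ Subgroup.normalizer (M : Set G) := Subgroup.mul_mem _ (le_N hm) h.tic.zN
  rw [inv_of_orderOf_two ho] at hz1
  set z₁ := m * z with hz₁
  have hinv := h.tic.inv_of_invol hN1 ho x hx
  have h1 : z₁ * (u * x * u⁻¹) * z₁⁻¹ = (u * x * u⁻¹)⁻¹ := by
    calc z₁ * (u * x * u⁻¹) * z₁⁻¹ = (u * z₁ * u⁻¹) * (u * x * u⁻¹) * (u * z₁ * u⁻¹)⁻¹ := by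
          rw [hz1]
      _ = u * (z₁ * x * z₁⁻¹) * u⁻¹ := by group
      _ = (u * x * u⁻¹)⁻¹ := by rw [hinv]; group
  have h2 := h.tic.comm_mod hN1 ho hxu
  rw [h1] at h2
  have h3 : u * (x * x) * u⁻¹ ∈ M := by
    have := M.inv_mem h2
    have e : ((u * x * u⁻¹)⁻¹ * (u * x * u⁻¹)⁻¹)⁻¹ = u * (x * x) * u⁻¹ := by
      simp only [mul_inv_rev, inv_inv, mul_assoc, inv_mul_cancel_left]
    rwa [e] at this
  by_contra hx1
  have hxx : x * x ≠ 1 := fun e => hx1 (h.tic.sq_eq_one hx e)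
  exact huN (h.tic.ti u (x * x) (M.mul_mem hx hx) hxx h3)

theorem inverts (h : TIS M z) {u d : G} (hu : orderOf u = 2)
    (huN : u ∉ Subgroup.normalizer (M : Set G)) (hd : d ∈ Subgroup.normalizer (M : Set G))
    (hdu : u * d * u⁻¹ ∈ Subgroup.normalizer (M : Set G)) : u * d * u⁻¹ = d⁻¹ := by
  obtain ⟨m, hm, hmd⟩ := h.exists_inverted hu huN hd
  have h1 : u * m * u⁻¹ ∈ Subgroup.normalizer (M : Set G) := by
    have e : u * m * u⁻¹ = (u * (m * d) * u⁻¹) * (u * d * u⁻¹)⁻¹ := by group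
    rw [e, hmd]
    exact Subgroup.mul_mem _ (Subgroup.inv_mem _ (Subgroup.mul_mem _ (le_N hm) hd))
      (Subgroup.inv_mem _ hdu)
  have hm1 := h.eq_one_of_conj_mem hu huN hm h1
  rw [hm1, one_mul] at hmd
  exact hmd

/-- `M` acts semiregularly on the cosets of `N(M)` other than `N(M)` -/
theorem eq_one_of_conj_mem' (h : TIS M z) {g x : G}
    (hg : g ∉ Subgroup.normalizer (M : Set G)) (hx : x ∈ M)
    (hxg : g⁻¹ * x * g ∈ Subgroup.normalizer (M : Set G)) : x = 1 := by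
  have hg' : g⁻¹ ∉ Subgroup.normalizer (M : Set G) := fun hc => hg (by
    have := Subgroup.inv_mem _ hc
    rwa [inv_inv] at this)
  obtain ⟨m, hm, hu⟩ := h.star _ hg'
  have huN : m * g⁻¹ ∉ Subgroup.normalizer (M : Set G) := by
    intro hc
    apply hg'
    have : g⁻¹ = m⁻¹ * (m * g⁻¹) := by group
    rw [this]
    exact Subgroup.mul_mem _ (Subgroup.inv_mem _ (le_N hm)) hc
  apply h.eq_one_of_conj_mem hu huN hx
  have e : m * g⁻¹ * x * (m * g⁻¹)⁻¹ = m * (g⁻¹ * x * g) * m⁻¹ := by group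
  rw [e]
  exact Subgroup.mul_mem _ (Subgroup.mul_mem _ (le_N hm) hxg) (Subgroup.inv_mem _ (le_N hm))

/-- the two point stabiliser acts freely on `M#` -/
theorem free (h : TIS M z) {u d x : G} (hu : orderOf u = 2)
    (huN : u ∉ Subgroup.normalizer (M : Set G)) (hd : d ∈ Subgroup.normalizer (M : Set G))
    (hdu : u * d * u⁻¹ ∈ Subgroup.normalizer (M : Set G)) (hx : x ∈ M) (hx1 : x ≠ 1)
    (hc : d * x = x * d) : d = 1 := by
  have hdi := h.inverts hu huN hd hdu
  have hgN : u * x * u⁻¹ ∉ Subgroup.normalizer (M : Set G) :=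
    fun hcon => hx1 (h.eq_one_of_conj_mem hu huN hx hcon)
  -- `g = u x u⁻¹` commutes with `d`
  have hgd : d * (u * x * u⁻¹) * d⁻¹ = u * x * u⁻¹ := by
    have e0 : d = u * d⁻¹ * u⁻¹ := by
      have : u * d⁻¹ * u⁻¹ = (u * d * u⁻¹)⁻¹ := by group
      rw [this, hdi, inv_inv]
    have e1 : d⁻¹ * x * d = x := by
      calc d⁻¹ * x * d = d⁻¹ * (x * d) := by group
        _ = d⁻¹ * (d * x) := by rw [hc]
        _ = x := by group
    calc d * (u * x * u⁻¹) * d⁻¹ = (u * d⁻¹ * u⁻¹) * (u * x * u⁻¹) * (u * d⁻¹ * u⁻¹)⁻¹ := by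
          rw [← e0]
      _ = u * (d⁻¹ * x * d) * u⁻¹ := by group
      _ = u * x * u⁻¹ := by rw [e1]
  obtain ⟨m, hm, hv⟩ := h.star _ hgN
  set g := u * x * u⁻¹ with hg
  have hvN : m * g ∉ Subgroup.normalizer (M : Set G) := by
    intro hcon
    apply hgN
    have : g = m⁻¹ * (m * g) := by group
    rw [this]
    exact Subgroup.mul_mem _ (Subgroup.inv_mem _ (le_N hm)) hcon
  have hv' : orderOf (d * (m * g) * d⁻¹) = 2 := by
    have := orderOf_injective (MulAut.conj d).toMonoidHom (MulAut.conj d).injective (m * g)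
    simpa [MulAut.conj_apply, hv] using this
  have hmem : (m * g) * (d * (m * g) * d⁻¹)⁻¹ ∈ M := by
    have e : (m * g) * (d * (m * g) * d⁻¹)⁻¹ = m * (g * (d * g * d⁻¹)⁻¹) * (d * m * d⁻¹)⁻¹ := by
      group
    rw [e, hgd, mul_inv_cancel, mul_one]
    exact M.mul_mem hm (M.inv_mem (conj_mem hd hm))
  have heq := h.tic.invol_unique hv hv' hvN hmem
  -- so `v` commutes with `d`
  have hvd : (m * g) * d * (m * g)⁻¹ = d := by
    calc (m * g) * d * (m * g)⁻¹ = (d * (m * g) * d⁻¹) * d * (m * g)⁻¹ := by rw [← heq]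
      _ = d := by group
  have h2 := h.inverts hv hvN hd (by rw [hvd]; exact hd)
  rw [hvd] at h2
  have hdd : d * d = 1 := by
    calc d * d = d * d⁻¹ := by rw [← h2]
      _ = 1 := mul_inv_cancel d
  exact TIC.eq_one_of_odd (h.tic.odd_order hx hx1 hc) hdd

theorem invol_of_comm (h : TIS M z) {g : G} (hgz : g * z = z * g)
    (hgN : g ∉ Subgroup.normalizer (M : Set G)) : orderOf g = 2 := by
  obtain ⟨m, hm, hv⟩ := h.star _ hgN
  have hvN : m * g ∉ Subgroup.normalizer (M : Set G) := by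
    intro hcon
    apply hgN
    have : g = m⁻¹ * (m * g) := by group
    rw [this]
    exact Subgroup.mul_mem _ (Subgroup.inv_mem _ (le_N hm)) hcon
  have hv' : orderOf (z * (m * g) * z⁻¹) = 2 := by
    have := orderOf_injective (MulAut.conj z).toMonoidHom (MulAut.conj z).injective (m * g)
    simpa [MulAut.conj_apply, hv] using this
  have e0 : z * g * z⁻¹ = g := by rw [← hgz]; group
  have e1 : z * (m * g) * z⁻¹ = m⁻¹ * g := by
    calc z * (m * g) * z⁻¹ = (z * m * z⁻¹) * (z * g * z⁻¹) := by group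
      _ = m⁻¹ * g := by rw [h.tic.inv_z m hm, e0]
  have hmem : (m * g) * (z * (m * g) * z⁻¹)⁻¹ ∈ M := by
    rw [e1]
    have : m * g * (m⁻¹ * g)⁻¹ = m * m := by group
    rw [this]
    exact M.mul_mem hm hm
  have heq := h.tic.invol_unique hv hv' hvN hmem
  rw [e1] at heq
  have hmm : m * m = 1 := by
    have := mul_right_cancel heq
    calc m * m = m * m⁻¹ := by rw [← this]
      _ = 1 := mul_inv_cancel m
  have hm1 := h.tic.sq_eq_one hm hmm
  rw [hm1, one_mul] at hv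
  exact hv

theorem inverts_of_comm (h : TIS M z) {g d : G} (hgz : g * z = z * g)
    (hgN : g ∉ Subgroup.normalizer (M : Set G)) (hd : d ∈ Subgroup.normalizer (M : Set G))
    (hdz : d * z = z * d) : g * d * g⁻¹ = d⁻¹ := by
  have hg := h.invol_of_comm hgz hgN
  obtain ⟨m, hm, hmd⟩ := h.exists_inverted hg hgN hd
  have hmdN : m * d ∈ Subgroup.normalizer (M : Set G) := Subgroup.mul_mem _ (le_N hm) hd
  have e0 : g * z * g⁻¹ = z := by rw [hgz]; group
  -- `g` inverts `(m d) z`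
  have h1 : g * (m * d * z) * g⁻¹ = (m * d * z)⁻¹ := by
    apply h.inverts hg hgN (Subgroup.mul_mem _ hmdN h.tic.zN)
    have e : g * (m * d * z) * g⁻¹ = (g * (m * d) * g⁻¹) * (g * z * g⁻¹) := by group
    rw [e, hmd, e0]
    exact Subgroup.mul_mem _ (Subgroup.inv_mem _ hmdN) h.tic.zN
  have e : g * (m * d * z) * g⁻¹ = (g * (m * d) * g⁻¹) * (g * z * g⁻¹) := by group
  rw [e, hmd, e0, mul_inv_rev (m * d) z, h.tic.z_inv] at h1
  -- so `m d` commutes with `z`
  have h2 : z * (m * d) = (m * d) * z := by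
    have := congrArg (fun t => (m * d) * t * (m * d)) h1
    have e1 : m * d * ((m * d)⁻¹ * z) * (m * d) = z * (m * d) := by group
    have e2 : m * d * (z * (m * d)⁻¹) * (m * d) = (m * d) * z := by group
    rw [e1, e2] at this
    exact this
  have h3 : z * m = m * z := by
    have e3 : z * m = (z * (m * d)) * d⁻¹ := by group
    rw [e3, h2]
    calc m * d * z * d⁻¹ = m * (d * z) * d⁻¹ := by group
      _ = m * (z * d) * d⁻¹ := by rw [hdz]
      _ = m * z := by group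
  have hm1 := h.tic.eq_one_of_comm hm h.tic.hz h3
  rw [hm1, one_mul] at hmd
  exact hmd

/-- every element outside `N(M)` lies in `M w M` with `w ∈ C(z) \ N(M)` -/
theorem decomp (h : TIS M z) {g : G} (hg : g ∉ Subgroup.normalizer (M : Set G)) :
    ∃ a ∈ M, ∃ w, w * z = z * w ∧ w ∉ Subgroup.normalizer (M : Set G) ∧ ∃ b ∈ M,
      g = a * w * b := by
  obtain ⟨m₁, hm₁, hu⟩ := h.star _ hg
  set u := m₁ * g with hu_def
  have huN : u ∉ Subgroup.normalizer (M : Set G) := by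
    intro hcon
    apply hg
    have : g = m₁⁻¹ * u := by rw [hu_def]; group
    rw [this]
    exact Subgroup.mul_mem _ (Subgroup.inv_mem _ (le_N hm₁)) hcon
  obtain ⟨m₂, hm₂, hz1⟩ := h.exists_inverted hu huN h.tic.zN
  have ho : orderOf (m₂ * z) = 2 := h.tic.orderOf_mul_z hm₂
  rw [inv_of_orderOf_two ho] at hz1
  obtain ⟨k, hk, hkk⟩ := h.tic.exists_sqrt hm₂
  have hz2 : m₂ * z = k * z * k⁻¹ := by rw [h.tic.conj_z hk, hkk]
  rw [hz2] at hz1
  refine ⟨m₁⁻¹ * k, M.mul_mem (M.inv_mem hm₁) hk, k⁻¹ * u * k, ?_, ?_, k⁻¹, M.inv_mem hk, ?_⟩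
  · have e : u * (k * z * k⁻¹) = (k * z * k⁻¹) * u := by
      calc u * (k * z * k⁻¹) = (u * (k * z * k⁻¹) * u⁻¹) * u := by group
        _ = (k * z * k⁻¹) * u := by rw [hz1]
    calc k⁻¹ * u * k * z = k⁻¹ * (u * (k * z * k⁻¹)) * k := by group
      _ = k⁻¹ * ((k * z * k⁻¹) * u) * k := by rw [e]
      _ = z * (k⁻¹ * u * k) := by group
  · intro hcon
    apply huN
    have : u = k * (k⁻¹ * u * k) * k⁻¹ := by group
    rw [this]
    exact Subgroup.mul_mem _ (Subgroup.mul_mem _ (le_N hk) hcon) (Subgroup.inv_mem _ (le_N hk))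
  · rw [hu_def]
    group

theorem decomp_unique (h : TIS M z) {a b a' b' w w' : G} (ha : a ∈ M) (hb : b ∈ M)
    (ha' : a' ∈ M) (hb' : b' ∈ M) (hw : w * z = z * w) (hw' : w' * z = z * w')
    (hwN : w ∉ Subgroup.normalizer (M : Set G)) (he : a * w * b = a' * w' * b') :
    a = a' ∧ w = w' ∧ b = b' := by
  -- `w' = c w e` with `c = a'⁻¹ a`, `e = b b'⁻¹`
  set c := a'⁻¹ * a with hc
  set e := b * b'⁻¹ with he'
  have hcM : c ∈ M := M.mul_mem (M.inv_mem ha') ha
  have heM : e ∈ M := M.mul_mem hb (M.inv_mem hb')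
  have h1 : w' = c * w * e := by
    calc w' = a'⁻¹ * (a' * w' * b') * b'⁻¹ := by group
      _ = a'⁻¹ * (a * w * b) * b'⁻¹ := by rw [he]
      _ = c * w * e := by rw [hc, he']; group
  have e0 : z * w * z⁻¹ = w := by rw [← hw]; group
  have e0' : z * w' * z⁻¹ = w' := by rw [← hw']; group
  have h2 : c * w * e = c⁻¹ * w * e⁻¹ := by
    calc c * w * e = z * (c * w * e) * z⁻¹ := by rw [← h1, e0']
      _ = (z * c * z⁻¹) * (z * w * z⁻¹) * (z * e * z⁻¹) := by group
      _ = c⁻¹ * w * e⁻¹ := by rw [h.tic.inv_z c hcM, h.tic.inv_z e heM, e0]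
  have h3 : w⁻¹ * (c * c) * w⁻¹⁻¹ = e⁻¹ * e⁻¹ := by
    calc w⁻¹ * (c * c) * w⁻¹⁻¹ = w⁻¹ * c * (c * w * e) * e⁻¹ := by group
      _ = w⁻¹ * c * (c⁻¹ * w * e⁻¹) * e⁻¹ := by rw [h2]
      _ = e⁻¹ * e⁻¹ := by group
  have hcc : c * c = 1 := by
    by_contra hne
    apply hwN
    have := h.tic.ti w⁻¹ (c * c) (M.mul_mem hcM hcM) hne (by
      rw [h3]; exact M.mul_mem (M.inv_mem heM) (M.inv_mem heM))
    have h4 := Subgroup.inv_mem _ this
    rwa [inv_inv] at h4
  have hc1 := h.tic.sq_eq_one hcM hcc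
  have hee : e * e = 1 := by
    rw [hcc] at h3
    have : e⁻¹ * e⁻¹ = 1 := by rw [← h3]; group
    calc e * e = (e⁻¹ * e⁻¹)⁻¹ := by simp
      _ = 1 := by rw [this, inv_one]
  have he1 := h.tic.sq_eq_one heM hee
  refine ⟨?_, ?_, ?_⟩
  · have : a'⁻¹ * a = 1 := hc1
    exact (inv_mul_eq_one.1 this).symm
  · rw [h1, hc1, he1, one_mul, mul_one]
  · have : b * b'⁻¹ = 1 := he1
    exact mul_inv_eq_one.1 this

end TIS

end Cfsg.Agent.Lib.Helper75.Bend
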