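import Mathlib

/-!
# Groups with a self-centralizing element of prime order (helper75)

`SC p x` : `x` has prime order `p` and `C_G(x) = ⟨x⟩` (Brauer's hypothesis).
-/

set_option autoImplicit false

namespace Cfsg.Agent.Lib.Helper75

open Subgroup

variable {G : Type*} [Group G] {p : ℕ} {x : G}

/-- Brauer's hypothesis: `x` has prime order `p` and is self-centralizing. -/
structure SC (p : ℕ) (x : G) : Prop where
  prime : p.Prime
  order : orderOf x = p
  cent : Subgroup.centralizer ({x} : Set G) = Subgroup.zpowers x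

namespace SC

theorem card_zpowers (h : SC p x) : Nat.card (zpowers x) = p := by
  rw [Nat.card_zpowers, h.order]

theorem ne_one (h : SC p x) : x ≠ 1 := by
  intro h1
  have := h.order
  rw [h1, orderOf_one] at this
  exact h.prime.one_lt.ne this

theorem mem_iff (h : SC p x) {g : G} : g ∈ zpowers x ↔ g * x = x * g := by
  rw [← h.cent, mem_centralizer_singleton_iff]

theorem orderOf_of_mem (h : SC p x) {y : G} (hy : y ∈ zpowers x) (hy1 : y ≠ 1) :
    orderOf y = p := by
  have h1 := orderOf_dvd_of_mem_zpowers hy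
  rw [h.order] at h1
  rcases (Nat.dvd_prime h.prime).1 h1 with h2 | h2
  · exact absurd (orderOf_eq_one_iff.1 h2) hy1
  · exact h2

theorem zpowers_eq [Finite G] (h : SC p x) {y : G} (hy : y ∈ zpowers x) (hy1 : y ≠ 1) :
    zpowers y = zpowers x := by
  apply Subgroup.eq_of_le_of_card_ge (zpowers_le.2 hy)
  rw [Nat.card_zpowers, Nat.card_zpowers, h.order, h.orderOf_of_mem hy hy1]

theorem of_mem [Finite G] (h : SC p x) {y : G} (hy : y ∈ zpowers x) (hy1 : y ≠ 1) : SC p y := by
  refine ⟨h.prime, h.orderOf_of_mem hy hy1, ?_⟩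
  rw [h.zpowers_eq hy hy1, ← h.cent, ← centralizer_closure ({y} : Set G),
    ← centralizer_closure ({x} : Set G), ← zpowers_eq_closure, ← zpowers_eq_closure,
    h.zpowers_eq hy hy1]

theorem isPGroup (h : SC p x) : IsPGroup p (zpowers x) :=
  IsPGroup.of_card (n := 1) (by rw [h.card_zpowers, pow_one])

/-- `⟨x⟩` is a Sylow `p`-subgroup. -/
theorem exists_sylow [Finite G] (h : SC p x) : ∃ P : Sylow p G, (P : Subgroup G) = zpowers x := by
  have : Fact p.Prime := ⟨h.prime⟩
  obtain ⟨Q, hQ⟩ := h.isPGroup.exists_le_sylow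
  refine ⟨Q, le_antisymm ?_ hQ⟩
  have hxQ : x ∈ (Q : Subgroup G) := hQ (mem_zpowers x)
  have : Nontrivial (Q : Subgroup G) :=
    ⟨⟨⟨x, hxQ⟩, 1, fun hh => h.ne_one (congrArg Subtype.val hh)⟩⟩
  have : Nontrivial (center (Q : Subgroup G)) := IsPGroup.center_nontrivial Q.2
  obtain ⟨z, hz⟩ := exists_ne (1 : center (Q : Subgroup G))
  have hz1 : ((z : (Q : Subgroup G)) : G) ≠ 1 := fun hh => hz (Subtype.ext (Subtype.ext hh))
  have hzc := z.2
  rw [mem_center_iff] at hzc
  have hzx : ((z : (Q : Subgroup G)) : G) ∈ zpowers x := by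
    rw [h.mem_iff]
    exact (congrArg Subtype.val (hzc ⟨x, hxQ⟩)).symm
  have h' := h.of_mem hzx hz1
  intro q hq
  rw [← h.zpowers_eq hzx hz1, h'.mem_iff]
  exact congrArg Subtype.val (hzc ⟨q, hq⟩)

theorem factorization_card [Finite G] (h : SC p x) : (Nat.card G).factorization p = 1 := by
  have : Fact p.Prime := ⟨h.prime⟩
  obtain ⟨P, hP⟩ := h.exists_sylow
  have h1 := P.card_eq_multiplicity
  rw [hP, h.card_zpowers] at h1
  exact (Nat.pow_right_injective h.prime.two_le (by simpa using h1)).symm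

/-- Elements of order `p` are conjugate into `⟨x⟩`. -/
theorem exists_conj_mem [Finite G] (h : SC p x) {y : G} (hy : orderOf y = p) :
    ∃ g : G, g * y * g⁻¹ ∈ zpowers x := by
  have : Fact p.Prime := ⟨h.prime⟩
  obtain ⟨P, hP⟩ := h.exists_sylow
  have hyp : IsPGroup p (zpowers y) :=
    IsPGroup.of_card (n := 1) (by rw [Nat.card_zpowers, hy, pow_one])
  obtain ⟨Q, hQ⟩ := hyp.exists_le_sylow
  obtain ⟨g, hg⟩ := MulAction.exists_smul_eq G Q P
  refine ⟨g, ?_⟩
  rw [← hP, ← hg, Sylow.coe_subgroup_smul]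
  exact ⟨y, hQ (mem_zpowers y), rfl⟩

/-- `g` normalizes `⟨x⟩` as soon as it conjugates `x` into `⟨x⟩`. -/
theorem mem_normalizer [Finite G] (h : SC p x) {g : G} (hg : g * x * g⁻¹ ∈ zpowers x) :
    g ∈ normalizer (zpowers x : Set G) := by
  have h1 : g * x * g⁻¹ ≠ 1 := by
    intro hh
    apply h.ne_one
    have : x = g⁻¹ * (g * x * g⁻¹) * g := by group
    rw [this, hh]; group
  have h2 := h.zpowers_eq hg h1
  rw [mem_normalizer_iff]
  intro y
  constructor
  · rintro ⟨k, rfl⟩
    rw [← h2]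
    exact ⟨k, by simp⟩
  · intro hy
    rw [← h2] at hy
    obtain ⟨k, hk⟩ := hy
    refine ⟨k, ?_⟩
    have : g * x ^ k * g⁻¹ = g * y * g⁻¹ := by
      rw [← hk]; simp
    simpa using this

theorem conj_mem_of_mem_normalizer {g : G} (hg : g ∈ normalizer (zpowers x : Set G)) :
    g * x * g⁻¹ ∈ zpowers x :=
  (mem_normalizer_iff.1 hg x).1 (mem_zpowers x)

/-- `N_G(⟨x⟩)/⟨x⟩` is abelian. -/
theorem commutator_normalizer_le [Finite G] (h : SC p x) :
    ⁅normalizer (zpowers x : Set G), normalizer (zpowers x : Set G)⁆ ≤ zpowers x := by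
  rw [commutator_le]
  intro a ha b hb
  obtain ⟨i, hi⟩ := conj_mem_of_mem_normalizer ha
  obtain ⟨j, hj⟩ := conj_mem_of_mem_normalizer hb
  have hab : (a * b) * x * (a * b)⁻¹ = (b * a) * x * (b * a)⁻¹ := by
    have e1 : (a * b) * x * (a * b)⁻¹ = a * (b * x * b⁻¹) * a⁻¹ := by group
    have e2 : (b * a) * x * (b * a)⁻¹ = b * (a * x * a⁻¹) * b⁻¹ := by group
    have e3 : ∀ (c : G) (k : ℤ), c * x ^ k * c⁻¹ = (c * x * c⁻¹) ^ k := fun c k => by simp
    rw [e1, e2, ← hi, ← hj, e3, e3, ← hi, ← hj, ← zpow_mul, ← zpow_mul, mul_comm]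
  have hba : b * a ∈ normalizer (zpowers x : Set G) := mul_mem hb ha
  have hy := conj_mem_of_mem_normalizer hba
  have hy1 : (b * a) * x * (b * a)⁻¹ ≠ 1 := by
    intro hh
    apply h.ne_one
    have : x = (b * a)⁻¹ * ((b * a) * x * (b * a)⁻¹) * (b * a) := by group
    rw [this, hh]; group
  rw [← h.zpowers_eq hy hy1, (h.of_mem hy hy1).mem_iff, commutatorElement_def]
  calc a * b * a⁻¹ * b⁻¹ * (b * a * x * (b * a)⁻¹) = (a * b) * x * (a * b)⁻¹ * (a * b * a⁻¹ * b⁻¹) := by
        group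
    _ = _ := by rw [hab]

/-- A normal subgroup of order divisible by `p` contains `⟨x⟩`. -/
theorem zpowers_le_of_dvd [Finite G] (h : SC p x) (S : Subgroup G) [S.Normal]
    (hS : p ∣ Nat.card S) : zpowers x ≤ S := by
  have : Fact p.Prime := ⟨h.prime⟩
  obtain ⟨y, hy⟩ := exists_prime_orderOf_dvd_card' p hS
  have hy' : orderOf (y : G) = p := by rw [Subgroup.orderOf_coe, hy]
  obtain ⟨g, hg⟩ := h.exists_conj_mem hy'
  have h1 : g * (y : G) * g⁻¹ ≠ 1 := by
    intro hh
    have h2 : (y : G) = 1 := by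
      have : (y : G) = g⁻¹ * (g * y * g⁻¹) * g := by group
      rw [this, hh]; group
    rw [h2, orderOf_one] at hy'
    exact h.prime.one_lt.ne hy'
  rw [← h.zpowers_eq hg h1, zpowers_le]
  exact Subgroup.Normal.conj_mem inferInstance _ y.2 g

/-- Frattini argument. -/
theorem normalizer_sup_eq_top [Finite G] (h : SC p x) (S : Subgroup G) [S.Normal]
    (hS : zpowers x ≤ S) : normalizer (zpowers x : Set G) ⊔ S = ⊤ := by
  have : Fact p.Prime := ⟨h.prime⟩
  obtain ⟨P, hP⟩ := h.exists_sylow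
  have := Sylow.normalizer_sup_eq_top' P (N := S) (by rw [hP]; exact hS)
  rwa [← P.coe_coe, hP] at this

end SC

/-- Commutators modulo a normal subgroup. -/
theorem commutator_sup_le (A S : Subgroup G) [S.Normal] : ⁅A ⊔ S, A ⊔ S⁆ ≤ ⁅A, A⁆ ⊔ S := by
  have h1 : map (QuotientGroup.mk' S) (A ⊔ S) = map (QuotientGroup.mk' S) A := by
    rw [Subgroup.map_sup, QuotientGroup.map_mk'_self, sup_bot_eq]
  have h2 : map (QuotientGroup.mk' S) ⁅A ⊔ S, A ⊔ S⁆ = map (QuotientGroup.mk' S) ⁅A, A⁆ := by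
    rw [map_commutator, map_commutator, h1]
  have h3 := comap_map_eq (QuotientGroup.mk' S) ⁅A, A⁆
  rw [QuotientGroup.ker_mk'] at h3
  rw [← h3, ← h2]
  exact le_comap_map _ _

namespace SC

/-- If `N_G(⟨x⟩) S = G` then `G' ≤ ⟨x⟩ S`. -/
theorem commutator_le_sup [Finite G] (h : SC p x) (S : Subgroup G) [S.Normal]
    (hS : normalizer (zpowers x : Set G) ⊔ S = ⊤) : commutator G ≤ zpowers x ⊔ S := by
  rw [commutator_def, ← hS]
  exact (commutator_sup_le _ S).trans (sup_le_sup_right h.commutator_normalizer_le S)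

/-- Every normal subgroup of order divisible by `p` contains the commutator subgroup. -/
theorem commutator_le_of_dvd [Finite G] (h : SC p x) (S : Subgroup G) [S.Normal]
    (hS : p ∣ Nat.card S) : commutator G ≤ S := by
  have h1 := h.zpowers_le_of_dvd S hS
  have := h.commutator_le_sup S (h.normalizer_sup_eq_top S h1)
  rwa [sup_eq_right.2 h1] at this

theorem inf_zpowers_eq_bot (h : SC p x) (S : Subgroup G) (hS : ¬ p ∣ Nat.card S) :
    S ⊓ zpowers x = ⊥ := by
  apply (Subgroup.disjoint_of_coprime_natCard _).eq_bot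
  rw [h.card_zpowers]
  exact ((Nat.Prime.coprime_iff_not_dvd h.prime).2 hS).symm

theorem eq_one_of_mem_of_comm (h : SC p x) (S : Subgroup G) (hS : ¬ p ∣ Nat.card S) {s : G}
    (hs : s ∈ S) (hc : s * x = x * s) : s = 1 := by
  have : s ∈ S ⊓ zpowers x := ⟨hs, h.mem_iff.2 hc⟩
  rwa [h.inf_zpowers_eq_bot S hS, mem_bot] at this

theorem inf_normalizer_eq_bot (h : SC p x) (S : Subgroup G) [S.Normal] (hS : ¬ p ∣ Nat.card S) :
    S ⊓ normalizer (zpowers x : Set G) = ⊥ := by
  rw [eq_bot_iff]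
  rintro s ⟨hs, hn⟩
  rw [mem_bot]
  apply h.eq_one_of_mem_of_comm S hS hs
  have h1 : s * x * s⁻¹ * x⁻¹ ∈ S ⊓ zpowers x := by
    refine ⟨?_, (zpowers x).mul_mem (conj_mem_of_mem_normalizer hn)
      ((zpowers x).inv_mem (mem_zpowers x))⟩
    have : s * x * s⁻¹ * x⁻¹ = s * (x * s⁻¹ * x⁻¹) := by group
    rw [this]
    exact mul_mem hs (Subgroup.Normal.conj_mem inferInstance _ (inv_mem hs) x)
  rw [h.inf_zpowers_eq_bot S hS, mem_bot] at h1
  calc s * x = (s * x * s⁻¹ * x⁻¹) * (x * s) := by group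
    _ = x * s := by rw [h1, one_mul]

/-- The order of a normal `p'`-subgroup divides the index of `N_G(⟨x⟩)`. -/
theorem card_dvd_index_normalizer [Finite G] (h : SC p x) (S : Subgroup G) [S.Normal]
    (hS : ¬ p ∣ Nat.card S) : Nat.card S ∣ (normalizer (zpowers x : Set G)).index := by
  set N := normalizer (zpowers x : Set G) with hN
  have h1 : Nat.card (N ⊔ S : Subgroup G) = Nat.card S * S.relIndex N := by
    rw [← Subgroup.relIndex_bot_left, ← Subgroup.relIndex_mul_relIndex ⊥ S (N ⊔ S) bot_le le_sup_right,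
      Subgroup.relIndex_bot_left, Subgroup.relIndex_sup_right]
  have h2 : S.relIndex N = Nat.card N := by
    rw [← Subgroup.inf_relIndex_right, h.inf_normalizer_eq_bot S hS, Subgroup.relIndex_bot_left]
  have h3 : Nat.card (N ⊔ S : Subgroup G) ∣ Nat.card G := Subgroup.card_subgroup_dvd_card _
  rw [h1, h2, ← Subgroup.card_mul_index N, mul_comm] at h3
  exact Nat.dvd_of_mul_dvd_mul_left Nat.card_pos h3

/-- The subgroups of order `p` are the Sylow `p`-subgroups. -/
theorem card_subgroups [Finite G] (h : SC p x) :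
    Nat.card {H : Subgroup G // Nat.card H = p} = (normalizer (zpowers x : Set G)).index := by
  have : Fact p.Prime := ⟨h.prime⟩
  obtain ⟨P, hP⟩ := h.exists_sylow
  rw [← hP, P.coe_coe, ← Sylow.card_eq_index_normalizer]
  refine Nat.card_congr ⟨fun H => Sylow.ofCard H.1 (by rw [H.2, h.factorization_card, pow_one]),
    fun Q => ⟨Q.1, by rw [Q.card_eq_multiplicity, h.factorization_card, pow_one]⟩, ?_, ?_⟩
  · intro H; rfl
  · intro Q; ext; rfl

end SC

/-- Fixed point congruence for conjugation by an element with `x ^ p = 1`. -/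
theorem card_modEq_card_fixed [Finite G] (hp : p.Prime) (hx : x ^ p = 1) (T : Set G)
    (hT : ∀ y ∈ T, x * y * x⁻¹ ∈ T) :
    Nat.card T ≡ Nat.card {y : T // x * (y : G) * x⁻¹ = y} [MOD p] := by
  classical
  have : Fact p.Prime := ⟨hp⟩
  have := Fintype.ofFinite T
  let f : T → T := fun y => ⟨x * y * x⁻¹, hT y y.2⟩
  have hf : ∀ (k : ℕ) (y : T), ((f^[k]) y : G) = x ^ k * y * (x ^ k)⁻¹ := by
    intro k
    induction k with
    | zero => intro y; simp
    | succ k ih =>
      intro y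
      rw [Function.iterate_succ_apply, ih]
      simp only [f, pow_succ]
      group
  let F : Function.End T := f
  have h1 : F ^ p ^ 1 = 1 := by
    rw [pow_one]
    show f^[p] = id
    funext y
    apply Subtype.ext
    rw [hf, hx]
    simp
  have h2 := Equiv.Perm.card_fixedPoints_modEq h1
  rw [Nat.card_eq_fintype_card]
  convert h2 using 1
  rw [← Nat.card_eq_fintype_card]
  apply Nat.card_congr
  exact Equiv.subtypeEquivRight (fun y => by
    simp [Function.mem_fixedPoints, Function.IsFixedPt, F, f, Subtype.ext_iff])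

namespace SC

theorem pow_eq_one (h : SC p x) : x ^ p = 1 := by
  rw [← h.order]; exact pow_orderOf_eq_one x

/-- A normal `p'`-subgroup has order `≡ 1 (mod p)`. -/
theorem card_mod_eq_one [Finite G] (h : SC p x) (S : Subgroup G) [S.Normal]
    (hS : ¬ p ∣ Nat.card S) : Nat.card S % p = 1 := by
  have h1 := card_modEq_card_fixed h.prime h.pow_eq_one (S : Set G)
    (fun y hy => Subgroup.Normal.conj_mem inferInstance y hy x)
  have h2 : Nat.card {y : (S : Set G) // x * (y : G) * x⁻¹ = y} = 1 := by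
    rw [Nat.card_eq_one_iff_unique]
    refine ⟨⟨fun a b => ?_⟩, ⟨⟨⟨1, S.one_mem⟩, by simp⟩⟩⟩
    have key : ∀ a : {y : (S : Set G) // x * (y : G) * x⁻¹ = y}, ((a : (S : Set G)) : G) = 1 := by
      intro a
      apply h.eq_one_of_mem_of_comm S hS a.1.2
      have := a.2
      calc ((a : (S : Set G)) : G) * x = (x * ((a : (S : Set G)) : G) * x⁻¹) * x := by rw [this]
        _ = _ := by group
    exact Subtype.ext (Subtype.ext ((key a).trans (key b).symm))
  rw [h2] at h1
  have h3 : Nat.card S % p = 1 % p := h1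
  rwa [Nat.mod_eq_of_lt h.prime.one_lt] at h3

theorem orderOf_mk (h : SC p x) (S : Subgroup G) [S.Normal]
    (hS : ¬ p ∣ Nat.card S) : orderOf (QuotientGroup.mk x : G ⧸ S) = p := by
  have : Fact p.Prime := ⟨h.prime⟩
  apply orderOf_eq_prime
  · rw [← QuotientGroup.mk_pow, h.pow_eq_one]; rfl
  · intro hh
    rw [QuotientGroup.eq_one_iff] at hh
    exact h.ne_one (h.eq_one_of_mem_of_comm S hS hh rfl)

theorem centralizer_mk [Finite G] (h : SC p x) (S : Subgroup G) [S.Normal]
    (hS : ¬ p ∣ Nat.card S) :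
    Subgroup.centralizer ({(QuotientGroup.mk x : G ⧸ S)} : Set (G ⧸ S)) =
      Subgroup.zpowers (QuotientGroup.mk x : G ⧸ S) := by
  apply le_antisymm
  · intro q hq
    obtain ⟨g, rfl⟩ := QuotientGroup.mk_surjective q
    rw [mem_centralizer_singleton_iff] at hq
    have h1 := card_modEq_card_fixed h.prime h.pow_eq_one
      {y : G | (QuotientGroup.mk y : G ⧸ S) = QuotientGroup.mk g} (by
        intro y hy
        have hy' : (QuotientGroup.mk y : G ⧸ S) = QuotientGroup.mk g := hy
        show (QuotientGroup.mk (x * y * x⁻¹) : G ⧸ S) = QuotientGroup.mk g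
        rw [QuotientGroup.mk_mul, QuotientGroup.mk_mul, hy', ← hq, QuotientGroup.mk_inv]
        group)
    have h2 : Nat.card {y : G | (QuotientGroup.mk y : G ⧸ S) = QuotientGroup.mk g} =
        Nat.card S := by
      refine Nat.card_congr ⟨fun y => ⟨g⁻¹ * y, ?_⟩, fun s => ⟨g * s, ?_⟩, ?_, ?_⟩
      · exact QuotientGroup.eq.1 y.2.symm
      · show (QuotientGroup.mk (g * s) : G ⧸ S) = QuotientGroup.mk g
        rw [eq_comm, QuotientGroup.eq]
        simp
      · intro y; ext; simp
      · intro s; ext; simp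
    rw [h2] at h1
    have h3 : Nat.card {y : {y : G | (QuotientGroup.mk y : G ⧸ S) = QuotientGroup.mk g} //
        x * (y : G) * x⁻¹ = y} ≠ 0 := by
      intro h0
      rw [h0] at h1
      exact hS (Nat.modEq_zero_iff_dvd.1 h1)
    have h4 : Nonempty {y : {y : G | (QuotientGroup.mk y : G ⧸ S) = QuotientGroup.mk g} //
        x * (y : G) * x⁻¹ = y} := by
      by_contra hne
      rw [not_nonempty_iff] at hne
      exact h3 Nat.card_of_isEmpty
    obtain ⟨⟨⟨y, hy⟩, hyx⟩⟩ := h4
    have hy' : (QuotientGroup.mk y : G ⧸ S) = QuotientGroup.mk g := hy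
    have hyz : y ∈ zpowers x := by
      rw [h.mem_iff]
      have hyx' : x * y * x⁻¹ = y := hyx
      calc y * x = (x * y * x⁻¹) * x := by rw [hyx']
        _ = _ := by group
    obtain ⟨k, hk⟩ := hyz
    rw [← hy', ← hk]
    exact ⟨k, by simp⟩
  · rw [zpowers_le, mem_centralizer_singleton_iff]

/-- The hypothesis passes to quotients by normal `p'`-subgroups. -/
theorem quotient [Finite G] (h : SC p x) (S : Subgroup G) [S.Normal]
    (hS : ¬ p ∣ Nat.card S) : SC p (QuotientGroup.mk x : G ⧸ S) :=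
  ⟨h.prime, h.orderOf_mk S hS, h.centralizer_mk S hS⟩

end SC

end Cfsg.Agent.Lib.Helper75
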