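import Mathlib
import Cfsg.Agent.Lib.Helper75.BSW16
import Cfsg.Agent.S0731

/-!
# From the Brauer-Suzuki-Wall data to a Zassenhaus group: the action (helper75)
-/

set_option autoImplicit false

namespace Cfsg.Agent.Lib.Helper75

open Cfsg

namespace BSW

namespace ZD

variable {G : Type*} [Group G] [Finite G] {Q D : Subgroup G} {u : G}

/-- the set of points. -/
abbrev Om (Q : Subgroup G) : Type _ := G ⧸ Subgroup.normalizer (Q : Set G)

/-- the base point. -/
abbrev pt (Q : Subgroup G) : Om Q := QuotientGroup.mk (1 : G)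

omit [Finite G] in
theorem fix_iff (y g : G) : y • (QuotientGroup.mk g : Om Q) = QuotientGroup.mk g ↔
    g⁻¹ * y * g ∈ Subgroup.normalizer (Q : Set G) := by
  rw [MulAction.Quotient.smul_mk, QuotientGroup.eq, smul_eq_mul]
  have e : (y * g)⁻¹ * g = (g⁻¹ * y * g)⁻¹ := by group
  rw [e, Subgroup.inv_mem_iff]

omit [Finite G] in
theorem mk_eq_pt_iff (g : G) : (QuotientGroup.mk g : Om Q) = pt Q ↔
    g ∈ Subgroup.normalizer (Q : Set G) := by
  rw [QuotientGroup.eq, mul_one, Subgroup.inv_mem_iff]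

omit [Finite G] in
theorem smul_pt {y : G} (hy : y ∈ Subgroup.normalizer (Q : Set G)) : y • pt Q = pt Q := by
  rw [fix_iff]
  simpa using hy

omit [Finite G] in
theorem mem_of_smul_pt {y : G} (hy : y • pt Q = pt Q) : y ∈ Subgroup.normalizer (Q : Set G) := by
  rw [fix_iff] at hy
  simpa using hy

theorem card_Om (z : ZD Q D u) : Nat.card (Om Q) = Nat.card Q + 1 := z.index_B

theorem eq_one_of_smul (z : ZD Q D u) {x : G} (hx : x ∈ Q) {a : Om Q} (ha : a ≠ pt Q)
    (hxa : x • a = a) : x = 1 := by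
  obtain ⟨g, rfl⟩ := QuotientGroup.mk_surjective a
  rw [fix_iff] at hxa
  by_contra hx1
  apply ha
  rw [mk_eq_pt_iff]
  have e : g⁻¹ * x * g = g⁻¹ * x * g⁻¹⁻¹ := by group
  rw [e] at hxa
  have := z.mem_B_of_conj hx hx1 hxa
  rwa [Subgroup.inv_mem_iff] at this

theorem exists_smul (z : ZD Q D u) {a b : Om Q} (ha : a ≠ pt Q) (hb : b ≠ pt Q) :
    ∃ x ∈ Q, x • a = b := by
  classical
  have := Fintype.ofFinite (Om Q)
  have := Fintype.ofFinite Q
  have hinj : Function.Injective (fun x : Q => (x : G) • a) := by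
    intro x y hxy
    have h1 : ((y : G)⁻¹ * x) • a = a := by
      rw [mul_smul]
      have : (x : G) • a = (y : G) • a := hxy
      rw [this, inv_smul_smul]
    have h2 := z.eq_one_of_smul (Subgroup.mul_mem _ (Subgroup.inv_mem _ y.2) x.2) ha h1
    apply Subtype.ext
    exact (inv_mul_eq_one.1 h2).symm
  have hsub : Finset.univ.image (fun x : Q => (x : G) • a) ⊆ Finset.univ.erase (pt Q) := by
    intro T hT
    obtain ⟨x, -, rfl⟩ := Finset.mem_image.1 hT
    refine Finset.mem_erase.2 ⟨?_, Finset.mem_univ _⟩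
    intro he
    apply ha
    have : (x : G)⁻¹ • ((x : G) • a) = (x : G)⁻¹ • pt Q := by rw [he]
    rw [inv_smul_smul, smul_pt (Subgroup.inv_mem _ (Subgroup.le_normalizer x.2))] at this
    exact this
  have hcard : (Finset.univ.erase (pt Q)).card
      ≤ (Finset.univ.image (fun x : Q => (x : G) • a)).card := by
    rw [Finset.card_image_of_injective _ hinj, Finset.card_erase_of_mem (Finset.mem_univ _),
      Finset.card_univ, Finset.card_univ, ← Nat.card_eq_fintype_card, ← Nat.card_eq_fintype_card,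
      z.card_Om]
    omega
  have heq := Finset.eq_of_subset_of_card_le hsub hcard
  have hmem : b ∈ Finset.univ.erase (pt Q) := Finset.mem_erase.2 ⟨hb, Finset.mem_univ _⟩
  rw [← heq] at hmem
  obtain ⟨x, -, hx⟩ := Finset.mem_image.1 hmem
  exact ⟨x, x.2, hx⟩

/-- the second base point. -/
abbrev pu (Q : Subgroup G) (u : G) : Om Q := QuotientGroup.mk u

theorem pu_ne (z : ZD Q D u) : pu Q u ≠ pt Q := by
  intro e
  rw [mk_eq_pt_iff] at e
  exact z.u_not_mem e

theorem exists_move (z : ZD Q D u) {a b : Om Q} (hab : a ≠ b) :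
    ∃ g : G, g • a = pt Q ∧ g • b = pu Q u := by
  obtain ⟨g, hg⟩ := MulAction.exists_smul_eq G a (pt Q)
  have hne : g • b ≠ pt Q := by
    rw [← hg]
    intro hh
    exact hab (MulAction.injective g hh).symm
  obtain ⟨x, hx, hxd⟩ := z.exists_smul hne z.pu_ne
  refine ⟨x * g, ?_, ?_⟩
  · rw [mul_smul, hg]; exact smul_pt (Subgroup.le_normalizer hx)
  · rw [mul_smul, hxd]

theorem two_trans (z : ZD Q D u) : MulAction.IsMultiplyPretransitive G (Om Q) 2 := by
  rw [MulAction.is_two_pretransitive_iff]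
  intro a b c d hab hcd
  obtain ⟨g₁, h1, h2⟩ := z.exists_move hab
  obtain ⟨g₂, h3, h4⟩ := z.exists_move hcd
  refine ⟨g₂⁻¹ * g₁, ?_, ?_⟩
  · rw [mul_smul, h1, ← h3, inv_smul_smul]
  · rw [mul_smul, h2, ← h4, inv_smul_smul]

theorem fixed_of_D' (z : ZD Q D u) {d : G} (hd : d ∈ D) (hd1 : d ≠ 1) {a : Om Q} (ha : a ≠ pt Q)
    (hda : d • a = a) : a = pu Q u := by
  obtain ⟨g, rfl⟩ := QuotientGroup.mk_surjective a
  rw [fix_iff] at hda
  rcases z.fixed_of_D hd hd1 hda with h1 | h1
  · exact absurd ((mk_eq_pt_iff g).2 h1) ha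
  · symm
    rw [QuotientGroup.eq]
    exact h1

theorem three_fixed (z : ZD Q D u) (g : G) (a b c : Om Q) (hab : a ≠ b) (hbc : b ≠ c)
    (hac : a ≠ c) (ha : g • a = a) (hb : g • b = b) (hc : g • c = c) : g = 1 := by
  obtain ⟨k, hk⟩ := MulAction.exists_smul_eq G a (pt Q)
  -- conjugate
  obtain ⟨y, hy⟩ : ∃ y, y = k * g * k⁻¹ := ⟨_, rfl⟩
  have fixy : ∀ p : Om Q, g • p = p → y • (k • p) = k • p := by
    intro p hp
    rw [hy, mul_smul, mul_smul, inv_smul_smul, hp]
  have hy0 : y • pt Q = pt Q := by rw [← hk]; exact fixy a ha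
  have hb0 : k • b ≠ pt Q := by
    rw [← hk]; intro e; exact hab (MulAction.injective k e).symm
  have hc0 : k • c ≠ pt Q := by
    rw [← hk]; intro e; exact hac (MulAction.injective k e).symm
  have hyB := mem_of_smul_pt hy0
  have hy1 : y = 1 := by
    by_cases hyQ : y ∈ Q
    · exact z.eq_one_of_smul hyQ hb0 (fixy b hb)
    · exfalso
      obtain ⟨x, hx, d, hd, hd1, e⟩ := z.exists_conj_D hyB hyQ
      have hxB : x ∈ Subgroup.normalizer (Q : Set G) := Subgroup.le_normalizer hx
      have fixd : ∀ p : Om Q, y • p = p → d • (x • p) = x • p := by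
        intro p hp
        have e2 : d = x * y * x⁻¹ := by rw [e]; group
        rw [e2, mul_smul, mul_smul, inv_smul_smul, hp]
      have hne : ∀ p : Om Q, p ≠ pt Q → x • p ≠ pt Q := by
        intro p hp e3
        apply hp
        have : x⁻¹ • (x • p) = x⁻¹ • pt Q := by rw [e3]
        rw [inv_smul_smul, smul_pt (Subgroup.inv_mem _ hxB)] at this
        exact this
      have h1 := z.fixed_of_D' hd hd1 (hne _ hb0) (fixd _ (fixy b hb))
      have h2 := z.fixed_of_D' hd hd1 (hne _ hc0) (fixd _ (fixy c hc))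
      exact hbc (MulAction.injective k (MulAction.injective x (h1.trans h2.symm)))
  rw [hy] at hy1
  have := congrArg (fun w => k⁻¹ * w * k) hy1
  simpa [mul_assoc] using this

theorem toPermHom_inj [IsSimpleGroup G] (z : ZD Q D u) :
    Function.Injective (MulAction.toPermHom G (Om Q)) := by
  rw [← MonoidHom.ker_eq_bot_iff]
  rcases ((MulAction.toPermHom G (Om Q)).normal_ker).eq_bot_or_eq_top with h1 | h1
  · exact h1
  · exfalso
    obtain ⟨g, hg⟩ := MulAction.exists_smul_eq G (pt Q) (pu Q u)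
    have : g ∈ (MulAction.toPermHom G (Om Q)).ker := h1 ▸ Subgroup.mem_top g
    rw [MonoidHom.mem_ker] at this
    have h2 := congrArg (fun σ : Equiv.Perm (Om Q) => σ (pt Q)) this
    simp only [MulAction.toPermHom_apply, MulAction.toPerm_apply, Equiv.Perm.coe_one, id_eq] at h2
    exact z.pu_ne (hg.symm.trans h2)

theorem exists_D (z : ZD Q D u) : ∃ d ∈ D, d ≠ 1 :=
  (Subgroup.ne_bot_iff_exists_ne_one.1 z.ne : ∃ y : D, y ≠ 1) |>.elim
    (fun y hy => (⟨y.1, y.2, fun e => hy (Subtype.ext e)⟩ : ∃ y, y ∈ D ∧ y ≠ 1))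

theorem isZassenhaus [IsSimpleGroup G] (z : ZD Q D u) : Cfsg.IsZassenhausGroup G (Om Q) := by
  have hu' : u⁻¹ = u := inv_of_orderOf_two z.ord_u
  refine ⟨⟨fun {g₁ g₂} hg => z.toPermHom_inj ?_⟩, z.two_trans, ?_, ?_, ?_⟩
  · apply Equiv.ext
    intro S
    exact hg S
  · intro g a b c hab hbc hac ha hb hc
    exact z.three_fixed g a b c hab hbc hac ha hb hc
  · obtain ⟨d, hd, hd1⟩ := z.exists_D
    refine ⟨d, hd1, pt Q, pu Q u, z.pu_ne.symm, smul_pt (z.D_le hd), ?_⟩
    rw [fix_iff]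
    have := z.inv_u d hd
    rw [hu'] at this ⊢
    rw [this]
    exact z.D_le (D.inv_mem hd)
  · intro N hN hNt
    rcases hN.eq_bot_or_eq_top with rfl | rfl
    · exfalso
      obtain ⟨n, hn⟩ := hNt.exists_smul_eq (pt Q) (pu Q u)
      have h1 : (n : G) = 1 := Subgroup.mem_bot.1 n.2
      have h2 : (n : G) • pt Q = pu Q u := hn
      rw [h1, one_smul] at h2
      exact z.pu_ne h2.symm
    · refine ⟨pt Q, ?_⟩
      obtain ⟨d, hd, hd1⟩ := z.exists_D
      intro hbot
      have hmem : (⟨d, Subgroup.mem_top _⟩ : (⊤ : Subgroup G))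
          ∈ (⊥ : Subgroup (⊤ : Subgroup G)) := by
        rw [← hbot, MulAction.mem_stabilizer_iff]
        exact smul_pt (z.D_le hd)
      rw [Subgroup.mem_bot] at hmem
      apply hd1
      exact congrArg (fun y : (⊤ : Subgroup G) => (y : G)) hmem

theorem not_three_trans (z : ZD Q D u) : ¬ MulAction.IsMultiplyPretransitive G (Om Q) 3 := by
  classical
  intro h3
  have := Fintype.ofFinite (Om Q)
  have hq3 : 3 ≤ Nat.card Q := by
    have := z.cardD
    have hd : 0 < Nat.card D := Nat.card_pos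
    omega
  have hc : Fintype.card (Om Q) = Nat.card Q + 1 := by
    rw [← Nat.card_eq_fintype_card, z.card_Om]
  obtain ⟨t₀⟩ : Nonempty (Fin 3 ↪ Om Q) :=
    Function.Embedding.nonempty_of_card_le (by rw [Fintype.card_fin, hc]; omega)
  have hsurj : Function.Surjective (fun g : G => g • t₀) := by
    intro t₁
    exact MulAction.exists_smul_eq G t₀ t₁
  have h1 := Nat.card_le_card_of_surjective _ hsurj
  rw [Nat.card_eq_fintype_card, Fintype.card_embedding_eq, Fintype.card_fin, hc] at h1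
  have h2 : (Nat.card Q + 1).descFactorial 3 = (Nat.card Q + 1) * Nat.card Q * (Nat.card Q - 1) := by
    obtain ⟨r, hr⟩ : ∃ r, Nat.card Q = r + 1 := ⟨Nat.card Q - 1, by omega⟩
    rw [hr]
    simp [Nat.descFactorial]
    ring
  rw [h2] at h1
  have h4 := z.card
  have h5 : 0 < (Nat.card Q + 1) * Nat.card Q * (Nat.card Q - 1) := by
    apply Nat.mul_pos (Nat.mul_pos _ _) <;> omega
  have h6 : Nat.card Q * (Nat.card Q + 1) * (Nat.card Q - 1)
      = (Nat.card Q + 1) * Nat.card Q * (Nat.card Q - 1) := by ring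
  omega

theorem exists_psl [IsSimpleGroup G] (z : ZD Q D u) :
    ∃ (F : Type) (_ : Field F) (_ : Fintype F), Odd (Fintype.card F) ∧
      Nonempty (G ≃* Matrix.ProjectiveSpecialLinearGroup (Fin 2) F) := by
  have hst : MulAction.stabilizer G (pt Q) = Subgroup.normalizer (Q : Set G) :=
    MulAction.stabilizer_quotient _
  rcases Cfsg.Agent.S0731.result z.isZassenhaus (pt Q) Q
    (by rw [hst]; exact Subgroup.le_normalizer)
    (by rw [hst]; infer_instance)
    ⟨⟨fun x y => Subtype.ext (z.comm_Q x x.2 y y.2)⟩⟩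
    (by
      intro a b ha hb
      obtain ⟨x, hx, hxa⟩ := z.exists_smul ha hb
      refine ⟨⟨x, hx⟩, hxa, ?_⟩
      intro y hy
      have hy' : (y : G) • a = b := hy
      have h1 : ((x : G)⁻¹ * y) • a = a := by
        rw [mul_smul, hy', ← hxa, inv_smul_smul]
      have h2 := z.eq_one_of_smul (Subgroup.mul_mem _ (Subgroup.inv_mem _ hx) y.2) ha h1
      apply Subtype.ext
      exact (inv_mul_eq_one.1 h2).symm) with h | ⟨F, i1, i2, hF, e⟩
  · exact absurd h.1 z.not_three_trans
  · refine ⟨F, i1, i2, ?_, e⟩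
    rw [Nat.odd_iff]
    exact FiniteField.odd_card_of_char_ne_two hF

end ZD

end BSW

end Cfsg.Agent.Lib.Helper75
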