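import Mathlib
import Cfsg.Agent.Lib.Helper75.BSW17

/-!
# The Brauer-Suzuki-Wall configuration from a dihedral Sylow 2-subgroup (helper75)
-/

set_option autoImplicit false

namespace Cfsg.Agent.Lib.Helper75

open Cfsg

namespace BSW

variable {G : Type*} [Group G]

theorem eq_one_of_coprime_pow {y : G} {a b : ℕ} (h : Nat.Coprime a b) (ha : y ^ a = 1)
    (hb : y ^ b = 1) : y = 1 := by
  have h1 := Nat.dvd_gcd (orderOf_dvd_of_pow_eq_one ha) (orderOf_dvd_of_pow_eq_one hb)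
  rw [h, Nat.dvd_one] at h1
  exact orderOf_eq_one_iff.1 h1

/-- the product of two commuting subgroups. -/
def KK (O Z : Subgroup G) (hc : ∀ o ∈ O, ∀ c ∈ Z, c * o = o * c) : Subgroup G where
  carrier := {g | ∃ o ∈ O, ∃ c ∈ Z, g = o * c}
  one_mem' := ⟨1, O.one_mem, 1, Z.one_mem, by simp⟩
  mul_mem' := by
    rintro _ _ ⟨o, ho, c, hc', rfl⟩ ⟨o', ho', c', hc'', rfl⟩
    refine ⟨o * o', O.mul_mem ho ho', c * c', Z.mul_mem hc' hc'', ?_⟩
    calc o * c * (o' * c') = o * (c * o') * c' := by group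
      _ = o * (o' * c) * c' := by rw [hc o' ho' c hc']
      _ = _ := by group
  inv_mem' := by
    rintro _ ⟨o, ho, c, hc', rfl⟩
    refine ⟨o⁻¹, O.inv_mem ho, c⁻¹, Z.inv_mem hc', ?_⟩
    rw [mul_inv_rev, hc o⁻¹ (O.inv_mem ho) c⁻¹ (Z.inv_mem hc')]

theorem mem_KK {O Z : Subgroup G} {hc : ∀ o ∈ O, ∀ c ∈ Z, c * o = o * c} {g : G} :
    g ∈ KK O Z hc ↔ ∃ o ∈ O, ∃ c ∈ Z, g = o * c := Iff.rfl

/-- The local data at a central involution of a dihedral Sylow 2-subgroup. -/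
structure Pre (S O : Subgroup G) (σ τ t : G) : Prop where
  ht : orderOf t = 2
  htZ : ∀ x ∈ S, x * t = t * x
  σ_mem : σ ∈ S
  τ_mem : τ ∈ S
  ord_τ : orderOf τ = 2
  rel : τ * σ * τ⁻¹ = σ⁻¹
  cases : ∀ x ∈ S, x ∈ Subgroup.zpowers σ ∨ x * τ ∈ Subgroup.zpowers σ
  τ_not : τ ∉ Subgroup.zpowers σ
  t_mem : t ∈ Subgroup.zpowers σ
  invol : ∀ c ∈ Subgroup.zpowers σ, c * c = 1 → c = 1 ∨ c = t
  cenO : ∀ y ∈ O, σ * y = y * σ
  invO : ∀ y ∈ O, τ * y * τ⁻¹ = y⁻¹
  O_le : ∀ y ∈ O, y * t = t * y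
  odd : Odd (Nat.card O)
  pS : ∃ a : ℕ, Nat.card S = 2 ^ a
  dec : ∀ g, g * t = t * g → ∃ o ∈ O, ∃ x ∈ S, g = o * x
  hc : ∀ y ∈ O, y ≠ 1 → ∀ g, g * y = y * g → g * t = t * g
  conj : ∀ x y : G, orderOf x = 2 → orderOf y = 2 → IsConj x y

namespace Pre

variable {S O : Subgroup G} {σ τ t : G}

theorem Z_le (p : Pre S O σ τ t) : Subgroup.zpowers σ ≤ S := by
  rw [Subgroup.zpowers_le]; exact p.σ_mem

theorem pow_O {y : G} (hy : y ∈ O) : y ^ Nat.card O = 1 := by
  have := pow_card_eq_one' (x := (⟨y, hy⟩ : O))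
  exact congrArg Subtype.val this

theorem pow_S {y : G} (hy : y ∈ S) : y ^ Nat.card S = 1 := by
  have := pow_card_eq_one' (x := (⟨y, hy⟩ : S))
  exact congrArg Subtype.val this

theorem inf_OS (p : Pre S O σ τ t) {y : G} (hO : y ∈ O) (hS : y ∈ S) : y = 1 := by
  obtain ⟨a, ha⟩ := p.pS
  apply eq_one_of_coprime_pow _ (pow_O hO) (pow_S hS)
  rw [ha]
  exact Nat.Coprime.pow_right a (Nat.coprime_two_right.2 p.odd)

theorem comm_OZ (p : Pre S O σ τ t) : ∀ o ∈ O, ∀ c ∈ Subgroup.zpowers σ, c * o = o * c := by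
  intro o ho c hc
  obtain ⟨k, rfl⟩ := Subgroup.mem_zpowers_iff.1 hc
  exact ((show Commute σ o from p.cenO o ho).zpow_left k).eq

theorem comm_O (p : Pre S O σ τ t) : ∀ x ∈ O, ∀ y ∈ O, x * y = y * x := comm_of_inverts p.invO

theorem comm_Z : ∀ x ∈ Subgroup.zpowers σ, ∀ y ∈ Subgroup.zpowers σ, x * y = y * x := by
  intro x hx y hy
  obtain ⟨k, hk⟩ := Subgroup.mem_zpowers_iff.1 hx
  obtain ⟨l, hl⟩ := Subgroup.mem_zpowers_iff.1 hy
  rw [← hk, ← hl, ← zpow_add, ← zpow_add, add_comm]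

theorem invZ (p : Pre S O σ τ t) : ∀ c ∈ Subgroup.zpowers σ, τ * c * τ⁻¹ = c⁻¹ := by
  intro c hc
  obtain ⟨k, rfl⟩ := Subgroup.mem_zpowers_iff.1 hc
  rw [← conj_zpow, p.rel, inv_zpow]

/-- the subgroup `K`. -/
abbrev K (p : Pre S O σ τ t) : Subgroup G := KK O (Subgroup.zpowers σ) p.comm_OZ

theorem comm_K (p : Pre S O σ τ t) : ∀ x ∈ p.K, ∀ y ∈ p.K, x * y = y * x := by
  rintro _ ⟨o, ho, c, hc, rfl⟩ _ ⟨o', ho', c', hc', rfl⟩
  calc o * c * (o' * c') = o * (c * o') * c' := by group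
    _ = o * (o' * c) * c' := by rw [p.comm_OZ o' ho' c hc]
    _ = (o * o') * (c * c') := by group
    _ = (o' * o) * (c' * c) := by rw [p.comm_O o ho o' ho', comm_Z c hc c' hc']
    _ = o' * (o * c') * c := by group
    _ = o' * (c' * o) * c := by rw [p.comm_OZ o ho c' hc']
    _ = _ := by group

theorem inv_K (p : Pre S O σ τ t) : ∀ x ∈ p.K, τ * x * τ⁻¹ = x⁻¹ := by
  rintro _ ⟨o, ho, c, hc, rfl⟩
  calc τ * (o * c) * τ⁻¹ = (τ * o * τ⁻¹) * (τ * c * τ⁻¹) := by group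
    _ = o⁻¹ * c⁻¹ := by rw [p.invO o ho, p.invZ c hc]
    _ = c⁻¹ * o⁻¹ := (p.comm_OZ _ (O.inv_mem ho) _ (Subgroup.inv_mem _ hc)).symm
    _ = (o * c)⁻¹ := by rw [mul_inv_rev]

theorem O_le_K (p : Pre S O σ τ t) {y : G} (hy : y ∈ O) : y ∈ p.K :=
  ⟨y, hy, 1, Subgroup.one_mem _, by simp⟩

theorem t_mem_K (p : Pre S O σ τ t) : t ∈ p.K := ⟨1, O.one_mem, t, p.t_mem, by simp⟩

theorem invol_K (p : Pre S O σ τ t) {x : G} (hx : x ∈ p.K) (h2 : x * x = 1) : x = 1 ∨ x = t := by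
  obtain ⟨o, ho, c, hc, rfl⟩ := hx
  have h3 : (o * o) * (c * c) = 1 := by
    calc (o * o) * (c * c) = o * (o * c) * c := by group
      _ = o * (c * o) * c := by rw [p.comm_OZ o ho c hc]
      _ = o * c * (o * c) := by group
      _ = 1 := h2
  have h4 : o * o = (c * c)⁻¹ := eq_inv_of_mul_eq_one_left h3
  have h5 : o * o = 1 := by
    apply p.inf_OS (O.mul_mem ho ho)
    rw [h4]
    exact S.inv_mem (S.mul_mem (p.Z_le hc) (p.Z_le hc))
  have h6 : o = 1 := by
    apply eq_one_of_coprime_pow (Nat.coprime_two_right.2 p.odd) (pow_O ho)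
    rw [pow_two]; exact h5
  rw [h5, one_mul] at h3
  rw [h6, one_mul]
  exact p.invol c hc h3

theorem hH (p : Pre S O σ τ t) : ∀ g, g * t = t * g → g ∈ p.K ∨ g * τ ∈ p.K := by
  intro g hg
  obtain ⟨o, ho, x, hx, rfl⟩ := p.dec g hg
  rcases p.cases x hx with h1 | h1
  · left; exact ⟨o, ho, x, h1, rfl⟩
  · right; exact ⟨o, ho, x * τ, h1, by group⟩

theorem mem_O_of_odd (p : Pre S O σ τ t) {x : G} (hx : x ∈ p.K) (hodd : Odd (orderOf x)) :
    x ∈ O := by
  obtain ⟨o, ho, c, hc, rfl⟩ := hx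
  have h1 := pow_orderOf_eq_one (o * c)
  rw [(show Commute o c from (p.comm_OZ o ho c hc).symm).mul_pow] at h1
  have h2 : c ^ orderOf (o * c) = (o ^ orderOf (o * c))⁻¹ := eq_inv_of_mul_eq_one_right h1
  have h3 : c ^ orderOf (o * c) = 1 := by
    apply p.inf_OS
    · rw [h2]; exact O.inv_mem (O.pow_mem ho _)
    · exact S.pow_mem (p.Z_le hc) _
  obtain ⟨a, ha⟩ := p.pS
  have h4 : c = 1 := by
    apply eq_one_of_coprime_pow _ h3 (pow_S (p.Z_le hc))
    rw [ha]
    exact Nat.Coprime.pow_right a (Nat.coprime_two_right.2 hodd)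
  rw [h4, mul_one]
  exact ho

theorem t_not_O (p : Pre S O σ τ t) : t ∉ O := fun h =>
  ne_one_of_orderOf_two p.ht (p.inf_OS h (p.Z_le p.t_mem))

theorem hTI [Finite G] (p : Pre S O σ τ t) : ∀ g x, x ∈ p.K → g * x * g⁻¹ ∈ p.K → x ≠ 1 →
    g * t = t * g := by
  intro g x hx hgx hx1
  have hτ' : τ⁻¹ = τ := inv_of_orderOf_two p.ord_τ
  rcases Nat.even_or_odd (orderOf x) with he | ho
  · obtain ⟨k, hk⟩ := he
    have hpos := orderOf_pos x
    have h1 : x ^ k * x ^ k = 1 := by rw [← pow_add, ← hk, pow_orderOf_eq_one]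
    have h2 : x ^ k ≠ 1 := pow_ne_one_of_lt_orderOf (by omega) (by omega)
    have h3 : x ^ k = t := (p.invol_K (Subgroup.pow_mem _ hx k) h1).resolve_left h2
    have h4 : (g * x * g⁻¹) ^ k = g * t * g⁻¹ := by rw [conj_pow, h3]
    have h5 : g * t * g⁻¹ ∈ p.K := by rw [← h4]; exact Subgroup.pow_mem _ hgx k
    have h6 : g * t * g⁻¹ * (g * t * g⁻¹) = 1 := by
      calc g * t * g⁻¹ * (g * t * g⁻¹) = g * (t * t) * g⁻¹ := by group
        _ = 1 := by rw [mul_self_of_orderOf_two p.ht]; group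
    have h7 : g * t * g⁻¹ ≠ 1 := by
      intro e
      apply ne_one_of_orderOf_two p.ht
      have := congrArg (fun z => g⁻¹ * z * g) e
      simpa [mul_assoc] using this
    exact mul_inv_eq_iff_eq_mul.1 ((p.invol_K h5 h6).resolve_left h7)
  · have hxO := p.mem_O_of_odd hx ho
    have hyO : g * x * g⁻¹ ∈ O := by
      apply p.mem_O_of_odd hgx
      have : orderOf (g * x * g⁻¹) = orderOf x := by
        have := (MulAut.conj g).orderOf_eq x
        simpa using this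
      rw [this]; exact ho
    have hy1 : g * x * g⁻¹ ≠ 1 := by
      intro e
      apply hx1
      have := congrArg (fun z => g⁻¹ * z * g) e
      simpa [mul_assoc] using this
    have hcomm : (g * t * g⁻¹) * (g * x * g⁻¹) = (g * x * g⁻¹) * (g * t * g⁻¹) := by
      calc (g * t * g⁻¹) * (g * x * g⁻¹) = g * (t * x) * g⁻¹ := by group
        _ = g * (x * t) * g⁻¹ := by rw [p.O_le x hxO]
        _ = _ := by group
    have h1 := p.hc _ hyO hy1 _ hcomm
    have h6 : g * t * g⁻¹ * (g * t * g⁻¹) = 1 := by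
      calc g * t * g⁻¹ * (g * t * g⁻¹) = g * (t * t) * g⁻¹ := by group
        _ = 1 := by rw [mul_self_of_orderOf_two p.ht]; group
    have h7 : g * t * g⁻¹ ≠ 1 := by
      intro e
      apply ne_one_of_orderOf_two p.ht
      have := congrArg (fun z => g⁻¹ * z * g) e
      simpa [mul_assoc] using this
    rcases p.hH _ h1 with h2 | h2
    · exact mul_inv_eq_iff_eq_mul.1 ((p.invol_K h2 h6).resolve_left h7)
    · exfalso
      obtain ⟨y, hy⟩ : ∃ y, y = g * x * g⁻¹ := ⟨_, rfl⟩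
      obtain ⟨t', ht'⟩ : ∃ t', t' = g * t * g⁻¹ := ⟨_, rfl⟩
      rw [← hy] at hyO hy1 hcomm
      rw [← ht'] at hcomm h2
      have hyK := p.O_le_K hyO
      have e1 : t' * y * t'⁻¹ = (t' * τ) * (τ * y * τ⁻¹) * (t' * τ)⁻¹ := by
        have : (t' * τ) * (τ * y * τ⁻¹) * (t' * τ)⁻¹ = t' * (τ * τ) * y * (τ⁻¹ * τ⁻¹) * t'⁻¹ := by
          group
        rw [this, hτ', mul_self_of_orderOf_two p.ord_τ]
        group
      rw [p.inv_K y hyK, p.comm_K _ h2 _ (Subgroup.inv_mem _ hyK), mul_inv_cancel_right, hcomm,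
        mul_inv_cancel_right] at e1
      have e2 : y * y = 1 := by
        nth_rewrite 1 [e1]
        exact inv_mul_cancel y
      rcases p.invol_K hyK e2 with e3 | e3
      · exact hy1 e3
      · rw [e3] at hyO
        exact p.t_not_O hyO

theorem bsw [Finite G] (p : Pre S O σ τ t) : BSW t τ p.K where
  ht := p.ht
  comm := p.comm_K
  cen := by
    rintro _ ⟨o, ho, c, hc, rfl⟩
    calc o * c * t = o * (c * t) := by group
      _ = o * (t * c) := by rw [p.htZ c (p.Z_le hc)]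
      _ = (o * t) * c := by group
      _ = (t * o) * c := by rw [p.O_le o ho]
      _ = _ := by group
  htK := p.t_mem_K
  hs := p.ord_τ
  hst := p.htZ τ p.τ_mem
  hsK := by
    rintro ⟨o, ho, c, hc, e⟩
    have h1 : o = τ * c⁻¹ := by rw [e]; group
    have h2 : o = 1 := by
      apply p.inf_OS ho
      rw [h1]
      exact S.mul_mem p.τ_mem (S.inv_mem (p.Z_le hc))
    rw [h2, one_mul] at e
    exact p.τ_not (e ▸ hc)
  hH := p.hH
  hCK := by
    intro x hx hxs
    apply p.invol_K hx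
    have h1 := p.inv_K x hx
    rw [← hxs, mul_inv_cancel_right] at h1
    nth_rewrite 1 [h1]
    exact inv_mul_cancel x
  hinv := p.inv_K
  hTI := p.hTI
  conj := p.conj

theorem exists_psl [Finite G] [IsSimpleGroup G] (p : Pre S O σ τ t) :
    ∃ (F : Type) (_ : Field F) (_ : Fintype F), Odd (Fintype.card F) ∧
      Nonempty (G ≃* Matrix.ProjectiveSpecialLinearGroup (Fin 2) F) := by
  classical
  have := Fintype.ofFinite G
  have h := p.bsw
  have hE : ¬ (Subgroup.centralizer ({t} : Set G)).Normal := by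
    intro hn
    rcases hn.eq_bot_or_eq_top with e | e
    · have : t ∈ Subgroup.centralizer ({t} : Set G) := mem_cen.2 rfl
      rw [e, Subgroup.mem_bot] at this
      exact h.t_ne this
    · have hcen : ∀ g : G, g * t = t * g := by
        intro g
        have : g ∈ Subgroup.centralizer ({t} : Set G) := by rw [e]; exact Subgroup.mem_top g
        exact mem_cen.1 this
      have hn2 : (Subgroup.zpowers t).Normal := by
        constructor
        intro x hx g
        rcases (mem_zpowers_invol h.ht).1 hx with rfl | rfl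
        · simp
        · rw [hcen g, mul_inv_cancel_right]; exact hx
      rcases hn2.eq_bot_or_eq_top with e2 | e2
      · have : t ∈ Subgroup.zpowers t := Subgroup.mem_zpowers t
        rw [e2, Subgroup.mem_bot] at this
        exact h.t_ne this
      · have : τ ∈ Subgroup.zpowers t := by rw [e2]; exact Subgroup.mem_top τ
        rcases (mem_zpowers_invol h.ht).1 this with e3 | e3
        · exact ne_one_of_orderOf_two h.hs e3
        · exact p.τ_not (e3 ▸ p.t_mem)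
  obtain ⟨Q, D, u, z⟩ := h.exists_zd hE
  exact z.exists_psl

end Pre

end BSW

end Cfsg.Agent.Lib.Helper75
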