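import Mathlib
import Cfsg.Agent.Lib.Helper75.BSW18
import Cfsg.Agent.Lib.Helper75.DihD8
import Cfsg.Agent.Lib.Helper75.DihMk
import Cfsg.Agent.Lib.Helper55.SylowTwo
import Cfsg.Agent.Lib.Lead.Cores
import Cfsg.Agent.S0514
import Cfsg.Agent.S0111

/-!
# The local data at a central involution of a dihedral Sylow 2-subgroup (helper75)
-/

set_option autoImplicit false

namespace Cfsg.Agent.Lib.Helper75

open Cfsg

namespace BSW

variable {G : Type*} [Group G] [Finite G]

/-- the centralizer of `t` is the product of its core and the Sylow subgroup. -/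
theorem dec_of_dihedral (S : Sylow 2 G) (n : ℕ) (hn : 2 ≤ n)
    (hS : Nonempty ((S : Subgroup G) ≃* DihedralGroup n)) (t : G) (ht : orderOf t = 2)
    (htZ : ∀ s ∈ (S : Subgroup G), s * t = t * s) (O : Subgroup G)
    (hO : O = (Cfsg.oddCore (Subgroup.centralizer ({t} : Set G))).map
      (Subgroup.centralizer ({t} : Set G)).subtype) :
    ∀ g, g * t = t * g → ∃ o ∈ O, ∃ x ∈ (S : Subgroup G), g = o * x := by
  have hSC : (S : Subgroup G) ≤ Subgroup.centralizer ({t} : Set G) :=
    fun x hx => mem_cen.2 (htZ x hx)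
  obtain ⟨C, hC⟩ : ∃ C, C = Subgroup.centralizer ({t} : Set G) := ⟨_, rfl⟩
  have hres : ∃ N : Subgroup C, N.Normal ∧ Odd (Nat.card N) ∧ ∃ k : ℕ, N.index = 2 ^ k := by
    subst hC
    exact Cfsg.Agent.S0514.result S n hn hS t ht
  rw [← hC] at hSC hO
  obtain ⟨N, hN, hodd, k, hk⟩ := hres
  have hNW : N ≤ Cfsg.oddCore C :=
    Cfsg.Agent.Lib.Lead.le_pPrimeCore hN (Nat.coprime_two_right.2 hodd)
  obtain ⟨S', hS'⟩ : ∃ S' : Subgroup C, S' = (S : Subgroup G).subgroupOf C := ⟨_, rfl⟩
  have hS'c : Nat.card S' = Nat.card (S : Subgroup G) := by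
    rw [hS']; exact Cfsg.Agent.Lib.Helper1.card_subgroupOf hSC
  have hnorm : S' ≤ Subgroup.normalizer (N : Set C) := by
    rw [Subgroup.normalizer_eq_top]; exact le_top
  obtain ⟨a, ha⟩ := (IsPGroup.iff_card.1 S.2 : ∃ a, Nat.card (S : Subgroup G) = 2 ^ a)
  have hdis : Disjoint S' N := by
    apply Subgroup.disjoint_of_coprime_natCard
    rw [hS'c, ha]
    exact Nat.Coprime.pow_left a (Nat.coprime_two_left.2 hodd)
  have h1 := Cfsg.Agent.Lib.Helper1.card_sup_of_disjoint hnorm hdis
  have hcard : Nat.card N * 2 ^ k = Nat.card C := by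
    rw [← hk]; exact N.card_mul_index
  have h4 : 2 ^ k ∣ Nat.card G :=
    (Dvd.intro_left _ hcard).trans (Subgroup.card_subgroup_dvd_card _)
  have h5 : k ≤ (Nat.card G).factorization 2 :=
    (Nat.Prime.pow_dvd_iff_le_factorization Nat.prime_two Nat.card_pos.ne').1 h4
  have h6 : 2 ^ k ≤ Nat.card (S : Subgroup G) := by
    have : Nat.card (S : Subgroup G) = 2 ^ (Nat.card G).factorization 2 := S.card_eq_multiplicity
    rw [this]
    exact Nat.pow_le_pow_right (by norm_num) h5
  have htop : S' ⊔ N = ⊤ := by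
    apply Subgroup.eq_top_of_le_card
    rw [h1, hS'c, ← hcard, mul_comm]
    exact Nat.mul_le_mul_right _ h6
  intro g hg
  have hgC : g ∈ C := by rw [hC]; exact mem_cen.2 hg
  have hmem : (⟨g, hgC⟩ : C) ∈ N ⊔ S' := by
    rw [sup_comm, htop]; exact Subgroup.mem_top _
  obtain ⟨o, ho, x, hx, e⟩ := exists_mul_of_mem_sup hnorm hmem
  refine ⟨o, ?_, x, ?_, congrArg Subtype.val e⟩
  · rw [hO]
    exact Subgroup.mem_map.2 ⟨o, hNW ho, rfl⟩
  · rw [hS'] at hx
    exact Subgroup.mem_subgroupOf.1 hx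

theorem odd_core (t : G) (O : Subgroup G)
    (hO : O = (Cfsg.oddCore (Subgroup.centralizer ({t} : Set G))).map
      (Subgroup.centralizer ({t} : Set G)).subtype) : Odd (Nat.card O) := by
  rw [hO, Subgroup.card_map_of_injective (Subgroup.subtype_injective _)]
  exact Nat.coprime_two_right.1 (Cfsg.Agent.Lib.Lead.card_pPrimeCore_coprime 2)

omit [Finite G] in
theorem core_le (t : G) (O : Subgroup G)
    (hO : O = (Cfsg.oddCore (Subgroup.centralizer ({t} : Set G))).map
      (Subgroup.centralizer ({t} : Set G)).subtype) : ∀ y ∈ O, y * t = t * y := by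
  intro y hy
  rw [hO] at hy
  exact mem_cen.1 (Subgroup.map_subtype_le _ hy)

theorem mk_pre [IsSimpleGroup G] (S : Sylow 2 G) (n : ℕ)
    (hn : 2 ≤ n) (hS : Nonempty ((S : Subgroup G) ≃* DihedralGroup n)) (t : G) (ht : orderOf t = 2)
    (htZ : ∀ s ∈ (S : Subgroup G), s * t = t * s) (O : Subgroup G)
    (hO : O = (Cfsg.oddCore (Subgroup.centralizer ({t} : Set G))).map
      (Subgroup.centralizer ({t} : Set G)).subtype)
    (hb : ∀ s ∈ (S : Subgroup G), s ∉ Subgroup.centralizer (O : Set G) → ∀ y ∈ O, s * y * s⁻¹ = y⁻¹)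
    (hc : ∀ Y : Subgroup G, Y ≤ O → Y ≠ ⊥ →
      Subgroup.normalizer (Y : Set G) ≤ Subgroup.centralizer ({t} : Set G))
    (σ τ : G) (σ_mem : σ ∈ (S : Subgroup G)) (τ_mem : τ ∈ (S : Subgroup G))
    (ord_σ : orderOf σ = n) (ord_τ : orderOf τ = 2) (rel : τ * σ * τ⁻¹ = σ⁻¹)
    (τ_not : τ ∉ Subgroup.zpowers σ) (t_mem : t ∈ Subgroup.zpowers σ)
    (invol : ∀ c ∈ Subgroup.zpowers σ, c * c = 1 → c = 1 ∨ c = t)
    (hA : O ≠ ⊥ → (S : Subgroup G) ⊓ Subgroup.centralizer (O : Set G) = Subgroup.zpowers σ) :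
    Pre (S : Subgroup G) O σ τ t := by
  have hle : Subgroup.zpowers σ ≤ (S : Subgroup G) := by
    rw [Subgroup.zpowers_le]; exact σ_mem
  obtain ⟨e⟩ := hS
  have : NeZero n := ⟨by omega⟩
  have hcardS : Nat.card (S : Subgroup G) = 2 * n := by
    rw [Nat.card_congr e.toEquiv, DihedralGroup.nat_card]
  have hrel : (Subgroup.zpowers σ).relIndex (S : Subgroup G) = 2 := by
    have h1 := Cfsg.Agent.Lib.Helper1.relIndex_mul_card hle
    rw [Nat.card_zpowers, ord_σ, hcardS] at h1
    exact Nat.eq_of_mul_eq_mul_right (by omega) h1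
  have hno : ∀ M : Subgroup G, M.Normal → M.index ≠ 2 := by
    intro M hM hi
    rcases hM.eq_bot_or_eq_top with rfl | rfl
    · rw [Subgroup.index_bot] at hi
      have := Subgroup.card_subgroup_dvd_card (S : Subgroup G)
      rw [hi, hcardS] at this
      have := Nat.le_of_dvd (by norm_num) this
      omega
    · rw [Subgroup.index_top] at hi
      omega
  have hconj_t : ∀ x : G, orderOf x = 2 → IsConj x t := by
    intro x hx
    have hpg : IsPGroup 2 (Subgroup.zpowers x) := by
      apply IsPGroup.of_card (n := 1); rw [Nat.card_zpowers, hx, pow_one]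
    obtain ⟨g, hg⟩ := Cfsg.Agent.Lib.Helper55.exists_conj_mem_sylow S _ hpg
    have hp := hg x (Subgroup.mem_zpowers x)
    have hxp : IsConj x (g * x * g⁻¹) := isConj_iff.2 ⟨g, rfl⟩
    have ho : orderOf (g * x * g⁻¹) = 2 := by
      have := (MulAut.conj g).orderOf_eq x
      rw [← hx]
      simpa using this
    by_cases hz : g * x * g⁻¹ ∈ Subgroup.zpowers σ
    · rcases invol _ hz (mul_self_of_orderOf_two ho) with e1 | e1
      · exact absurd e1 (ne_one_of_orderOf_two ho)
      · rw [← e1]; exact hxp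
    · rcases Cfsg.Agent.S0111.result S (Subgroup.zpowers σ) hle hrel _ ho hp hz with
        ⟨M, hM, hMi, -⟩ | ⟨k, hk⟩
      · exact absurd hMi (hno M hM)
      · have ho2 : orderOf (k * (g * x * g⁻¹) * k⁻¹) = 2 := by
          have := (MulAut.conj k).orderOf_eq (g * x * g⁻¹)
          rw [← ho]
          simpa using this
        rcases invol _ hk (mul_self_of_orderOf_two ho2) with e1 | e1
        · exact absurd e1 (ne_one_of_orderOf_two ho2)
        · rw [← e1]
          exact hxp.trans (isConj_iff.2 ⟨k, rfl⟩)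
  have hOle := core_le t O hO
  refine
    { ht := ht
      htZ := htZ
      σ_mem := σ_mem
      τ_mem := τ_mem
      ord_τ := ord_τ
      rel := rel
      cases := ?_
      τ_not := τ_not
      t_mem := t_mem
      invol := invol
      cenO := ?_
      invO := ?_
      O_le := hOle
      odd := odd_core t O hO
      pS := IsPGroup.iff_card.1 S.2
      dec := dec_of_dihedral S n hn ⟨e⟩ t ht htZ O hO
      hc := ?_
      conj := fun x y hx hy => (hconj_t x hx).trans (hconj_t y hy).symm }
  · intro x hx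
    by_cases hxz : x ∈ Subgroup.zpowers σ
    · exact Or.inl hxz
    · right
      have hidx : ((Subgroup.zpowers σ).subgroupOf (S : Subgroup G)).index = 2 := hrel
      have := (Subgroup.mul_mem_iff_of_index_two hidx
        (a := (⟨x, hx⟩ : (S : Subgroup G))) (b := ⟨τ, τ_mem⟩)).2
        ⟨fun h => absurd (Subgroup.mem_subgroupOf.1 h) hxz,
         fun h => absurd (Subgroup.mem_subgroupOf.1 h) τ_not⟩
      exact Subgroup.mem_subgroupOf.1 this
  · intro y hy
    by_cases hOb : O = ⊥
    · rw [hOb, Subgroup.mem_bot] at hy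
      rw [hy]; simp
    · have h1 : σ ∈ (S : Subgroup G) ⊓ Subgroup.centralizer (O : Set G) := by
        rw [hA hOb]; exact Subgroup.mem_zpowers σ
      exact ((Subgroup.mem_centralizer_iff.1 (Subgroup.mem_inf.1 h1).2) y hy).symm
  · intro y hy
    by_cases hOb : O = ⊥
    · rw [hOb, Subgroup.mem_bot] at hy
      rw [hy]; simp
    · apply hb τ τ_mem _ y hy
      intro h1
      apply τ_not
      rw [← hA hOb]
      exact Subgroup.mem_inf.2 ⟨τ_mem, h1⟩
  · intro y hy hy1 g hg
    have h1 : g ∈ Subgroup.normalizer ((Subgroup.zpowers y : Subgroup G) : Set G) := by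
      have hcomm : ∀ w ∈ Subgroup.zpowers y, g * w = w * g := by
        intro w hw
        obtain ⟨k, rfl⟩ := Subgroup.mem_zpowers_iff.1 hw
        exact ((show Commute g y from hg).zpow_right k).eq
      apply mem_normalizer_of
      · intro w hw
        rw [hcomm w hw, mul_inv_cancel_right]; exact hw
      · intro w hw
        rw [mul_assoc, ← hcomm w hw, inv_mul_cancel_left]; exact hw
    have h2 := hc (Subgroup.zpowers y) (by rw [Subgroup.zpowers_le]; exact hy)
      (by rw [Ne, Subgroup.zpowers_eq_bot]; exact hy1) h1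
    exact mem_cen.1 h2

end BSW

end Cfsg.Agent.Lib.Helper75
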