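import Mathlib
import Cfsg.Agent.Lib.Helper75.BSW19

/-!
# Simple groups with dihedral Sylow 2-subgroups satisfying the Brauer-Suzuki-Wall hypotheses
(helper75)
-/

set_option autoImplicit false

namespace Cfsg.Agent.Lib.Helper75

open Cfsg

namespace BSW

variable {G : Type*} [Group G] [Finite G]

theorem exists_pre [IsSimpleGroup G] (S : Sylow 2 G) (n : ℕ)
    (hn : 2 ≤ n) (hS : Nonempty ((S : Subgroup G) ≃* DihedralGroup n)) (t : G) (ht : orderOf t = 2)
    (htS : t ∈ (S : Subgroup G))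
    (htZ : ∀ s ∈ (S : Subgroup G), s * t = t * s) (O : Subgroup G)
    (hO : O = (Cfsg.oddCore (Subgroup.centralizer ({t} : Set G))).map
      (Subgroup.centralizer ({t} : Set G)).subtype)
    (ha : O ≠ ⊥ → IsCyclic ((S : Subgroup G) ⊓ Subgroup.centralizer (O : Set G) : Subgroup G) ∧
      ((S : Subgroup G) ⊓ Subgroup.centralizer (O : Set G)).relIndex (S : Subgroup G) = 2)
    (hb : ∀ s ∈ (S : Subgroup G), s ∉ Subgroup.centralizer (O : Set G) → ∀ y ∈ O, s * y * s⁻¹ = y⁻¹)
    (hc : ∀ Y : Subgroup G, Y ≤ O → Y ≠ ⊥ →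
      Subgroup.normalizer (Y : Set G) ≤ Subgroup.centralizer ({t} : Set G)) :
    ∃ σ τ, Pre (S : Subgroup G) O σ τ t := by
  have hS' := hS
  obtain ⟨e⟩ := hS
  have : NeZero n := ⟨by omega⟩
  have hcardS : Nat.card (S : Subgroup G) = 2 * n := by
    rw [Nat.card_congr e.toEquiv, DihedralGroup.nat_card]
  obtain ⟨a, ha2⟩ := (IsPGroup.iff_card.1 S.2 : ∃ a, Nat.card (S : Subgroup G) = 2 ^ a)
  have hpow : ∃ e' : ℕ, n = 2 ^ e' := by
    rw [hcardS] at ha2
    rcases a with _ | a
    · omega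
    · exact ⟨a, by rw [pow_succ'] at ha2; omega⟩
  have htt := mul_self_of_orderOf_two ht
  have ht1 := ne_one_of_orderOf_two ht
  have hAS : (S : Subgroup G) ⊓ Subgroup.centralizer (O : Set G) ≤ (S : Subgroup G) := inf_le_left
  have hAc : O ≠ ⊥ →
      Nat.card ((S : Subgroup G) ⊓ Subgroup.centralizer (O : Set G) : Subgroup G) = n := by
    intro hOb
    have h1 := Cfsg.Agent.Lib.Helper1.relIndex_mul_card hAS
    rw [(ha hOb).2, hcardS] at h1
    omega
  by_cases h4 : 4 ≤ n
  · obtain ⟨σ, hσ⟩ : ∃ σ : G, σ = ((e.symm (DihedralGroup.r 1) : (S : Subgroup G)) : G) :=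
      ⟨_, rfl⟩
    have σ_mem : σ ∈ (S : Subgroup G) := by rw [hσ]; exact (e.symm _).2
    have ord_σ : orderOf σ = n := by
      rw [hσ, Subgroup.orderOf_coe, MulEquiv.orderOf_eq, DihedralGroup.orderOf_r_one]
    obtain ⟨τ, dh⟩ := DihS.of_iso (S : Subgroup G) σ n h4 hpow σ_mem ord_σ ⟨e⟩
    have t_mem : t ∈ Subgroup.zpowers σ :=
      dh.mem_zpowers_of_comm htS (Subgroup.mem_zpowers σ) dh.σ_sq_ne (htZ σ σ_mem).symm
    have tJ : t = σ ^ (n / 2) := (dh.sq_eq_one_cases t_mem htt).resolve_left ht1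
    refine ⟨σ, τ, mk_pre S n hn hS' t ht htZ O hO hb hc σ τ σ_mem dh.τ_mem ord_σ dh.ord_τ dh.rel
      dh.τ_not_mem t_mem (fun c hc h2 => by rw [tJ]; exact dh.sq_eq_one_cases hc h2) ?_⟩
    intro hOb
    obtain ⟨g, hg⟩ := (ha hOb).1.exists_generator
    have hgo : orderOf (g : G) = n := by
      rw [Subgroup.orderOf_coe, orderOf_eq_card_of_forall_mem_zpowers hg, hAc hOb]
    have hgg : (g : G) * (g : G) ≠ 1 := by
      intro e1
      have := orderOf_dvd_of_pow_eq_one (show (g : G) ^ 2 = 1 by rw [pow_two]; exact e1)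
      rw [hgo] at this
      have := Nat.le_of_dvd (by norm_num) this
      omega
    have hgz : (g : G) ∈ Subgroup.zpowers σ := dh.mem_zpowers_of_sq (hAS g.2) hgg
    have hz : Subgroup.zpowers (g : G) = Subgroup.zpowers σ :=
      Subgroup.eq_of_le_of_card_ge (Subgroup.zpowers_le.2 hgz)
        (by rw [Nat.card_zpowers, Nat.card_zpowers, hgo, ord_σ])
    apply le_antisymm
    · intro x hx
      obtain ⟨k, hk⟩ := Subgroup.mem_zpowers_iff.1 (hg ⟨x, hx⟩)
      rw [← hz]
      refine Subgroup.mem_zpowers_iff.2 ⟨k, ?_⟩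
      have := congrArg Subtype.val hk
      simpa using this
    · rw [← hz, Subgroup.zpowers_le]; exact g.2
  · have hn2 : n = 2 := by
      obtain ⟨e', he'⟩ := hpow
      rcases e' with _ | _ | e'
      · omega
      · omega
      · exfalso
        apply h4
        rw [he', pow_succ, pow_succ]
        have : 0 < 2 ^ e' := by positivity
        omega
    subst hn2
    have hexp : ∀ x ∈ (S : Subgroup G), x * x = 1 := by
      intro x hx
      have h1 : e ⟨x, hx⟩ * e ⟨x, hx⟩ = 1 := (by decide : ∀ d : DihedralGroup 2, d * d = 1) _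
      rw [← map_mul] at h1
      have h2 := e.injective (h1.trans (map_one e).symm)
      exact congrArg Subtype.val h2
    have hzle : Subgroup.zpowers t ≤ (S : Subgroup G) := Subgroup.zpowers_le.2 htS
    have hlt : Subgroup.zpowers t < (S : Subgroup G) := by
      apply lt_of_le_of_ne hzle
      intro e1
      have := congrArg (fun H : Subgroup G => Nat.card H) e1
      simp only [Nat.card_zpowers, ht, hcardS] at this
      omega
    obtain ⟨τ, τ_mem, τ_not⟩ := SetLike.exists_of_lt hlt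
    have τ1 : τ ≠ 1 := by
      rintro rfl
      exact τ_not (Subgroup.one_mem _)
    refine ⟨t, τ, mk_pre S 2 hn hS' t ht htZ O hO hb hc t τ htS τ_mem ht
      (orderOf_two_of (hexp τ τ_mem) τ1)
      (by rw [htZ τ τ_mem, mul_inv_cancel_right, inv_of_orderOf_two ht]) τ_not
      (Subgroup.mem_zpowers t) (fun c hc _ => (mem_zpowers_invol ht).1 hc) ?_⟩
    intro hOb
    symm
    apply Subgroup.eq_of_le_of_card_ge
    · rw [Subgroup.zpowers_le, Subgroup.mem_inf]
      refine ⟨htS, ?_⟩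
      rw [Subgroup.mem_centralizer_iff]
      intro y hy
      exact core_le t O hO y hy
    · rw [hAc hOb, Nat.card_zpowers, ht]

/-- Simple groups with dihedral Sylow 2-subgroups satisfying the Brauer-Suzuki-Wall hypotheses. -/
theorem psl_of_dihedral [IsSimpleGroup G] (S : Sylow 2 G) (n : ℕ)
    (hn : 2 ≤ n) (hS : Nonempty ((S : Subgroup G) ≃* DihedralGroup n)) (t : G) (ht : orderOf t = 2)
    (htS : t ∈ (S : Subgroup G))
    (htZ : ∀ s ∈ (S : Subgroup G), s * t = t * s) (O : Subgroup G)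
    (hO : O = (Cfsg.oddCore (Subgroup.centralizer ({t} : Set G))).map
      (Subgroup.centralizer ({t} : Set G)).subtype)
    (ha : O ≠ ⊥ → IsCyclic ((S : Subgroup G) ⊓ Subgroup.centralizer (O : Set G) : Subgroup G) ∧
      ((S : Subgroup G) ⊓ Subgroup.centralizer (O : Set G)).relIndex (S : Subgroup G) = 2)
    (hb : ∀ s ∈ (S : Subgroup G), s ∉ Subgroup.centralizer (O : Set G) → ∀ y ∈ O, s * y * s⁻¹ = y⁻¹)
    (hc : ∀ Y : Subgroup G, Y ≤ O → Y ≠ ⊥ →
      Subgroup.normalizer (Y : Set G) ≤ Subgroup.centralizer ({t} : Set G)) :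
    ∃ (F : Type) (_ : Field F) (_ : Fintype F), Odd (Fintype.card F) ∧
      Nonempty (G ≃* Matrix.ProjectiveSpecialLinearGroup (Fin 2) F) := by
  obtain ⟨σ, τ, p⟩ := exists_pre S n hn hS t ht htS htZ O hO ha hb hc
  exact p.exists_psl

end BSW

end Cfsg.Agent.Lib.Helper75
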