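import Mathlib
import Cfsg.Agent.Lib.Helper75.TIC2
import Cfsg.Agent.Lib.Helper3.BendF
import Cfsg.Agent.Lib.Helper54.Dihedral
import Cfsg.Agent.S0041

/-!
# Bender's counting lemma, piece B2c: `M` cyclic and `N(M)` dihedral
-/

set_option autoImplicit false
set_option linter.unusedSectionVars false
set_option linter.unusedVariables false

namespace Cfsg.Agent.Lib.Helper75.Bend

variable {G : Type*} [Group G] [Finite G] {M : Subgroup G} {z : G}

theorem isCyclic_of_E (h : TIC M z) (E : Subgroup G) (hE : E.Normal) (hE1 : E ≠ ⊥)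
    (hE2 : IsPGroup 2 E) : IsCyclic ↥M := by
  have : Fact (Nat.Prime 2) := ⟨Nat.prime_two⟩
  have : Nontrivial E := (Subgroup.nontrivial_iff_ne_bot E).2 hE1
  have hcn : Nontrivial (Subgroup.center E) := hE2.center_nontrivial
  obtain ⟨c, hc⟩ := exists_ne (1 : Subgroup.center E)
  let V : Subgroup G := E ⊓ Subgroup.centralizer (E : Set G)
  have hVc : ∀ a ∈ V, ∀ b ∈ V, a * b = b * a := by
    intro a ha b hb
    exact (Subgroup.mem_centralizer_iff.1 hb.2 a ha.1)
  have : IsMulCommutative V := ⟨⟨fun a b => Subtype.ext (hVc a.1 a.2 b.1 b.2)⟩⟩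
  have hV : V ≠ ⊥ := by
    intro e
    apply hc
    have hmem : ((c : E) : G) ∈ V := by
      refine Subgroup.mem_inf.2 ⟨(c : E).2, ?_⟩
      rw [Subgroup.mem_centralizer_iff]
      intro x hx
      have := Subgroup.mem_center_iff.1 c.2 ⟨x, hx⟩
      exact congrArg Subtype.val this
    rw [e, Subgroup.mem_bot] at hmem
    apply Subtype.ext
    apply Subtype.ext
    exact hmem
  have hVn : ∀ g : G, ∀ v ∈ V, g * v * g⁻¹ ∈ V := by
    intro g v hv
    refine Subgroup.mem_inf.2 ⟨hE.conj_mem v hv.1 g, ?_⟩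
    rw [Subgroup.mem_centralizer_iff]
    intro x hx
    have h1 := Subgroup.mem_centralizer_iff.1 hv.2 (g⁻¹ * x * g) (by
      have := hE.conj_mem x hx g⁻¹
      rwa [inv_inv] at this)
    calc x * (g * v * g⁻¹) = g * ((g⁻¹ * x * g) * v) * g⁻¹ := by group
      _ = g * (v * (g⁻¹ * x * g)) * g⁻¹ := by rw [h1]
      _ = g * v * g⁻¹ * x := by group
  have hAV : M ≤ Subgroup.normalizer (V : Set G) := by
    intro m _
    rw [Subgroup.mem_normalizer_iff]
    intro v
    constructor
    · exact hVn m v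
    · intro hv
      have := hVn m⁻¹ _ hv
      have e : m⁻¹ * (m * v * m⁻¹) * m⁻¹⁻¹ = v := by group
      rwa [e] at this
  have hfpf : ∀ a ∈ M, a ≠ 1 → V ⊓ Subgroup.centralizer {a} = ⊥ := by
    intro a ha ha1
    rw [Subgroup.eq_bot_iff_forall]
    intro e he
    have hcomm : e * a = a * e := by
      have := Subgroup.mem_centralizer_singleton_iff.1 he.2
      exact this
    have hodd := h.odd_order ha ha1 hcomm
    obtain ⟨k, hk⟩ := hE2 ⟨e, he.1.1⟩
    have hk' : e ^ 2 ^ k = 1 := congrArg Subtype.val hk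
    have hd : orderOf e ∣ 2 ^ k := orderOf_dvd_of_pow_eq_one hk'
    have h1 : orderOf e = 1 := by
      have hcop : Nat.Coprime (orderOf e) (2 ^ k) :=
        Nat.Coprime.pow_right _ (Nat.coprime_two_right.2 hodd)
      exact Nat.Coprime.eq_one_of_dvd hcop hd
    exact orderOf_eq_one_iff.1 h1
  have : IsMulCommutative M := ⟨⟨fun a b => Subtype.ext (h.comm a.1 a.2 b.1 b.2)⟩⟩
  exact Cfsg.Agent.S0041.result M V hV hAV hfpf (Or.inl inferInstance)

theorem dihedral_N (h : TIC M z)
    (hD : ∀ n ∈ Subgroup.normalizer (M : Set G), n ∈ M ∨ n * z ∈ M) (hc : IsCyclic ↥M) :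
    Nonempty (↥(Subgroup.normalizer (M : Set G)) ≃* DihedralGroup (Nat.card M)) := by
  obtain ⟨g, hg⟩ := hc.exists_generator
  have hord : orderOf g = Nat.card M := orderOf_eq_card_of_forall_mem_zpowers hg
  have hDz : Subgroup.normalizer (M : Set G) ⊓ Subgroup.centralizer ({z} : Set G)
      = Subgroup.zpowers z := by
    apply le_antisymm
    · intro n hn
      have hnz : n * z = z * n := Subgroup.mem_centralizer_singleton_iff.1 hn.2
      rcases hD n hn.1 with hm | hm
      · have : n = 1 := by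
          by_contra hne
          exact h.not_comm hm hne h.hz hnz.symm
        rw [this]; exact Subgroup.one_mem _
      · have : n * z = 1 := by
          by_contra hne
          apply h.not_comm hm hne h.hz
          rw [← mul_assoc, ← hnz]
        have e : n = z := by
          have := eq_inv_of_mul_eq_one_left this
          rw [this, h.z_inv]
        rw [e]; exact Subgroup.mem_zpowers z
    · rw [Subgroup.zpowers_le]
      exact ⟨h.zN, Subgroup.mem_centralizer_singleton_iff.2 rfl⟩
  have hcard : Nat.card ↥(Subgroup.normalizer (M : Set G)) = 2 * Nat.card M := by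
    rw [Cfsg.Agent.Lib.Helper3.Bend.card_N h, hDz, Nat.card_zpowers, h.hz, mul_comm]
  refine Cfsg.Agent.Lib.Helper54.nonempty_mulEquiv_dihedralGroup (Nat.card M)
    (⟨g.1, le_N g.2⟩ : ↥(Subgroup.normalizer (M : Set G))) ⟨z, h.zN⟩ ?_ ?_ ?_ ?_ hcard
  · rw [← hord, ← Subgroup.orderOf_coe g, ← Subgroup.orderOf_coe]
  · exact Subtype.ext h.z_mul
  · exact Subtype.ext (h.inv_z g.1 g.2)
  · intro hmem
    obtain ⟨k, hk⟩ := Subgroup.mem_zpowers_iff.1 hmem
    have hk' : (g.1 : G) ^ k = z := by
      have := congrArg Subtype.val hk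
      simpa using this
    apply h.z_not_mem
    rw [← hk']
    exact M.zpow_mem g.2 k

end Cfsg.Agent.Lib.Helper75.Bend
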