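import Mathlib
import Cfsg.Agent.Lib.Helper75.D8Cent3
import Cfsg.Agent.Lib.Helper17.Count
import Cfsg.Agent.S3277

/-! Groups with an involution whose centralizer is dihedral of order 8: two classes of involutions. -/

set_option autoImplicit false
set_option linter.unusedSectionVars false

namespace Cfsg.Agent.Lib.Helper75

open Cfsg Cfsg.Agent.Lib.Helper55 Cfsg.Agent.Lib.Lead Cfsg.Agent.Lib.Helper17

theorem mem_of_coprime_order {M : Type*} [Group M] [Finite M] (N : Subgroup M) [N.Normal] (y : M)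
    (h : (orderOf y).Coprime N.index) : y ∈ N := by
  rw [← QuotientGroup.eq_one_iff, ← orderOf_eq_one_iff]
  have h1 : orderOf (QuotientGroup.mk y : M ⧸ N) ∣ orderOf y :=
    orderOf_map_dvd (QuotientGroup.mk' N) y
  have h2 : orderOf (QuotientGroup.mk y : M ⧸ N) ∣ N.index := by
    rw [Subgroup.index_eq_card]; exact orderOf_dvd_natCard _
  exact Nat.dvd_one.1 (h.gcd_eq_one ▸ Nat.dvd_gcd h1 h2)

namespace D8C

variable {G : Type*} [Group G] [Finite G] {T : Sylow 2 G} {σ τ : G}

theorem exists_index_two (H : D8C T σ τ) (c2 : ¬ IsConj (σ ^ (4 / 2)) (σ * τ)) :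
    ∃ M : Subgroup G, M.Normal ∧ M.index = 2 ∧ σ * τ ∉ M := by
  have hle : Subgroup.zpowers σ ≤ (T : Subgroup G) := by
    rw [Subgroup.zpowers_le]; exact H.dih.σ_mem
  have huu : (σ * τ) * (σ * τ) = 1 := H.dih.cτ_sq (Subgroup.mem_zpowers σ)
  have hu1 : σ * τ ≠ 1 := by
    intro h1; apply H.dih.στ_not_mem; rw [h1]; exact one_mem _
  have huo : orderOf (σ * τ) = 2 := orderOf_eq_prime (by rw [sq]; exact huu) hu1
  rcases Cfsg.Agent.S0111.result T (Subgroup.zpowers σ) hle H.dih.relIndex_zpowers (σ * τ) huo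
    (Subgroup.mul_mem _ H.dih.σ_mem H.dih.τ_mem) H.dih.στ_not_mem with h | ⟨g, hg⟩
  · exact h
  · exfalso
    have h2 : (g * (σ * τ) * g⁻¹) * (g * (σ * τ) * g⁻¹) = 1 := by
      have : (g * (σ * τ) * g⁻¹) * (g * (σ * τ) * g⁻¹) = g * ((σ * τ) * (σ * τ)) * g⁻¹ := by group
      rw [this, huu]; group
    rcases H.dih.sq_eq_one_cases hg h2 with e | e
    · exact hu1 (conj_eq_one_iff.1 e)
    · apply c2
      rw [← e]
      exact (isConj_iff.2 ⟨g, rfl⟩ : IsConj (σ * τ) (g * (σ * τ) * g⁻¹)).symm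

theorem exists_card (H : D8C T σ τ) : ∃ k : ℕ, Odd k ∧ Nat.card G = 8 * k := by
  refine ⟨(T : Subgroup G).index, ?_, ?_⟩
  · rw [← Nat.not_even_iff_odd]
    intro he
    exact T.not_dvd_index he.two_dvd
  · rw [← H.card_T]; exact ((T : Subgroup G).card_mul_index).symm

section

variable (H : D8C T σ τ) (c1 : IsConj (σ ^ (4 / 2)) τ) {M : Subgroup G} (hM : M.Normal)
  (hMi : M.index = 2) (hστ : σ * τ ∉ M)

include H c1 hM hMi

theorem J_mem_M : σ ^ (4 / 2) ∈ M := by
  by_contra hJ
  have h1 := H.normal_of_not_mem c1 hM hJ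
  rw [h1, Subgroup.index_bot] at hMi
  obtain ⟨k, -, hk⟩ := H.exists_card
  omega

theorem τ_mem_M : τ ∈ M := mem_of_isConj hM (H.J_mem_M c1 hM hMi) c1

include hστ

theorem σ_not_mem_M : σ ∉ M := fun h => hστ (M.mul_mem h (H.τ_mem_M c1 hM hMi))

theorem sq_eq_one_of_mem {x : G} (hxM : x ∈ M) (hxT : x ∈ (T : Subgroup G)) : x * x = 1 := by
  rcases H.dih.cases x hxT with h1 | ⟨c, hc, rfl⟩
  · obtain ⟨k, rfl⟩ := h1
    have h4 : (4 / 2 : ℕ) = 2 := by norm_num
    have hJ := H.J_mem_M c1 hM hMi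
    rw [h4] at hJ
    rcases Int.even_or_odd' k with ⟨j, rfl | rfl⟩
    · show σ ^ (2 * j) * σ ^ (2 * j) = 1
      have h5 : σ ^ (4 : ℤ) = 1 := by
        have := pow_orderOf_eq_one σ
        rw [H.dih.ord_σ] at this
        exact_mod_cast this
      rw [← zpow_add, show 2 * j + 2 * j = 4 * j by ring, zpow_mul, h5, one_zpow]
    · exfalso
      apply H.σ_not_mem_M c1 hM hMi hστ
      have h6 : σ = σ ^ (2 * j + 1) * ((σ ^ 2) ^ j)⁻¹ := by
        rw [zpow_add, zpow_one, zpow_mul]
        have : (σ ^ (2 : ℤ)) = σ ^ 2 := by exact_mod_cast rfl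
        rw [this]
        have hc : Commute ((σ ^ 2) ^ j) σ := ((Commute.refl σ).pow_left 2).zpow_left j
        rw [hc.eq, mul_assoc, mul_inv_cancel, mul_one]
      rw [h6]
      exact M.mul_mem hxM (M.inv_mem (M.zpow_mem hJ j))
  · exact H.dih.cτ_sq hc

theorem card_M : Nat.card M * 2 = Nat.card G := by
  rw [← hMi]; exact M.card_mul_index

theorem card_inf : Nat.card (M ⊓ (T : Subgroup G) : Subgroup G) = 4 := by
  have h1 : M.relIndex (T : Subgroup G) ∣ 2 := by
    have := Subgroup.relIndex_dvd_index_of_normal M (T : Subgroup G)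
    rwa [hMi] at this
  have h2 : M.relIndex (T : Subgroup G) ≠ 1 := by
    intro h
    rw [Subgroup.relIndex_eq_one] at h
    exact H.σ_not_mem_M c1 hM hMi hστ (h H.dih.σ_mem)
  have h3 : M.relIndex (T : Subgroup G) = 2 := by
    rcases (Nat.dvd_prime Nat.prime_two).1 h1 with h | h
    · exact absurd h h2
    · exact h
  have h4 := Subgroup.relIndex_mul_relIndex ⊥ (M ⊓ (T : Subgroup G)) (T : Subgroup G) bot_le
    inf_le_right
  rw [Subgroup.relIndex_bot_left, Subgroup.relIndex_bot_left, Subgroup.inf_relIndex_right, h3,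
    H.card_T] at h4
  omega

theorem invol_conj {u : G} (huM : u ∈ M) (hu : orderOf u = 2) : IsConj (σ ^ (4 / 2)) u := by
  have hpg : IsPGroup 2 (Subgroup.zpowers u) := by
    apply IsPGroup.of_card (n := 1)
    rw [Nat.card_zpowers, hu, pow_one]
  obtain ⟨g, hg⟩ := exists_conj_mem_sylow T _ hpg
  have hyT := hg u (Subgroup.mem_zpowers u)
  have hyM : g * u * g⁻¹ ∈ M := hM.conj_mem u huM g
  have huy : IsConj u (g * u * g⁻¹) := isConj_iff.2 ⟨g, rfl⟩
  have huu : u * u = 1 := by
    have := pow_orderOf_eq_one u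
    rwa [hu, sq] at this
  have hu1 : u ≠ 1 := by
    intro h; rw [h, orderOf_one] at hu; omega
  have h2 : (g * u * g⁻¹) * (g * u * g⁻¹) = 1 := by
    have : (g * u * g⁻¹) * (g * u * g⁻¹) = g * (u * u) * g⁻¹ := by group
    rw [this, huu]; group
  rcases H.invol_cases hyT h2 (fun h => hu1 (conj_eq_one_iff.1 h)) with h3 | h3 | h3
  · rw [← h3]; exact huy.symm
  · exact (c1.trans h3).trans huy.symm
  · exact absurd (mem_of_isConj hM hyM h3.symm) hστ

theorem not_le_T : ¬ M ≤ (T : Subgroup G) := by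
  intro hle
  have h1 := Subgroup.card_dvd_of_le hle
  rw [H.card_T] at h1
  have h2 := H.card_M c1 hM hMi hστ
  obtain ⟨k, hk, hk'⟩ := H.exists_card
  apply H.card_ne_eight c1
  obtain ⟨c, hc⟩ := h1
  obtain ⟨j, hj⟩ := hk
  have h3 : Nat.card M = 4 * k := by omega
  rw [h3] at hc
  have : k * c = 2 := by nlinarith
  have hk2 : k ∣ 2 := ⟨c, this.symm⟩
  rcases (Nat.dvd_prime Nat.prime_two).1 hk2 with h | h
  · rw [hk', h]
  · omega

/-- the main dichotomy -/
theorem card_or_alt : Nat.card G = 24 ∨ Nonempty (M ≃* alternatingGroup (Fin 5)) := by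
  classical
  obtain ⟨k, hk, hk'⟩ := H.exists_card
  have hcM := H.card_M c1 hM hMi hστ
  have hM4 : Nat.card M = 4 * k := by omega
  have hJM := H.J_mem_M c1 hM hMi
  have hk2 : ¬ 2 ∣ k := by
    intro h; exact (Nat.not_even_iff_odd.2 hk) (even_iff_two_dvd.2 h)
  by_cases hnc : Cfsg.HasNormalPComplement 2 M
  · -- normal 2-complement: impossible
    exfalso
    obtain ⟨P, N, hN, hcompl⟩ := hnc
    have hP4 : Nat.card (P : Subgroup M) = 2 ^ 2 :=
      (sylow_card_index P (a := 2) (m := k) (by rw [hM4]; norm_num) hk2).1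
    have hcard := hcompl.card_mul_card
    rw [hP4, hM4] at hcard
    have hNk : Nat.card N = k := by omega
    have hNi : N.index = 4 := by
      have := N.card_mul_index
      rw [hNk, hM4] at this
      have hk0 : 0 < k := hk.pos
      nlinarith
    have hKn : (N.map M.subtype).Normal := by
      refine ⟨fun y hy g => ?_⟩
      obtain ⟨n, hn, rfl⟩ := hy
      refine ⟨⟨g * n * g⁻¹, hM.conj_mem _ n.2 g⟩, ?_, rfl⟩
      apply mem_of_coprime_order
      rw [hNi, Subgroup.orderOf_mk, orderOf_conj_eq, Subgroup.orderOf_coe]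
      have h1 : orderOf n ∣ k := by
        have := orderOf_dvd_natCard (⟨n, hn⟩ : N)
        rwa [Subgroup.orderOf_mk, hNk] at this
      have h2 : Nat.Coprime k 4 := by
        have : Nat.Coprime k 2 := Nat.coprime_two_right.2 hk
        exact Nat.Coprime.pow_right 2 this
      exact Nat.Coprime.of_dvd_left h1 h2
    have hKc : Nat.card (N.map M.subtype) = k := by
      rw [Subgroup.card_map_of_injective M.subtype_injective, hNk]
    have hbot := H.normal_odd c1 hKn (by rw [hKc]; exact hk)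
    rw [hbot, Subgroup.card_bot] at hKc
    apply H.card_ne_eight c1
    rw [hk', ← hKc]
  by_cases hne : ∀ E : Subgroup M, E.Normal → Cfsg.IsElementaryAbelian 2 E →
      Nat.card E ≠ 2 ∧ Nat.card E ≠ 4
  · right
    apply Cfsg.Agent.S3277.result (G := M) ⟨σ ^ (4 / 2), hJM⟩
      (by rw [Subgroup.orderOf_mk]; exact H.dih.ord_J) _ _ hnc hne
    · refine Eq.trans ?_ (H.card_inf c1 hM hMi hστ)
      apply Nat.card_congr
      refine ⟨fun c => ⟨c.1.1, c.1.2, ?_⟩, fun y => ⟨⟨y.1, y.2.1⟩, ?_⟩, fun c => rfl, fun y => rfl⟩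
      · show ((c : M) : G) ∈ (T : Subgroup G)
        rw [H.mem_T_iff]
        have := Subgroup.mem_centralizer_singleton_iff.1 c.2
        exact (congrArg Subtype.val this).symm
      · rw [Subgroup.mem_centralizer_singleton_iff]
        apply Subtype.ext
        exact (H.mem_T_iff.1 y.2.2).symm
    · intro c hc
      apply Subtype.ext
      have h1 : (c : G) ∈ (T : Subgroup G) := by
        rw [H.mem_T_iff]
        have := Subgroup.mem_centralizer_singleton_iff.1 hc
        exact (congrArg Subtype.val this).symm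
      have := H.sq_eq_one_of_mem c1 hM hMi hστ c.2 h1
      simpa [sq] using this
  · left
    push Not at hne
    obtain ⟨E, hE, -, hEc⟩ := hne
    by_cases hE2 : Nat.card E = 2
    · -- central involution of `M`
      exfalso
      obtain ⟨u, hu, huniq⟩ := (Nat.card_eq_two_iff' (1 : E)).1 hE2
      have huo : orderOf ((u : M) : G) = 2 := by
        rw [Subgroup.orderOf_coe, Subgroup.orderOf_coe]
        have h1 : orderOf u ∣ 2 := hE2 ▸ orderOf_dvd_natCard u
        rcases (Nat.dvd_prime Nat.prime_two).1 h1 with h | h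
        · exact absurd (orderOf_eq_one_iff.1 h) hu
        · exact h
      have hcen : ∀ m : M, m * (u : M) * m⁻¹ = (u : M) := by
        intro m
        have h1 : m * (u : M) * m⁻¹ ∈ E := hE.conj_mem _ u.2 m
        have h2 := huniq ⟨_, h1⟩ (by
          intro h
          apply hu
          have h3 := congrArg Subtype.val h
          exact Subtype.ext (conj_eq_one_iff.1 h3))
        exact congrArg Subtype.val h2
      obtain ⟨g, hg⟩ := isConj_iff.1 (H.invol_conj c1 hM hMi hστ (u : M).2 huo)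
      apply H.not_le_T c1 hM hMi hστ
      intro m hm
      rw [H.mem_T_iff]
      have h1 := congrArg Subtype.val (hcen ⟨g * m * g⁻¹, hM.conj_mem m hm g⟩)
      simp only [Subgroup.coe_mul, Subgroup.coe_inv] at h1
      rw [← hg] at h1
      have h2 : g * m * g⁻¹ * (g * σ ^ (4 / 2) * g⁻¹) = g * σ ^ (4 / 2) * g⁻¹ * (g * m * g⁻¹) :=
        mul_inv_eq_iff_eq_mul.1 h1
      have h3 : g * (m * σ ^ (4 / 2)) * g⁻¹ = g * (σ ^ (4 / 2) * m) * g⁻¹ := by
        calc g * (m * σ ^ (4 / 2)) * g⁻¹ = g * m * g⁻¹ * (g * σ ^ (4 / 2) * g⁻¹) := by group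
          _ = g * σ ^ (4 / 2) * g⁻¹ * (g * m * g⁻¹) := h2
          _ = g * (σ ^ (4 / 2) * m) * g⁻¹ := by group
      exact (mul_left_cancel (mul_right_cancel h3)).symm
    · have hE4 : Nat.card E = 4 := hEc hE2
      obtain ⟨E', hE'⟩ : ∃ E' : Subgroup G, E' = E.map M.subtype := ⟨_, rfl⟩
      have hE'4 : Nat.card E' = 4 := by
        rw [hE', Subgroup.card_map_of_injective M.subtype_injective, hE4]
      have hE'M : E' ≤ M := by
        rw [hE']; exact Subgroup.map_subtype_le E
      have hMN : M ≤ Subgroup.normalizer (E' : Set G) := by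
        have := Subgroup.le_normalizer_map (H := E) M.subtype
        rw [Subgroup.normalizer_eq_top_iff.2 hE, ← MonoidHom.range_eq_map,
          Subgroup.range_subtype] at this
        rw [hE']
        exact this
      have hmem : ∀ y : G, IsConj (σ ^ (4 / 2)) y → y ∈ E' := by
        intro y hy
        have hyM : y ∈ M := mem_of_isConj hM hJM hy
        have hyo : orderOf y = 2 := by
          obtain ⟨g, rfl⟩ := isConj_iff.1 hy
          rw [orderOf_conj_eq]; exact H.dih.ord_J
        have hzM : Subgroup.zpowers y ≤ M := by rwa [Subgroup.zpowers_le]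
        have h1 := Cfsg.Agent.Lib.Helper1.card_sup_mul_card_inf (hzM.trans hMN)
        rw [Nat.card_zpowers, hyo, hE'4] at h1
        have h2 : Nat.card (Subgroup.zpowers y ⊔ E' : Subgroup G) ∣ 8 := ⟨_, h1.symm⟩
        have h3 : Nat.card (Subgroup.zpowers y ⊔ E' : Subgroup G) ∣ 4 * k :=
          hM4 ▸ Subgroup.card_dvd_of_le (sup_le hzM hE'M)
        have h4 : Nat.card (Subgroup.zpowers y ⊔ E' : Subgroup G) ∣ 4 := by
          have h5 := Nat.dvd_gcd h2 h3
          have h6 : Nat.gcd 8 (4 * k) = 4 := by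
            rw [show (8 : ℕ) = 4 * 2 by norm_num, Nat.gcd_mul_left]
            have : Nat.gcd 2 k = 1 := (Nat.coprime_two_left.2 hk)
            rw [this]
          rwa [h6] at h5
        have h7 : E' = Subgroup.zpowers y ⊔ E' :=
          Subgroup.eq_of_le_of_card_ge le_sup_right (by
            rw [hE'4]; exact Nat.le_of_dvd (by norm_num) h4)
        rw [h7]
        exact Subgroup.mem_sup_left (Subgroup.mem_zpowers y)
      have := Fintype.ofFinite {g : G // IsConj (σ ^ (4 / 2)) g}
      have := Fintype.ofFinite E'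
      have hlt : Fintype.card {g : G // IsConj (σ ^ (4 / 2)) g} < Fintype.card E' := by
        apply Fintype.card_lt_of_injective_of_notMem
          (fun g : {g : G // IsConj (σ ^ (4 / 2)) g} => (⟨g.1, hmem g.1 g.2⟩ : E')) (b := 1)
        · intro a b hab
          exact Subtype.ext (congrArg (fun x : E' => (x : G)) hab)
        · rintro ⟨a, ha⟩
          have h1 : (a : G) = 1 := congrArg Subtype.val ha
          obtain ⟨g, hg⟩ := isConj_iff.1 a.2
          rw [h1] at hg
          exact H.dih.J_ne_one (conj_eq_one_iff.1 hg)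
      rw [← Nat.card_eq_fintype_card, ← Nat.card_eq_fintype_card, hE'4] at hlt
      have hcc := card_conj_mul_card_centralizer (σ ^ (4 / 2) : G)
      rw [← H.cen, H.card_T, hk'] at hcc
      have hkk : Nat.card {g : G // IsConj (σ ^ (4 / 2)) g} = k := by omega
      rw [hkk] at hlt
      obtain ⟨j, hj⟩ := hk
      have hne8 := H.card_ne_eight c1
      omega

end

end D8C

end Cfsg.Agent.Lib.Helper75
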