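import Mathlib
import Cfsg.Agent.Lib.Helper75.D8Cent4
import Cfsg.Agent.Lib.Helper73.OTSL3
import Cfsg.Agent.S2119
import Cfsg.Agent.S0255
import Cfsg.Agent.S0243

/-! Groups with an involution whose centralizer is dihedral of order 8: identification of
`S₄`, `S₅`, `SL₃(2)`. -/

set_option autoImplicit false
set_option linter.unusedSectionVars false

namespace Cfsg.Agent.Lib.Helper75

open Cfsg Cfsg.Agent.Lib.Helper55 Cfsg.Agent.Lib.Lead Cfsg.Agent.Lib.Helper17

namespace D8C

variable {G : Type*} [Group G] [Finite G] {T : Sylow 2 G} {σ τ : G}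

theorem perm4 (H : D8C T σ τ) (c1 : IsConj (σ ^ (4 / 2)) τ) (h24 : Nat.card G = 24) :
    Nonempty (G ≃* Equiv.Perm (Fin 4)) := by
  classical
  have := Fintype.ofFinite (Sylow 3 G)
  have h1 := card_sylow_mem (G := G) (p := 3) (a := 1) (m := 8) (by rw [h24]; norm_num)
    (by norm_num)
  obtain ⟨Q⟩ : Nonempty (Sylow 3 G) := inferInstance
  have hQ3 : Nat.card (Q : Subgroup G) = 3 ^ 1 :=
    (sylow_card_index Q (a := 1) (m := 8) (by rw [h24]; norm_num) (by norm_num)).1
  have hn : Nat.card (Sylow 3 G) = 4 := by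
    have hle := Nat.le_of_dvd (by norm_num) h1.1
    have hn1 : Nat.card (Sylow 3 G) ≠ 1 := by
      intro h
      have hsub : Subsingleton (Sylow 3 G) := (Nat.card_eq_one_iff_unique.mp h).1
      have hnorm : (Q : Subgroup G).Normal := Q.normal_of_subsingleton
      have := H.normal_odd c1 hnorm (by rw [hQ3]; decide)
      rw [this, Subgroup.card_bot] at hQ3
      omega
    obtain ⟨h2, h3⟩ := h1
    interval_cases (Nat.card (Sylow 3 G)) <;> omega
  have hNQ : Nat.card (Subgroup.normalizer ((Q : Subgroup G) : Set G)) = 6 := by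
    have := card_sylow_mul_card_normalizer Q
    rw [hn, h24] at this
    omega
  have hinj : Function.Injective (MulAction.toPermHom G (Sylow 3 G)) := by
    rw [← MonoidHom.ker_eq_bot_iff]
    apply H.normal_of_not_mem c1 (MonoidHom.normal_ker _)
    intro hJ
    have hτ := mem_of_isConj (MonoidHom.normal_ker _) hJ c1
    have hker : ∀ x : G, x ∈ (MulAction.toPermHom G (Sylow 3 G)).ker →
        x ∈ Subgroup.normalizer ((Q : Subgroup G) : Set G) := by
      intro x hx
      rw [MonoidHom.mem_ker] at hx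
      have h2 := congrArg (fun s : Equiv.Perm (Sylow 3 G) => s Q) hx
      simp only [MulAction.toPermHom_apply, MulAction.toPerm_apply, Equiv.Perm.coe_one, id_eq] at h2
      exact Sylow.smul_eq_iff_mem_normalizer.1 h2
    obtain ⟨X, hX⟩ : ∃ X : Subgroup G,
      X = (T : Subgroup G) ⊓ Subgroup.normalizer ((Q : Subgroup G) : Set G) := ⟨_, rfl⟩
    have d1 : Nat.card X ∣ 8 := by
      rw [← H.card_T, hX]; exact Subgroup.card_dvd_of_le inf_le_left
    have d2 : Nat.card X ∣ 6 := by
      rw [← hNQ, hX]; exact Subgroup.card_dvd_of_le inf_le_right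
    have d3 : Nat.card X ∣ 2 := by
      have := Nat.dvd_gcd d1 d2
      have h2 : Nat.gcd 8 6 = 2 := by decide
      rwa [h2] at this
    have hJX : σ ^ (4 / 2) ∈ X := by
      rw [hX]; exact ⟨Subgroup.pow_mem _ H.dih.σ_mem _, hker _ hJ⟩
    have hτX : τ ∈ X := by
      rw [hX]; exact ⟨H.dih.τ_mem, hker _ hτ⟩
    have hz : Subgroup.zpowers (σ ^ (4 / 2)) = X :=
      Subgroup.eq_of_le_of_card_ge (by rwa [Subgroup.zpowers_le]) (by
        rw [Nat.card_zpowers, H.dih.ord_J]; exact Nat.le_of_dvd (by norm_num) d3)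
    rw [← hz] at hτX
    apply H.dih.τ_not_mem
    have hle : Subgroup.zpowers (σ ^ (4 / 2)) ≤ Subgroup.zpowers σ := by
      rw [Subgroup.zpowers_le]; exact DihS.J_mem
    exact hle hτX
  have h4 : Fintype.card (Sylow 3 G) = 4 := by rw [← Nat.card_eq_fintype_card, hn]
  have hbij : Function.Bijective (MulAction.toPermHom G (Sylow 3 G)) := by
    apply hinj.bijective_of_nat_card_le
    rw [h24, Nat.card_eq_fintype_card, Fintype.card_perm, h4]
    decide
  exact ⟨(MulEquiv.ofBijective _ hbij).trans (Fintype.equivFinOfCardEq h4).permCongrHom⟩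

theorem perm5 (H : D8C T σ τ) (c1 : IsConj (σ ^ (4 / 2)) τ) {M : Subgroup G} (hM : M.Normal)
    (hMi : M.index = 2) (e : M ≃* alternatingGroup (Fin 5)) :
    Nonempty (G ≃* Equiv.Perm (Fin 5)) := by
  classical
  have hM60 : Nat.card M = 60 := by
    rw [Nat.card_congr e.toEquiv, nat_card_alternatingGroup]
    simp [Nat.factorial]
  have hG : Nat.card G = 120 := by
    rw [← M.card_mul_index, hM60, hMi]
  have hinj : Function.Injective (MulAut.conjNormal : G →* MulAut M) := by
    rw [← MonoidHom.ker_eq_bot_iff]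
    apply H.normal_of_not_mem c1 (MonoidHom.normal_ker _)
    intro hJ
    rw [MonoidHom.mem_ker] at hJ
    have hle : M ≤ (T : Subgroup G) := by
      intro m hm
      rw [H.mem_T_iff]
      have h1 := congrArg (fun f : MulAut M => ((f ⟨m, hm⟩ : M) : G)) hJ
      simp only [MulAut.conjNormal_apply, MulAut.one_apply] at h1
      exact mul_inv_eq_iff_eq_mul.1 h1
    have := Subgroup.card_le_of_le hle
    rw [hM60, H.card_T] at this
    omega
  let e5 : Equiv.Perm (Fin 5) ≃* MulAut (alternatingGroup (Fin 5)) :=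
    MulEquiv.ofBijective _ (Cfsg.Agent.S2119.result 5 (by norm_num) (by norm_num))
  let e6 : MulAut M ≃* Equiv.Perm (Fin 5) := (MulAut.congr e).trans e5.symm
  have hfin : Finite (MulAut M) := Finite.of_equiv _ e6.symm.toEquiv
  have hbij : Function.Bijective (MulAut.conjNormal : G →* MulAut M) := by
    apply hinj.bijective_of_nat_card_le
    rw [hG, Nat.card_congr e6.toEquiv, Nat.card_eq_fintype_card, Fintype.card_perm]
    decide
  exact ⟨(MulEquiv.ofBijective _ hbij).trans e6⟩

end D8C

/-- a simple group of order 168 is `SL₃(2)` -/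
theorem nonempty_mulEquiv_sl3 {G : Type*} [Group G] [Finite G] [IsSimpleGroup G]
    (h : Nat.card G = 168) : Nonempty (G ≃* Matrix.SpecialLinearGroup (Fin 3) (ZMod 2)) := by
  have : Fact (Nat.Prime 7) := ⟨by norm_num⟩
  obtain ⟨e1⟩ := Cfsg.Agent.S0495.result h (ZMod.card 7)
  obtain ⟨e2⟩ := Cfsg.Agent.S0255.result (F := ZMod 7) (K := ZMod 2) (ZMod.card 7) (ZMod.card 2)
  have hc : Nat.card (Matrix.ProjectiveSpecialLinearGroup (Fin 3) (ZMod 2)) = 168 := by
    rw [← Nat.card_congr e2.toEquiv, ← Nat.card_congr e1.toEquiv, h]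
  have hsurj : Function.Surjective (QuotientGroup.mk' (Subgroup.center
      (Matrix.SpecialLinearGroup (Fin 3) (ZMod 2)))) := QuotientGroup.mk'_surjective _
  have hbij : Function.Bijective (QuotientGroup.mk' (Subgroup.center
      (Matrix.SpecialLinearGroup (Fin 3) (ZMod 2)))) := by
    apply hsurj.bijective_of_nat_card_le
    have h2 : Nat.card (Matrix.SpecialLinearGroup (Fin 3) (ZMod 2)) = 168 := by
      rw [Nat.card_eq_fintype_card]; exact Cfsg.Agent.Lib.Helper73.OT.card_SL3
    rw [h2]
    exact hc.ge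
  exact ⟨(e1.trans e2).trans (MulEquiv.ofBijective _ hbij).symm⟩

end Cfsg.Agent.Lib.Helper75
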