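import Mathlib
import Cfsg.Agent.Lib.Helper17.Basic
import Cfsg.Agent.Lib.Helper17.Inter
import Cfsg.Agent.Lib.Helper17.PermRep
import Cfsg.Agent.Lib.Helper1.Tools

/-! Simple groups of order 360: Sylow 3-structure (ten Sylow 3-subgroups, pairwise disjoint). -/

set_option autoImplicit false
set_option linter.unusedSectionVars false

namespace Cfsg.Agent.Lib.Helper75.Ord360

open Subgroup Cfsg.Agent.Lib.Helper17

variable {G : Type*} [Group G] [Finite G] [IsSimpleGroup G]

lemma not_comm (h : Nat.card G = 360) : ¬ IsMulCommutative G :=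
  not_comm_of_not_prime (by rw [h]; norm_num)

lemma card_le (h : Nat.card G = 360) (H : Subgroup G) (hH : H ≠ ⊤) : Nat.card H ≤ 60 := by
  have h1 := card_dvd_factorial_index H hH
  have h2 := H.card_mul_index
  rw [h] at h1 h2
  by_contra hlt
  push Not at hlt
  have hi : H.index ≤ 5 := by
    by_contra h5
    push Not at h5
    have : 61 * 6 ≤ Nat.card H * H.index := Nat.mul_le_mul hlt h5
    omega
  have h3 := h1.trans (Nat.factorial_dvd_factorial hi)
  norm_num [Nat.factorial] at h3

lemma card_sylow3_group (h : Nat.card G = 360) (P : Sylow 3 G) :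
    Nat.card (P : Subgroup G) = 9 :=
  (sylow_card_index P (a := 2) (m := 40) (by rw [h]; norm_num) (by norm_num)).1

lemma card_sylow2_group (h : Nat.card G = 360) (P : Sylow 2 G) :
    Nat.card (P : Subgroup G) = 8 :=
  (sylow_card_index P (a := 3) (m := 45) (by rw [h]; norm_num) (by norm_num)).1

lemma sylow3_comm (h : Nat.card G = 360) (P : Sylow 3 G) :
    IsMulCommutative (P : Subgroup G) :=
  IsPGroup.isMulCommutative_of_card_eq_prime_sq (p := 3) (by rw [card_sylow3_group h]; norm_num)

lemma card_sylow3 (h : Nat.card G = 360) : Nat.card (Sylow 3 G) = 10 := by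
  obtain ⟨P⟩ : Nonempty (Sylow 3 G) := inferInstance
  have h1 := card_sylow_mem (G := G) (p := 3) (a := 2) (m := 40) (by rw [h]; norm_num) (by norm_num)
  have h2 := card_sylow_ne_one (G := G) (p := 3) (a := 2) (m := 40) (by rw [h]; norm_num) (by norm_num)
    (by norm_num) (by norm_num)
  have h3 := card_sylow_mul_card_normalizer P
  rw [h] at h3
  have hmem := mem_divisors_filter (p := 3) (by norm_num : (40 : ℕ) ≠ 0) h1
  have hd : (Nat.divisors 40).filter (fun d => d % 3 = 1) = {1, 4, 10, 40} := by decide
  rw [hd] at hmem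
  simp only [Finset.mem_insert, Finset.mem_singleton] at hmem
  rcases hmem with h4 | h4 | h4 | h4
  · exact absurd h4 h2
  · rw [h4] at h3
    have : Nat.card (normalizer ((P : Subgroup G) : Set G)) ≤ 60 := card_le h _ (by
      intro ht
      rw [ht, Subgroup.card_top, h] at h3
      omega)
    omega
  · exact h4
  · rw [h4] at h3
    have h9 : Nat.card (normalizer ((P : Subgroup G) : Set G)) = 9 := by omega
    exfalso
    apply not_normalizer_le_centralizer P (by rw [card_sylow3_group h]; norm_num)
      (by rw [card_sylow3_group h, h]; norm_num)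
    have he : (P : Subgroup G) = normalizer ((P : Subgroup G) : Set G) :=
      Subgroup.eq_of_le_of_card_ge le_normalizer (by rw [h9, card_sylow3_group h])
    rw [← he]
    have := sylow3_comm h P
    exact Subgroup.le_centralizer _

lemma center_eq_bot (h : Nat.card G = 360) : Subgroup.center G = ⊥ := by
  rcases (inferInstance : (Subgroup.center G).Normal).eq_bot_or_eq_top with hc | hc
  · exact hc
  · exfalso
    apply not_comm h
    refine ⟨⟨fun a b => ?_⟩⟩
    have : a ∈ Subgroup.center G := hc ▸ Subgroup.mem_top a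
    exact (Subgroup.mem_center_iff.1 this b).symm

/-- a group of order 36 with a central subgroup of order divisible by 3 and more than one Sylow
3-subgroup has a normal Sylow 2-subgroup -/
lemma normal_sylow2_of_card36 {M : Type*} [Group M] [Finite M] (hM : Nat.card M = 36)
    (D : Subgroup M) (hD : D ≤ Subgroup.center M) (hD3 : 3 ∣ Nat.card D)
    (P R : Sylow 3 M) (hne : P ≠ R) (V : Sylow 2 M) : (V : Subgroup M).Normal := by
  have hV4 : Nat.card (V : Subgroup M) = 4 :=
    (sylow_card_index V (a := 2) (m := 9) (by rw [hM]; norm_num) (by norm_num)).1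
  have hP9 : ∀ P : Sylow 3 M, Nat.card (P : Subgroup M) = 9 := fun P =>
    (sylow_card_index P (a := 2) (m := 4) (by rw [hM]; norm_num) (by norm_num)).1
  have hVc : IsMulCommutative (V : Subgroup M) :=
    IsPGroup.isMulCommutative_of_card_eq_prime_sq (p := 2) (by rw [hV4]; norm_num)
  have hnot : ¬ normalizer ((V : Subgroup M) : Set M) ≤ centralizer ((V : Subgroup M) : Set M) := by
    intro hP
    have hc := MonoidHom.ker_transferSylow_isComplement' V hP
    have hcard := hc.card_mul_card
    rw [hV4, hM] at hcard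
    set K := (MonoidHom.transferSylow V hP).ker with hK
    have hK9 : Nat.card K = 9 := by omega
    have hKn : K.Normal := (MonoidHom.transferSylow V hP).normal_ker
    have hKp : IsPGroup 3 K := IsPGroup.of_card (n := 2) (by rw [hK9]; norm_num)
    have key : ∀ P : Sylow 3 M, (P : Subgroup M) = K := by
      intro P
      have h1 : IsPGroup 3 ((P : Subgroup M) ⊔ K : Subgroup M) := P.2.to_sup_of_normal_right hKp
      have h2 := P.3 h1 le_sup_left
      have h3 : K ≤ (P : Subgroup M) := by
        rw [← h2]; exact le_sup_right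
      exact (Subgroup.eq_of_le_of_card_ge h3 (by rw [hK9, hP9])).symm
    exact hne (Sylow.ext ((key P).trans (key R).symm))
  have h1 : (V : Subgroup M) ≤ centralizer ((V : Subgroup M) : Set M) := Subgroup.le_centralizer _
  have h2 : D ≤ centralizer ((V : Subgroup M) : Set M) :=
    hD.trans (Subgroup.center_le_centralizer _)
  have d1 := Subgroup.card_dvd_of_le h1
  have d2 := hD3.trans (Subgroup.card_dvd_of_le h2)
  rw [hV4] at d1
  have d3 : 12 ∣ Nat.card (centralizer ((V : Subgroup M) : Set M)) :=
    Nat.Coprime.mul_dvd_of_dvd_of_dvd (by norm_num : Nat.Coprime 4 3) d1 d2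
  have h3 : centralizer ((V : Subgroup M) : Set M) ≤ normalizer ((V : Subgroup M) : Set M) :=
    Subgroup.centralizer_le_normalizer _
  have d4 := Subgroup.card_dvd_of_le h3
  have d5 := Subgroup.card_subgroup_dvd_card (normalizer ((V : Subgroup M) : Set M))
  rw [hM] at d5
  have hne' : Nat.card (centralizer ((V : Subgroup M) : Set M))
      ≠ Nat.card (normalizer ((V : Subgroup M) : Set M)) := by
    intro he
    exact hnot (Subgroup.eq_of_le_of_card_ge h3 he.ge).ge
  have h36 : Nat.card (normalizer ((V : Subgroup M) : Set M)) = 36 := by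
    obtain ⟨a, ha⟩ := d3
    obtain ⟨b, hb⟩ := d4
    obtain ⟨c, hc⟩ := d5
    rw [ha] at hb hne'
    rw [hb] at hc hne' ⊢
    have hab : a * b * c = 3 := by nlinarith
    have ha3 : a ∣ 3 := ⟨b * c, by rw [← hab]; ring⟩
    have hb3 : b ∣ 3 := ⟨a * c, by rw [← hab]; ring⟩
    rcases (Nat.dvd_prime Nat.prime_three).1 ha3 with rfl | rfl
    · rcases (Nat.dvd_prime Nat.prime_three).1 hb3 with rfl | rfl
      · exact absurd rfl hne'
      · rfl
    · rcases (Nat.dvd_prime Nat.prime_three).1 hb3 with rfl | rfl
      · exact absurd rfl hne'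
      · omega
  rw [← Subgroup.normalizer_eq_top_iff]
  exact Subgroup.eq_top_of_card_eq _ (by rw [h36, hM])

/-- distinct Sylow 3-subgroups intersect trivially -/
lemma sylow3_inf (h : Nat.card G = 360) (P R : Sylow 3 G) (hne : P ≠ R) :
    (P : Subgroup G) ⊓ R = ⊥ := by
  by_contra hD
  obtain ⟨D, hDdef⟩ : ∃ D : Subgroup G, D = (P : Subgroup G) ⊓ R := ⟨_, rfl⟩
  rw [← hDdef] at hD
  obtain ⟨M, hM⟩ : ∃ M : Subgroup G, M = centralizer (D : Set G) := ⟨_, rfl⟩
  have hDP : D ≤ P := hDdef ▸ inf_le_left
  have hDR : D ≤ R := hDdef ▸ inf_le_right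
  have hPM : (P : Subgroup G) ≤ M := by
    have := sylow3_comm h P
    rw [hM]
    exact (Subgroup.le_centralizer (P : Subgroup G)).trans (Subgroup.centralizer_le hDP)
  have hRM : (R : Subgroup G) ≤ M := by
    have := sylow3_comm h R
    rw [hM]
    exact (Subgroup.le_centralizer (R : Subgroup G)).trans (Subgroup.centralizer_le hDR)
  have hMtop : M ≠ ⊤ := by
    intro ht
    rw [hM, Subgroup.centralizer_eq_top_iff_subset] at ht
    apply hD
    rw [eq_bot_iff, ← center_eq_bot h]
    exact ht
  obtain ⟨k, n, h1, h2, h3, h4⟩ := card_of_two_sylow_le P R hne M hPM hRM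
  rw [card_sylow3_group h] at h1
  have hle := card_le h M hMtop
  have hdvd := Subgroup.card_subgroup_dvd_card M
  rw [h, h1] at hdvd
  have hk40 : k ∣ 40 := by
    obtain ⟨c, hc⟩ := hdvd
    exact ⟨c, by rw [mul_assoc] at hc; omega⟩
  have hk : k = 4 := by
    have hk6 : k ≤ 6 := by omega
    interval_cases k
    · simp at hk40
    · have := Nat.dvd_one.1 h2; omega
    · have := Nat.le_of_dvd (by norm_num) h2
      interval_cases n <;> omega
    · omega
    · rfl
    · have := Nat.le_of_dvd (by norm_num) h2
      interval_cases n <;> omega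
    · omega
  rw [hk] at h1
  have hD3 : 3 ∣ Nat.card D := by
    have d1 := Subgroup.card_dvd_of_le hDP
    rw [card_sylow3_group h] at d1
    obtain ⟨m, hm, hm'⟩ := (Nat.dvd_prime_pow (m := 2) Nat.prime_three).1 (by simpa using d1)
    rcases Nat.eq_zero_or_pos m with rfl | hpos
    · exfalso
      apply hD
      rw [pow_zero] at hm'
      exact Subgroup.card_eq_one.1 hm'
    · rw [hm']
      exact dvd_pow_self 3 hpos.ne'
  obtain ⟨V⟩ : Nonempty (Sylow 2 M) := inferInstance
  have hDM : D ≤ M := hDP.trans hPM
  have hVn := normal_sylow2_of_card36 (M := M) (by rw [h1]) (D.subgroupOf M)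
    (by
      intro x hx
      rw [Subgroup.mem_center_iff]
      intro g
      apply Subtype.ext
      have hg : (g : G) ∈ centralizer (D : Set G) := hM ▸ g.2
      exact (Subgroup.mem_centralizer_iff.1 hg x hx).symm)
    (by rw [card_subgroupOf_of_le hDM]; exact hD3)
    (P.subtype hPM) (R.subtype hRM) (fun he => hne (Sylow.subtype_injective he)) V
  have hV4 : Nat.card (V : Subgroup M) = 4 :=
    (sylow_card_index V (a := 2) (m := 9) (by rw [h1]; norm_num) (by norm_num)).1
  obtain ⟨W, hW⟩ : ∃ W : Subgroup G, W = (V : Subgroup M).map M.subtype := ⟨_, rfl⟩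
  have hW4 : Nat.card W = 4 := by
    rw [hW, Subgroup.card_map_of_injective M.subtype_injective, hV4]
  have hMW : M ≤ normalizer (W : Set G) := by
    have := Subgroup.le_normalizer_map (H := (V : Subgroup M)) M.subtype
    rw [Subgroup.normalizer_eq_top_iff.2 hVn, ← MonoidHom.range_eq_map, Subgroup.range_subtype] at this
    rw [hW]
    exact this
  obtain ⟨T, hT⟩ := (IsPGroup.of_card (p := 2) (n := 2) (by rw [hW4]; norm_num) : IsPGroup 2 W).exists_le_sylow
  have hTW := le_normalizer_of_index_p T W hT (by rw [hW4, card_sylow2_group h])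
  have e1 := Subgroup.card_dvd_of_le hMW
  have e2 := Subgroup.card_dvd_of_le hTW
  rw [h1] at e1
  rw [card_sylow2_group h] at e2
  have e3 : 72 ∣ Nat.card (normalizer (W : Set G)) := by
    have := Nat.lcm_dvd e1 e2
    have h72 : Nat.lcm 36 8 = 72 := by decide
    rwa [h72] at this
  have hWn : W.Normal := by
    rw [← Subgroup.normalizer_eq_top_iff]
    by_contra hnt
    have := card_le h _ hnt
    have := Nat.le_of_dvd Nat.card_pos e3
    omega
  rcases normal_card W hWn with h5 | h5
  · omega
  · omega

end Cfsg.Agent.Lib.Helper75.Ord360
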