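import Mathlib
import Cfsg.Agent.Lib.Helper75.Ord360
import Cfsg.Agent.Lib.Helper17.ClassCount
import Cfsg.Agent.S0742

/-! Simple groups of order 360 are Zassenhaus groups of degree 10, hence `PSL(2,9)`. -/

set_option autoImplicit false
set_option linter.unusedSectionVars false

namespace Cfsg.Agent.Lib.Helper75.Ord360

open Subgroup Cfsg.Agent.Lib.Helper17

variable {G : Type*} [Group G] [Finite G] [IsSimpleGroup G]

lemma eq_one_of_smul (h : Nat.card G = 360) (P R : Sylow 3 G) (hne : P ≠ R) (x : G)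
    (hx : x ∈ (P : Subgroup G)) (hxR : x • R = R) : x = 1 := by
  have h1 : x ∈ (P : Subgroup G) ⊓ normalizer ((R : Subgroup G) : Set G) :=
    ⟨hx, Sylow.smul_eq_iff_mem_normalizer.1 hxR⟩
  have h2 : (P : Subgroup G) ⊓ normalizer ((R : Subgroup G) : Set G) = (P : Subgroup G) ⊓ R :=
    P.2.inf_normalizer_sylow R
  rw [h2, sylow3_inf h P R hne] at h1
  exact Subgroup.mem_bot.1 h1

lemma smul_self (P : Sylow 3 G) (x : G) (hx : x ∈ (P : Subgroup G)) : x • P = P :=
  Sylow.smul_eq_iff_mem_normalizer.2 (le_normalizer hx)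

lemma exists_smul (h : Nat.card G = 360) (P R S : Sylow 3 G) (hR : P ≠ R) (hS : P ≠ S) :
    ∃ x ∈ (P : Subgroup G), x • R = S := by
  classical
  have := Fintype.ofFinite (Sylow 3 G)
  have := Fintype.ofFinite (P : Subgroup G)
  have hinj : Function.Injective (fun x : (P : Subgroup G) => (x : G) • R) := by
    intro x y hxy
    have h1 : ((y : G)⁻¹ * x) • R = R := by
      rw [mul_smul]
      have : (x : G) • R = (y : G) • R := hxy
      rw [this, inv_smul_smul]
    have h2 := eq_one_of_smul h P R hR _ (Subgroup.mul_mem _ (Subgroup.inv_mem _ y.2) x.2) h1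
    apply Subtype.ext
    exact (inv_mul_eq_one.1 h2).symm
  have hsub : Finset.univ.image (fun x : (P : Subgroup G) => (x : G) • R)
      ⊆ Finset.univ.erase P := by
    intro T hT
    obtain ⟨x, -, rfl⟩ := Finset.mem_image.1 hT
    refine Finset.mem_erase.2 ⟨?_, Finset.mem_univ _⟩
    intro he
    apply hR
    have : (x : G)⁻¹ • ((x : G) • R) = (x : G)⁻¹ • P := by rw [he]
    rw [inv_smul_smul, smul_self P _ (Subgroup.inv_mem _ x.2)] at this
    exact this.symm
  have hcard : (Finset.univ.erase P).card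
      ≤ (Finset.univ.image (fun x : (P : Subgroup G) => (x : G) • R)).card := by
    rw [Finset.card_image_of_injective _ hinj, Finset.card_erase_of_mem (Finset.mem_univ _),
      Finset.card_univ, Finset.card_univ, ← Nat.card_eq_fintype_card, ← Nat.card_eq_fintype_card,
      card_sylow3 h, card_sylow3_group h]
  have heq := Finset.eq_of_subset_of_card_le hsub hcard
  have hmem : S ∈ Finset.univ.erase P := Finset.mem_erase.2 ⟨hS.symm, Finset.mem_univ _⟩
  rw [← heq] at hmem
  obtain ⟨x, -, hx⟩ := Finset.mem_image.1 hmem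
  exact ⟨x, x.2, hx⟩

lemma two_trans (h : Nat.card G = 360) : MulAction.IsMultiplyPretransitive G (Sylow 3 G) 2 := by
  rw [MulAction.is_two_pretransitive_iff]
  intro a b c d hab hcd
  obtain ⟨g, hg⟩ := MulAction.exists_smul_eq G a c
  have hne : c ≠ g • b := by
    rw [← hg]
    intro hh
    exact hab (MulAction.injective g hh)
  obtain ⟨x, hx, hxd⟩ := exists_smul h c (g • b) d hne hcd
  refine ⟨x * g, ?_, ?_⟩
  · rw [mul_smul, hg]; exact smul_self c x hx
  · rw [mul_smul, hxd]

lemma card_two_point (h : Nat.card G = 360) (P R : Sylow 3 G) (hne : P ≠ R) :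
    Nat.card ↥(MulAction.stabilizer G P ⊓ MulAction.stabilizer G R) = 4 := by
  obtain ⟨K, hK⟩ : ∃ K : Subgroup G, K = MulAction.stabilizer G P ⊓ MulAction.stabilizer G R :=
    ⟨_, rfl⟩
  rw [← hK]
  have hKN : K ≤ normalizer ((P : Subgroup G) : Set G) := by
    rw [hK, Sylow.stabilizer_eq_normalizer]
    exact inf_le_left
  have hd : Disjoint K (P : Subgroup G) := by
    rw [Subgroup.disjoint_def]
    intro x hx hxP
    rw [hK] at hx
    exact eq_one_of_smul h P R hne x hxP (MulAction.mem_stabilizer_iff.1 hx.2)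
  have h1 := Cfsg.Agent.Lib.Helper1.card_sup_of_disjoint hKN hd
  have h2 : K ⊔ (P : Subgroup G) = normalizer ((P : Subgroup G) : Set G) := by
    apply le_antisymm (sup_le hKN le_normalizer)
    intro g hg
    have hgP : g • P = P := Sylow.smul_eq_iff_mem_normalizer.2 hg
    have hne' : P ≠ g • R := by
      intro he
      apply hne
      rw [← hgP] at he
      exact MulAction.injective g he
    obtain ⟨x, hx, hxR⟩ := exists_smul h P R (g • R) hne hne'
    have h3 : x⁻¹ * g ∈ K := by
      rw [hK, Subgroup.mem_inf]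
      constructor
      · rw [MulAction.mem_stabilizer_iff, mul_smul, hgP]
        exact smul_self P _ (Subgroup.inv_mem _ hx)
      · rw [MulAction.mem_stabilizer_iff, mul_smul, ← hxR, inv_smul_smul]
    have : g = x * (x⁻¹ * g) := by group
    rw [this]
    exact Subgroup.mul_mem _ (Subgroup.mem_sup_right hx) (Subgroup.mem_sup_left h3)
  have h3 := card_sylow_mul_card_normalizer P
  rw [card_sylow3 h, h, ← h2, h1, card_sylow3_group h] at h3
  omega

lemma toPermHom_inj (h : Nat.card G = 360) :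
    Function.Injective (MulAction.toPermHom G (Sylow 3 G)) := by
  rw [← MonoidHom.ker_eq_bot_iff]
  rcases ((MulAction.toPermHom G (Sylow 3 G)).normal_ker).eq_bot_or_eq_top with h1 | h1
  · exact h1
  · exfalso
    have hnt : Nontrivial (Sylow 3 G) := by
      rw [← Finite.one_lt_card_iff_nontrivial, card_sylow3 h]; norm_num
    obtain ⟨P, R, hne⟩ := exists_pair_ne (Sylow 3 G)
    obtain ⟨g, hg⟩ := MulAction.exists_smul_eq G P R
    have : g ∈ (MulAction.toPermHom G (Sylow 3 G)).ker := h1 ▸ Subgroup.mem_top g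
    rw [MonoidHom.mem_ker] at this
    have h2 := congrArg (fun σ : Equiv.Perm (Sylow 3 G) => σ P) this
    simp only [MulAction.toPermHom_apply, MulAction.toPerm_apply, Equiv.Perm.coe_one, id_eq] at h2
    exact hne (h2.symm.trans hg)

lemma three_fixed_inv (h : Nat.card G = 360) (t : G) (ht : t ^ 2 = 1) (a b c : Sylow 3 G)
    (hab : a ≠ b) (hbc : b ≠ c) (hac : a ≠ c) (ha : t • a = a) (hb : t • b = b) (hc : t • c = c) :
    t = 1 := by
  classical
  have := Fintype.ofFinite (Sylow 3 G)
  obtain ⟨C, hC⟩ : ∃ C : Subgroup G, C = (a : Subgroup G) ⊓ centralizer ({t} : Set G) := ⟨_, rfl⟩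
  have := Fintype.ofFinite C
  let φ := MulAction.toPermHom G (Sylow 3 G)
  have h1 : (φ t) ^ 2 = 1 := by rw [← map_pow, ht, map_one]
  have h2 : Equiv.Perm.sign (φ t) = 1 := hom_comm_trivial (not_comm h) (Equiv.Perm.sign.comp φ) t
  have h3 := four_dvd_of_involution (φ t) h1 h2
  obtain ⟨F, hF⟩ : ∃ F : Finset (Sylow 3 G), F = Finset.univ.filter (fun S => t • S = S) :=
    ⟨_, rfl⟩
  have hFc : Fintype.card (Function.fixedPoints (φ t)) = F.card := by
    rw [hF, Fintype.card_subtype]
    rfl
  have h10 : Fintype.card (Sylow 3 G) = 10 := by rw [← Nat.card_eq_fintype_card, card_sylow3 h]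
  rw [hFc, h10] at h3
  have hF3 : 3 ≤ F.card := by
    have hs : ({a, b, c} : Finset (Sylow 3 G)) ⊆ F := by
      intro S hS
      simp only [Finset.mem_insert, Finset.mem_singleton] at hS
      rw [hF, Finset.mem_filter]
      rcases hS with rfl | rfl | rfl
      · exact ⟨Finset.mem_univ _, ha⟩
      · exact ⟨Finset.mem_univ _, hb⟩
      · exact ⟨Finset.mem_univ _, hc⟩
    have h3' : ({a, b, c} : Finset (Sylow 3 G)).card = 3 := by
      rw [Finset.card_insert_of_notMem (by simp [hab, hac]),
        Finset.card_insert_of_notMem (by simp [hbc]), Finset.card_singleton]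
    exact h3'.symm.le.trans (Finset.card_le_card hs)
  have hF10 : F.card ≤ 10 := by
    rw [← h10]; exact Finset.card_le_univ F
  have hF6 : 6 ≤ F.card := by
    obtain ⟨k, hk⟩ := h3
    omega
  have htN : t ∈ normalizer ((a : Subgroup G) : Set G) := Sylow.smul_eq_iff_mem_normalizer.1 ha
  have hsub : F.erase a ⊆ Finset.univ.image (fun x : C => (x : G) • b) := by
    intro S hS
    obtain ⟨hSa, hSF⟩ := Finset.mem_erase.1 hS
    rw [hF, Finset.mem_filter] at hSF
    obtain ⟨x, hx, hxS⟩ := exists_smul h a b S hab hSa.symm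
    have hfix : (x⁻¹ * (t * x * t⁻¹)) • b = b := by
      have e1 : t⁻¹ • b = b := by
        conv_lhs => rw [← hb]
        rw [inv_smul_smul]
      rw [mul_smul, mul_smul, mul_smul, e1, hxS, hSF.2, ← hxS, inv_smul_smul]
    have hmem : x⁻¹ * (t * x * t⁻¹) ∈ (a : Subgroup G) :=
      Subgroup.mul_mem _ (Subgroup.inv_mem _ hx) ((Subgroup.mem_set_normalizer_iff.1 htN x).1 hx)
    have h5 := eq_one_of_smul h a b hab _ hmem hfix
    have h6 : t * x * t⁻¹ = x := (inv_mul_eq_one.1 h5).symm
    have hxC : x ∈ C := by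
      rw [hC]
      exact ⟨hx, Subgroup.mem_centralizer_singleton_iff.2 (mul_inv_eq_iff_eq_mul.1 h6).symm⟩
    exact Finset.mem_image.2 ⟨⟨x, hxC⟩, Finset.mem_univ _, hxS⟩
  have hcard := (Finset.card_le_card hsub).trans Finset.card_image_le
  have haF : a ∈ F := by rw [hF, Finset.mem_filter]; exact ⟨Finset.mem_univ _, ha⟩
  rw [Finset.card_erase_of_mem haF, Finset.card_univ, ← Nat.card_eq_fintype_card] at hcard
  have hCa : C ≤ (a : Subgroup G) := hC ▸ inf_le_left
  have hdvd := Subgroup.card_dvd_of_le hCa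
  rw [card_sylow3_group h] at hdvd
  have hC9 : Nat.card C = 9 := by
    have hle := Nat.le_of_dvd (by norm_num) hdvd
    have h5 : 5 ≤ Nat.card C := by omega
    interval_cases (Nat.card C) <;> omega
  have hCeq : C = (a : Subgroup G) :=
    Subgroup.eq_of_le_of_card_ge hCa (by rw [hC9, card_sylow3_group h])
  apply toPermHom_inj h
  rw [map_one]
  ext S
  simp only [MulAction.toPermHom_apply, MulAction.toPerm_apply, Equiv.Perm.coe_one, id_eq]
  by_cases hS : S = a
  · rw [hS, ha]
  · obtain ⟨x, hx, hxS⟩ := exists_smul h a b S hab (fun e => hS e.symm)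
    have hxC : x ∈ C := hCeq ▸ hx
    rw [hC] at hxC
    have hcomm := Subgroup.mem_centralizer_singleton_iff.1 hxC.2
    rw [← hxS, ← mul_smul, ← hcomm, mul_smul, hb]

lemma three_fixed (h : Nat.card G = 360) (g : G) (a b c : Sylow 3 G)
    (hab : a ≠ b) (hbc : b ≠ c) (hac : a ≠ c) (ha : g • a = a) (hb : g • b = b) (hc : g • c = c) :
    g = 1 := by
  have hmem : g ∈ MulAction.stabilizer G a ⊓ MulAction.stabilizer G b :=
    Subgroup.mem_inf.2 ⟨MulAction.mem_stabilizer_iff.2 ha, MulAction.mem_stabilizer_iff.2 hb⟩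
  have h4 : g ^ 4 = 1 := by
    have h1 := pow_card_eq_one' (G := ↥(MulAction.stabilizer G a ⊓ MulAction.stabilizer G b))
      (x := ⟨g, hmem⟩)
    rw [card_two_point h a b hab] at h1
    exact congrArg Subtype.val h1
  have hsq : ∀ S : Sylow 3 G, g • S = S → (g ^ 2) • S = S := by
    intro S hS
    rw [pow_two, mul_smul, hS, hS]
  have h2 : g ^ 2 = 1 := three_fixed_inv h (g ^ 2) (by rw [← pow_mul]; exact h4) a b c hab hbc hac
    (hsq a ha) (hsq b hb) (hsq c hc)
  exact three_fixed_inv h g h2 a b c hab hbc hac ha hb hc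

theorem isZassenhaus (h : Nat.card G = 360) : Cfsg.IsZassenhausGroup G (Sylow 3 G) := by
  have hnt : Nontrivial (Sylow 3 G) := by
    rw [← Finite.one_lt_card_iff_nontrivial, card_sylow3 h]; norm_num
  obtain ⟨P, R, hne⟩ := exists_pair_ne (Sylow 3 G)
  refine ⟨⟨fun {g₁ g₂} hg => toPermHom_inj h ?_⟩, two_trans h, ?_, ?_, ?_⟩
  · apply Equiv.ext
    intro S
    exact hg S
  · intro g a b c hab hbc hac ha hb hc
    exact three_fixed h g a b c hab hbc hac ha hb hc
  · have hK := card_two_point h P R hne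
    have hnt' : Nontrivial ↥(MulAction.stabilizer G P ⊓ MulAction.stabilizer G R) := by
      rw [← Finite.one_lt_card_iff_nontrivial, hK]; norm_num
    obtain ⟨g, hg⟩ := exists_ne (1 : ↥(MulAction.stabilizer G P ⊓ MulAction.stabilizer G R))
    have hg2 := Subgroup.mem_inf.1 g.2
    exact ⟨g, fun he => hg (Subtype.ext he), P, R, hne, MulAction.mem_stabilizer_iff.1 hg2.1,
      MulAction.mem_stabilizer_iff.1 hg2.2⟩
  · intro N hN hNt
    rcases hN.eq_bot_or_eq_top with rfl | rfl
    · exfalso
      obtain ⟨n, hn⟩ := MulAction.exists_smul_eq (⊥ : Subgroup G) P R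
      have h1 : (n : G) = 1 := Subgroup.mem_bot.1 n.2
      have h2 : (n : G) • P = R := hn
      rw [h1, one_smul] at h2
      exact hne h2
    · refine ⟨P, ?_⟩
      have hPnt : Nontrivial (P : Subgroup G) := by
        rw [← Finite.one_lt_card_iff_nontrivial, card_sylow3_group h]; norm_num
      obtain ⟨x, hx⟩ := exists_ne (1 : (P : Subgroup G))
      intro hbot
      have hmem : (⟨x, Subgroup.mem_top _⟩ : (⊤ : Subgroup G)) ∈ MulAction.stabilizer (⊤ : Subgroup G) P := by
        rw [MulAction.mem_stabilizer_iff]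
        exact smul_self P x x.2
      rw [hbot, Subgroup.mem_bot] at hmem
      apply hx
      apply Subtype.ext
      exact congrArg (fun y : (⊤ : Subgroup G) => (y : G)) hmem

theorem exists_psl (h : Nat.card G = 360) : ∃ (K : Type) (_ : Field K) (_ : Fintype K),
    Fintype.card K = 9 ∧ Nonempty (G ≃* Matrix.ProjectiveSpecialLinearGroup (Fin 2) K) := by
  classical
  have := Fintype.ofFinite (Sylow 3 G)
  have h10 : Fintype.card (Sylow 3 G) = 10 := by rw [← Nat.card_eq_fintype_card, card_sylow3 h]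
  have hnt : Nontrivial (Sylow 3 G) := by
    rw [← Finite.one_lt_card_iff_nontrivial, card_sylow3 h]; norm_num
  obtain ⟨P, R, hne⟩ := exists_pair_ne (Sylow 3 G)
  obtain ⟨p, f, K, i1, i2, -, -, hK, hΩ, he⟩ := Cfsg.Agent.S0742.result (isZassenhaus h) hne
    (by rw [card_two_point h P R hne]; decide) (by rw [card_two_point h P R hne, h10])
  exact ⟨K, i1, i2, by omega, he⟩

/-- any two simple groups of order 360 are isomorphic -/
theorem nonempty_mulEquiv {H : Type*} [Group H] [Finite H] [IsSimpleGroup H]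
    (h : Nat.card G = 360) (h' : Nat.card H = 360) : Nonempty (G ≃* H) := by
  obtain ⟨K₁, _, _, hK₁, ⟨e₁⟩⟩ := exists_psl h
  obtain ⟨K₂, _, _, hK₂, ⟨e₂⟩⟩ := exists_psl h'
  obtain ⟨e₃⟩ := nonempty_psl_equiv (n := Fin 2) (FiniteField.ringEquivOfCardEq (hK₁.trans hK₂.symm))
  exact ⟨e₁.trans (e₃.trans e₂.symm)⟩

theorem nonempty_mulEquiv_alt (h : Nat.card G = 360) :
    Nonempty (G ≃* alternatingGroup (Fin 6)) := by
  have : IsSimpleGroup (alternatingGroup (Fin 6)) := alternatingGroup.isSimpleGroup (by simp)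
  apply nonempty_mulEquiv h
  have h2 := nat_card_alternatingGroup (α := Fin 6)
  rw [h2]
  simp [Nat.factorial]

end Cfsg.Agent.Lib.Helper75.Ord360
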