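import Mathlib
import Cfsg.Agent.Lib.Helper75.TIC2

/-!
# TI-subgroups inverted by an involution (Bender's counting lemma), part 3:
translation of the hypotheses, the case split and the arithmetic of the case `|C(z) : D| > 2`
-/

set_option autoImplicit false
set_option linter.unusedSectionVars false
set_option linter.unusedVariables false

namespace Cfsg.Agent.Lib.Helper75.Bend

open Cfsg.Agent.Lib.Helper75 Cfsg.Agent.Lib.Helper75.BSW

variable {G : Type*} [Group G] [Finite G] {M : Subgroup G} {z : G}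

theorem tic_of_hyp (hM1 : M ≠ ⊥)
    (hTI : ∀ g : G, M ⊓ M.map (MulAut.conj g).toMonoidHom ≠ ⊥ →
      M.map (MulAut.conj g).toMonoidHom = M)
    (hz : orderOf z = 2) (hzN : z ∈ Subgroup.normalizer (M : Set G))
    (hfac : M ⊔ (Subgroup.normalizer (M : Set G) ⊓ Subgroup.centralizer ({z} : Set G)) =
      Subgroup.normalizer (M : Set G))
    (hodd : ∀ x ∈ M, x ≠ 1 → Odd (Nat.card ↥(Subgroup.centralizer ({x} : Set G)))) :
    TIC M z := by
  refine ⟨hM1, ?_, hz, hzN, ?_, hodd⟩
  · intro g x hx hx1 hgx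
    have h1 : M ⊓ M.map (MulAut.conj g).toMonoidHom ≠ ⊥ := by
      intro e
      have hmem : g * x * g⁻¹ ∈ M ⊓ M.map (MulAut.conj g).toMonoidHom :=
        ⟨hgx, ⟨x, hx, by simp [MulAut.conj_apply]⟩⟩
      rw [e, Subgroup.mem_bot] at hmem
      apply hx1
      have : x = g⁻¹ * (g * x * g⁻¹) * g := by group
      rw [this, hmem]
      group
    have h2 := hTI g h1
    rw [Subgroup.mem_normalizer_iff]
    intro y
    constructor
    · intro hy
      rw [← h2]
      exact ⟨y, hy, by simp [MulAut.conj_apply]⟩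
    · intro hy
      rw [← h2] at hy
      obtain ⟨y', hy', e⟩ := hy
      have e' : g * y' * g⁻¹ = g * y * g⁻¹ := by simpa [MulAut.conj_apply] using e
      have : y' = y := by
        have := congrArg (fun t => g⁻¹ * t * g) e'
        simpa [mul_assoc] using this
      rwa [← this]
  · intro n hn
    rw [← hfac] at hn
    obtain ⟨a, ha, b, hb, e⟩ := exists_mul_of_mem_sup (N := M)
      (H := Subgroup.normalizer (M : Set G) ⊓ Subgroup.centralizer ({z} : Set G)) inf_le_left hn
    refine ⟨a, ha, b, hb.1, ?_, e⟩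
    exact (Subgroup.mem_centralizer_singleton_iff.1 hb.2)

theorem card_conj_mul (z : G) :
    Nat.card {y : G // IsConj z y} * Nat.card ↥(Subgroup.centralizer ({z} : Set G)) =
      Nat.card G := Cfsg.Agent.Lib.Helper3.card_isConj_mul_card_centralizer z

namespace TIS

/-- the case `|C(z) : D| > 2` -/
theorem caseB_sq (h : TIS M z) {u w : G} (huz : u * z = z * u)
    (huN : u ∉ Subgroup.normalizer (M : Set G)) (hwz : w * z = z * w)
    (hwN : w ∉ Subgroup.normalizer (M : Set G))
    (huw : u * w ∉ Subgroup.normalizer (M : Set G)) {d : G}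
    (hd : d ∈ Subgroup.normalizer (M : Set G)) (hdz : d * z = z * d) : d * d = 1 := by
  have h1 := h.inverts_of_comm huz huN hd hdz
  have h2 := h.inverts_of_comm hwz hwN hd hdz
  have huwz : (u * w) * z = z * (u * w) := by
    rw [mul_assoc, hwz, ← mul_assoc, huz, mul_assoc]
  have h3 := h.inverts_of_comm huwz huw hd hdz
  have h4 : u * w * d * (u * w)⁻¹ = d := by
    calc u * w * d * (u * w)⁻¹ = u * (w * d * w⁻¹) * u⁻¹ := by group
      _ = (u * d * u⁻¹)⁻¹ := by rw [h2]; group
      _ = d := by rw [h1, inv_inv]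
  rw [h4] at h3
  calc d * d = d * d⁻¹ := by rw [← h3]
    _ = 1 := mul_inv_cancel d

theorem caseB_D (h : TIS M z) (hsq : ∀ d ∈ Subgroup.normalizer (M : Set G), d * z = z * d →
    d * d = 1) {d : G} (hd : d ∈ Subgroup.normalizer (M : Set G)) (hdz : d * z = z * d) :
    d = 1 ∨ d = z := by
  by_cases hd1 : d = 1
  · exact Or.inl hd1
  · right
    have ho : orderOf d = 2 := orderOf_two_of (hsq d hd hdz) hd1
    obtain ⟨m, hm, rfl⟩ := h.tic.invol_eq hd ho
    have h3 : z * m = m * z := by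
      have e : z * m = (z * (m * z)) * z⁻¹ := by group
      rw [e, ← hdz]
      group
    rw [h.tic.eq_one_of_comm hm h.tic.hz h3, one_mul]

theorem caseB_C (h : TIS M z) (hsq : ∀ d ∈ Subgroup.normalizer (M : Set G), d * z = z * d →
    d * d = 1) (c : G) (hc : c * z = z * c) : c * c = 1 := by
  by_cases hcN : c ∈ Subgroup.normalizer (M : Set G)
  · exact hsq c hcN hc
  · exact mul_self_of_orderOf_two (h.invol_of_comm hc hcN)

theorem caseB_N (h : TIS M z) (hsq : ∀ d ∈ Subgroup.normalizer (M : Set G), d * z = z * d →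
    d * d = 1) (n : G) (hn : n ∈ Subgroup.normalizer (M : Set G)) : n ∈ M ∨ n * z ∈ M := by
  obtain ⟨m, hm, c, hcN, hcz, rfl⟩ := h.tic.fac n hn
  rcases h.caseB_D hsq hcN hcz with rfl | rfl
  · left
    rwa [mul_one]
  · right
    rw [mul_assoc, h.tic.z_mul, mul_one]
    exact hm

theorem caseB_cardD (h : TIS M z) (hsq : ∀ d ∈ Subgroup.normalizer (M : Set G), d * z = z * d →
    d * d = 1) :
    Nat.card ↥(Subgroup.normalizer (M : Set G) ⊓ Subgroup.centralizer ({z} : Set G)) = 2 := by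
  have e : Subgroup.normalizer (M : Set G) ⊓ Subgroup.centralizer ({z} : Set G) =
      Subgroup.zpowers z := by
    apply le_antisymm
    · intro d hd
      rcases h.caseB_D hsq hd.1 (Subgroup.mem_centralizer_singleton_iff.1 hd.2) with rfl | rfl
      · exact Subgroup.one_mem _
      · exact Subgroup.mem_zpowers _
    · rw [Subgroup.zpowers_le]
      exact ⟨h.tic.zN, Subgroup.mem_centralizer_singleton_iff.2 rfl⟩
  rw [e, Nat.card_zpowers, h.tic.hz]

end TIS

/-- the arithmetic of the case `|C(z) : D| > 2` -/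
theorem numB (μ q i iz F Gc j : ℕ) (hq : q = 2 ^ j) (hj : 2 ≤ j) (hμ : Odd μ) (hμ3 : 3 ≤ μ)
    (hG : Gc + 2 * μ ^ 2 = 2 * μ + μ ^ 2 * q) (hi : Gc + μ ^ 2 = 2 * μ + μ * i)
    (hz : iz * q = Gc) (hsum : i = iz + F) :
    (F = 0 → μ = q + 1) ∧
      (0 < F → μ = 2 ^ (j - 1) + 1 ∧ Gc = 2 * μ * 2 ^ (2 * (j - 1)) ∧ F = 2 ^ (2 * (j - 1)) - 1) := by
  obtain ⟨j', rfl⟩ : ∃ j', j = j' + 1 := ⟨j - 1, by omega⟩
  simp only [Nat.add_sub_cancel]
  obtain ⟨h, hh⟩ : ∃ h, h = 2 ^ j' := ⟨_, rfl⟩
  rw [← hh]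
  have hq' : q = 2 * h := by rw [hq, pow_succ, hh]; ring
  have hh2 : 2 ≤ h := by
    rw [hh]
    calc 2 = 2 ^ 1 := rfl
      _ ≤ 2 ^ j' := Nat.pow_le_pow_right (by norm_num) (by omega)
  have hsq : 2 ^ (2 * j') = h * h := by rw [hh, ← pow_add]; congr 1; ring
  rw [hsq]
  subst hq'
  obtain ⟨h', rfl⟩ : ∃ h', h = h' + 1 := ⟨h - 1, by omega⟩
  have hh1 : 1 ≤ h' := by omega
  -- `Gc = 2 μ (1 + μ h')`
  have hG' : Gc = 2 * μ * (1 + μ * h') := by nlinarith
  have hi' : i = μ * (2 * h' + 1) := by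
    have : μ * i = μ * (μ * (2 * h' + 1)) := by nlinarith
    exact Nat.eq_of_mul_eq_mul_left (by omega) this
  have hz' : iz * (h' + 1) = μ * (1 + μ * h') := by nlinarith
  have hcop : Nat.Coprime (h' + 1) μ := by
    rw [hh]
    exact Nat.Coprime.pow_left _ (Nat.coprime_two_left.2 hμ)
  have hdvd : (h' + 1) ∣ 1 + μ * h' := by
    have : (h' + 1) ∣ μ * (1 + μ * h') := ⟨iz, by rw [← hz']; ring⟩
    exact hcop.dvd_of_dvd_mul_left this
  have hdvd2 : (h' + 1) ∣ μ - 1 := by
    have e : μ - 1 = μ * (h' + 1) - (1 + μ * h') := by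
      have : μ * (h' + 1) = μ * h' + μ := by ring
      omega
    rw [e]
    exact Nat.dvd_sub (Dvd.intro_left _ rfl) hdvd
  obtain ⟨t, ht⟩ := hdvd2
  have hμt : μ = 1 + (h' + 1) * t := by omega
  have ht1 : 1 ≤ t := by
    rcases Nat.eq_zero_or_pos t with rfl | h0
    · omega
    · exact h0
  have hle : iz ≤ i := by omega
  have ht2 : t ≤ 2 := by
    by_contra hcon
    have ht3 : 3 ≤ t := by omega
    have h1 : iz * (h' + 1) ≤ i * (h' + 1) := Nat.mul_le_mul_right _ hle
    rw [hz', hi'] at h1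
    have h2 : 1 + μ * h' ≤ (2 * h' + 1) * (h' + 1) := by
      have : μ * (1 + μ * h') ≤ μ * ((2 * h' + 1) * (h' + 1)) := by nlinarith
      exact Nat.le_of_mul_le_mul_left this (by omega)
    rw [hμt] at h2
    nlinarith
  have ht' : t = 1 ∨ t = 2 := by omega
  rcases ht' with rfl | rfl
  · -- `μ = h + 1`
    have hμ' : μ = h' + 2 := by omega
    have hiz : iz = μ * (h' + 1) := by
      have : iz * (h' + 1) = (μ * (h' + 1)) * (h' + 1) := by
        rw [hz', hμ']; ring
      exact Nat.eq_of_mul_eq_mul_right (by omega) this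
    have hF : F = μ * h' := by
      have : iz + F = iz + μ * h' := by rw [← hsum, hi', hiz]; ring
      omega
    constructor
    · intro hF0
      rw [hF0] at hF
      have : 0 < μ * h' := Nat.mul_pos (by omega) (by omega)
      omega
    · intro _
      refine ⟨by omega, ?_, ?_⟩
      · rw [hG', hμ']; ring
      · rw [hF, hμ']
        have : (h' + 1) * (h' + 1) = (h' + 2) * h' + 1 := by ring
        omega
  · -- `μ = 2 h + 1`
    have hμ' : μ = 2 * h' + 3 := by omega
    have hiz : iz = i := by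
      have : iz * (h' + 1) = i * (h' + 1) := by
        rw [hz', hi', hμ']; ring
      exact Nat.eq_of_mul_eq_mul_right (by omega) this
    constructor
    · intro _
      omega
    · intro hF
      omega

end Cfsg.Agent.Lib.Helper75.Bend
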